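import Cfsg.Agent.Lib.Helper89.Mult.T2L1Fin0
import Cfsg.Agent.Lib.Helper89.Mult.T2L1Fin1

set_option autoImplicit false
set_option maxRecDepth 1000000
set_option maxHeartbeats 0
set_option Elab.async false

namespace Cfsg.Agent.Lib.Helper89.Mult.T2L1

open Cfsg.Agent.Lib.Helper89.CosetCert Cfsg.Agent.Lib.Helper89.SafePres

theorem fin_ok : cert.finOK = true := by
  refine Cert.finOK_of_rowsF cert rootsF roots_eq fin_head 234 8 (by decide) (by decide) ?_
  intro c hc
  interval_cases c
  · exact finrow_0
  · exact finrow_1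
  · exact finrow_2
  · exact finrow_3
  · exact finrow_4
  · exact finrow_5
  · exact finrow_6
  · exact finrow_7

end Cfsg.Agent.Lib.Helper89.Mult.T2L1
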