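import Cfsg.Agent.Lib.Helper89.Mult.T2L2Roots

set_option autoImplicit false
set_option maxRecDepth 1000000
set_option maxHeartbeats 0
set_option Elab.async false

namespace Cfsg.Agent.Lib.Helper89.Mult.T2L2

open Cfsg.Agent.Lib.Helper89.CosetCert Cfsg.Agent.Lib.Helper89.SafePres

theorem finrow_12 : (List.range' (12 * 200) 200).all (cert.finRowF rootsF) = true := by
  decide +kernel

theorem finrow_13 : (List.range' (13 * 200) 200).all (cert.finRowF rootsF) = true := by
  decide +kernel

theorem finrow_14 : (List.range' (14 * 200) 200).all (cert.finRowF rootsF) = true := by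
  decide +kernel

theorem finrow_15 : (List.range' (15 * 200) 200).all (cert.finRowF rootsF) = true := by
  decide +kernel


end Cfsg.Agent.Lib.Helper89.Mult.T2L2
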