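import Cfsg.Agent.Lib.Helper89.Mult.T2L2Fin0
import Cfsg.Agent.Lib.Helper89.Mult.T2L2Fin1
import Cfsg.Agent.Lib.Helper89.Mult.T2L2Fin2
import Cfsg.Agent.Lib.Helper89.Mult.T2L2Fin3

set_option autoImplicit false
set_option maxRecDepth 1000000
set_option maxHeartbeats 0
set_option Elab.async false

namespace Cfsg.Agent.Lib.Helper89.Mult.T2L2

open Cfsg.Agent.Lib.Helper89.CosetCert Cfsg.Agent.Lib.Helper89.SafePres

theorem fin_ok : cert.finOK = true := by
  refine Cert.finOK_of_rowsF cert rootsF roots_eq fin_head 200 16 (by decide) (by decide) ?_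
  intro c hc
  interval_cases c
  · exact finrow_0
  · exact finrow_1
  · exact finrow_2
  · exact finrow_3
  · exact finrow_4
  · exact finrow_5
  · exact finrow_6
  · exact finrow_7
  · exact finrow_8
  · exact finrow_9
  · exact finrow_10
  · exact finrow_11
  · exact finrow_12
  · exact finrow_13
  · exact finrow_14
  · exact finrow_15

end Cfsg.Agent.Lib.Helper89.Mult.T2L2
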