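import Cfsg.Agent.Lib.Helper89.Mult.T2L2Data

set_option autoImplicit false
set_option maxRecDepth 1000000
set_option maxHeartbeats 0
set_option Elab.async false

namespace Cfsg.Agent.Lib.Helper89.Mult.T2L2

open Cfsg.Agent.Lib.Helper89.CosetCert Cfsg.Agent.Lib.Helper89.SafePres

theorem chk66 : cert.checkSteps (cert.N - 1 + cert.j0 + steps0.length + steps1.length + steps2.length + steps3.length + steps4.length + steps5.length + steps6.length + steps7.length + steps8.length + steps9.length + steps10.length + steps11.length + steps12.length + steps13.length + steps14.length + steps15.length + steps16.length + steps17.length + steps18.length + steps19.length + steps20.length + steps21.length + steps22.length + steps23.length + steps24.length + steps25.length + steps26.length + steps27.length + steps28.length + steps29.length + steps30.length + steps31.length + steps32.length + steps33.length + steps34.length + steps35.length + steps36.length + steps37.length + steps38.length + steps39.length + steps40.length + steps41.length + steps42.length + steps43.length + steps44.length + steps45.length + steps46.length + steps47.length + steps48.length + steps49.length + steps50.length + steps51.length + steps52.length + steps53.length + steps54.length + steps55.length + steps56.length + steps57.length + steps58.length + steps59.length + steps60.length + steps61.length + steps62.length + steps63.length + steps64.length + steps65.length) steps66 = true := by decide +kernel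

theorem chk67 : cert.checkSteps (cert.N - 1 + cert.j0 + steps0.length + steps1.length + steps2.length + steps3.length + steps4.length + steps5.length + steps6.length + steps7.length + steps8.length + steps9.length + steps10.length + steps11.length + steps12.length + steps13.length + steps14.length + steps15.length + steps16.length + steps17.length + steps18.length + steps19.length + steps20.length + steps21.length + steps22.length + steps23.length + steps24.length + steps25.length + steps26.length + steps27.length + steps28.length + steps29.length + steps30.length + steps31.length + steps32.length + steps33.length + steps34.length + steps35.length + steps36.length + steps37.length + steps38.length + steps39.length + steps40.length + steps41.length + steps42.length + steps43.length + steps44.length + steps45.length + steps46.length + steps47.length + steps48.length + steps49.length + steps50.length + steps51.length + steps52.length + steps53.length + steps54.length + steps55.length + steps56.length + steps57.length + steps58.length + steps59.length + steps60.length + steps61.length + steps62.length + steps63.length + steps64.length + steps65.length + steps66.length) steps67 = true := by decide +kernel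

theorem chk68 : cert.checkSteps (cert.N - 1 + cert.j0 + steps0.length + steps1.length + steps2.length + steps3.length + steps4.length + steps5.length + steps6.length + steps7.length + steps8.length + steps9.length + steps10.length + steps11.length + steps12.length + steps13.length + steps14.length + steps15.length + steps16.length + steps17.length + steps18.length + steps19.length + steps20.length + steps21.length + steps22.length + steps23.length + steps24.length + steps25.length + steps26.length + steps27.length + steps28.length + steps29.length + steps30.length + steps31.length + steps32.length + steps33.length + steps34.length + steps35.length + steps36.length + steps37.length + steps38.length + steps39.length + steps40.length + steps41.length + steps42.length + steps43.length + steps44.length + steps45.length + steps46.length + steps47.length + steps48.length + steps49.length + steps50.length + steps51.length + steps52.length + steps53.length + steps54.length + steps55.length + steps56.length + steps57.length + steps58.length + steps59.length + steps60.length + steps61.length + steps62.length + steps63.length + steps64.length + steps65.length + steps66.length + steps67.length) steps68 = true := by decide +kernel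

theorem chk69 : cert.checkSteps (cert.N - 1 + cert.j0 + steps0.length + steps1.length + steps2.length + steps3.length + steps4.length + steps5.length + steps6.length + steps7.length + steps8.length + steps9.length + steps10.length + steps11.length + steps12.length + steps13.length + steps14.length + steps15.length + steps16.length + steps17.length + steps18.length + steps19.length + steps20.length + steps21.length + steps22.length + steps23.length + steps24.length + steps25.length + steps26.length + steps27.length + steps28.length + steps29.length + steps30.length + steps31.length + steps32.length + steps33.length + steps34.length + steps35.length + steps36.length + steps37.length + steps38.length + steps39.length + steps40.length + steps41.length + steps42.length + steps43.length + steps44.length + steps45.length + steps46.length + steps47.length + steps48.length + steps49.length + steps50.length + steps51.length + steps52.length + steps53.length + steps54.length + steps55.length + steps56.length + steps57.length + steps58.length + steps59.length + steps60.length + steps61.length + steps62.length + steps63.length + steps64.length + steps65.length + steps66.length + steps67.length + steps68.length) steps69 = true := by decide +kernel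

theorem chk70 : cert.checkSteps (cert.N - 1 + cert.j0 + steps0.length + steps1.length + steps2.length + steps3.length + steps4.length + steps5.length + steps6.length + steps7.length + steps8.length + steps9.length + steps10.length + steps11.length + steps12.length + steps13.length + steps14.length + steps15.length + steps16.length + steps17.length + steps18.length + steps19.length + steps20.length + steps21.length + steps22.length + steps23.length + steps24.length + steps25.length + steps26.length + steps27.length + steps28.length + steps29.length + steps30.length + steps31.length + steps32.length + steps33.length + steps34.length + steps35.length + steps36.length + steps37.length + steps38.length + steps39.length + steps40.length + steps41.length + steps42.length + steps43.length + steps44.length + steps45.length + steps46.length + steps47.length + steps48.length + steps49.length + steps50.length + steps51.length + steps52.length + steps53.length + steps54.length + steps55.length + steps56.length + steps57.length + steps58.length + steps59.length + steps60.length + steps61.length + steps62.length + steps63.length + steps64.length + steps65.length + steps66.length + steps67.length + steps68.length + steps69.length) steps70 = true := by decide +kernel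

theorem chk71 : cert.checkSteps (cert.N - 1 + cert.j0 + steps0.length + steps1.length + steps2.length + steps3.length + steps4.length + steps5.length + steps6.length + steps7.length + steps8.length + steps9.length + steps10.length + steps11.length + steps12.length + steps13.length + steps14.length + steps15.length + steps16.length + steps17.length + steps18.length + steps19.length + steps20.length + steps21.length + steps22.length + steps23.length + steps24.length + steps25.length + steps26.length + steps27.length + steps28.length + steps29.length + steps30.length + steps31.length + steps32.length + steps33.length + steps34.length + steps35.length + steps36.length + steps37.length + steps38.length + steps39.length + steps40.length + steps41.length + steps42.length + steps43.length + steps44.length + steps45.length + steps46.length + steps47.length + steps48.length + steps49.length + steps50.length + steps51.length + steps52.length + steps53.length + steps54.length + steps55.length + steps56.length + steps57.length + steps58.length + steps59.length + steps60.length + steps61.length + steps62.length + steps63.length + steps64.length + steps65.length + steps66.length + steps67.length + steps68.length + steps69.length + steps70.length) steps71 = true := by decide +kernel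

theorem chk72 : cert.checkSteps (cert.N - 1 + cert.j0 + steps0.length + steps1.length + steps2.length + steps3.length + steps4.length + steps5.length + steps6.length + steps7.length + steps8.length + steps9.length + steps10.length + steps11.length + steps12.length + steps13.length + steps14.length + steps15.length + steps16.length + steps17.length + steps18.length + steps19.length + steps20.length + steps21.length + steps22.length + steps23.length + steps24.length + steps25.length + steps26.length + steps27.length + steps28.length + steps29.length + steps30.length + steps31.length + steps32.length + steps33.length + steps34.length + steps35.length + steps36.length + steps37.length + steps38.length + steps39.length + steps40.length + steps41.length + steps42.length + steps43.length + steps44.length + steps45.length + steps46.length + steps47.length + steps48.length + steps49.length + steps50.length + steps51.length + steps52.length + steps53.length + steps54.length + steps55.length + steps56.length + steps57.length + steps58.length + steps59.length + steps60.length + steps61.length + steps62.length + steps63.length + steps64.length + steps65.length + steps66.length + steps67.length + steps68.length + steps69.length + steps70.length + steps71.length) steps72 = true := by decide +kernel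

theorem chk73 : cert.checkSteps (cert.N - 1 + cert.j0 + steps0.length + steps1.length + steps2.length + steps3.length + steps4.length + steps5.length + steps6.length + steps7.length + steps8.length + steps9.length + steps10.length + steps11.length + steps12.length + steps13.length + steps14.length + steps15.length + steps16.length + steps17.length + steps18.length + steps19.length + steps20.length + steps21.length + steps22.length + steps23.length + steps24.length + steps25.length + steps26.length + steps27.length + steps28.length + steps29.length + steps30.length + steps31.length + steps32.length + steps33.length + steps34.length + steps35.length + steps36.length + steps37.length + steps38.length + steps39.length + steps40.length + steps41.length + steps42.length + steps43.length + steps44.length + steps45.length + steps46.length + steps47.length + steps48.length + steps49.length + steps50.length + steps51.length + steps52.length + steps53.length + steps54.length + steps55.length + steps56.length + steps57.length + steps58.length + steps59.length + steps60.length + steps61.length + steps62.length + steps63.length + steps64.length + steps65.length + steps66.length + steps67.length + steps68.length + steps69.length + steps70.length + steps71.length + steps72.length) steps73 = true := by decide +kernel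

theorem chk74 : cert.checkSteps (cert.N - 1 + cert.j0 + steps0.length + steps1.length + steps2.length + steps3.length + steps4.length + steps5.length + steps6.length + steps7.length + steps8.length + steps9.length + steps10.length + steps11.length + steps12.length + steps13.length + steps14.length + steps15.length + steps16.length + steps17.length + steps18.length + steps19.length + steps20.length + steps21.length + steps22.length + steps23.length + steps24.length + steps25.length + steps26.length + steps27.length + steps28.length + steps29.length + steps30.length + steps31.length + steps32.length + steps33.length + steps34.length + steps35.length + steps36.length + steps37.length + steps38.length + steps39.length + steps40.length + steps41.length + steps42.length + steps43.length + steps44.length + steps45.length + steps46.length + steps47.length + steps48.length + steps49.length + steps50.length + steps51.length + steps52.length + steps53.length + steps54.length + steps55.length + steps56.length + steps57.length + steps58.length + steps59.length + steps60.length + steps61.length + steps62.length + steps63.length + steps64.length + steps65.length + steps66.length + steps67.length + steps68.length + steps69.length + steps70.length + steps71.length + steps72.length + steps73.length) steps74 = true := by decide +kernel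

theorem chk75 : cert.checkSteps (cert.N - 1 + cert.j0 + steps0.length + steps1.length + steps2.length + steps3.length + steps4.length + steps5.length + steps6.length + steps7.length + steps8.length + steps9.length + steps10.length + steps11.length + steps12.length + steps13.length + steps14.length + steps15.length + steps16.length + steps17.length + steps18.length + steps19.length + steps20.length + steps21.length + steps22.length + steps23.length + steps24.length + steps25.length + steps26.length + steps27.length + steps28.length + steps29.length + steps30.length + steps31.length + steps32.length + steps33.length + steps34.length + steps35.length + steps36.length + steps37.length + steps38.length + steps39.length + steps40.length + steps41.length + steps42.length + steps43.length + steps44.length + steps45.length + steps46.length + steps47.length + steps48.length + steps49.length + steps50.length + steps51.length + steps52.length + steps53.length + steps54.length + steps55.length + steps56.length + steps57.length + steps58.length + steps59.length + steps60.length + steps61.length + steps62.length + steps63.length + steps64.length + steps65.length + steps66.length + steps67.length + steps68.length + steps69.length + steps70.length + steps71.length + steps72.length + steps73.length + steps74.length) steps75 = true := by decide +kernel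

theorem chk76 : cert.checkSteps (cert.N - 1 + cert.j0 + steps0.length + steps1.length + steps2.length + steps3.length + steps4.length + steps5.length + steps6.length + steps7.length + steps8.length + steps9.length + steps10.length + steps11.length + steps12.length + steps13.length + steps14.length + steps15.length + steps16.length + steps17.length + steps18.length + steps19.length + steps20.length + steps21.length + steps22.length + steps23.length + steps24.length + steps25.length + steps26.length + steps27.length + steps28.length + steps29.length + steps30.length + steps31.length + steps32.length + steps33.length + steps34.length + steps35.length + steps36.length + steps37.length + steps38.length + steps39.length + steps40.length + steps41.length + steps42.length + steps43.length + steps44.length + steps45.length + steps46.length + steps47.length + steps48.length + steps49.length + steps50.length + steps51.length + steps52.length + steps53.length + steps54.length + steps55.length + steps56.length + steps57.length + steps58.length + steps59.length + steps60.length + steps61.length + steps62.length + steps63.length + steps64.length + steps65.length + steps66.length + steps67.length + steps68.length + steps69.length + steps70.length + steps71.length + steps72.length + steps73.length + steps74.length + steps75.length) steps76 = true := by decide +kernel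

theorem chk77 : cert.checkSteps (cert.N - 1 + cert.j0 + steps0.length + steps1.length + steps2.length + steps3.length + steps4.length + steps5.length + steps6.length + steps7.length + steps8.length + steps9.length + steps10.length + steps11.length + steps12.length + steps13.length + steps14.length + steps15.length + steps16.length + steps17.length + steps18.length + steps19.length + steps20.length + steps21.length + steps22.length + steps23.length + steps24.length + steps25.length + steps26.length + steps27.length + steps28.length + steps29.length + steps30.length + steps31.length + steps32.length + steps33.length + steps34.length + steps35.length + steps36.length + steps37.length + steps38.length + steps39.length + steps40.length + steps41.length + steps42.length + steps43.length + steps44.length + steps45.length + steps46.length + steps47.length + steps48.length + steps49.length + steps50.length + steps51.length + steps52.length + steps53.length + steps54.length + steps55.length + steps56.length + steps57.length + steps58.length + steps59.length + steps60.length + steps61.length + steps62.length + steps63.length + steps64.length + steps65.length + steps66.length + steps67.length + steps68.length + steps69.length + steps70.length + steps71.length + steps72.length + steps73.length + steps74.length + steps75.length + steps76.length) steps77 = true := by decide +kernel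

theorem chk78 : cert.checkSteps (cert.N - 1 + cert.j0 + steps0.length + steps1.length + steps2.length + steps3.length + steps4.length + steps5.length + steps6.length + steps7.length + steps8.length + steps9.length + steps10.length + steps11.length + steps12.length + steps13.length + steps14.length + steps15.length + steps16.length + steps17.length + steps18.length + steps19.length + steps20.length + steps21.length + steps22.length + steps23.length + steps24.length + steps25.length + steps26.length + steps27.length + steps28.length + steps29.length + steps30.length + steps31.length + steps32.length + steps33.length + steps34.length + steps35.length + steps36.length + steps37.length + steps38.length + steps39.length + steps40.length + steps41.length + steps42.length + steps43.length + steps44.length + steps45.length + steps46.length + steps47.length + steps48.length + steps49.length + steps50.length + steps51.length + steps52.length + steps53.length + steps54.length + steps55.length + steps56.length + steps57.length + steps58.length + steps59.length + steps60.length + steps61.length + steps62.length + steps63.length + steps64.length + steps65.length + steps66.length + steps67.length + steps68.length + steps69.length + steps70.length + steps71.length + steps72.length + steps73.length + steps74.length + steps75.length + steps76.length + steps77.length) steps78 = true := by decide +kernel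

theorem chk79 : cert.checkSteps (cert.N - 1 + cert.j0 + steps0.length + steps1.length + steps2.length + steps3.length + steps4.length + steps5.length + steps6.length + steps7.length + steps8.length + steps9.length + steps10.length + steps11.length + steps12.length + steps13.length + steps14.length + steps15.length + steps16.length + steps17.length + steps18.length + steps19.length + steps20.length + steps21.length + steps22.length + steps23.length + steps24.length + steps25.length + steps26.length + steps27.length + steps28.length + steps29.length + steps30.length + steps31.length + steps32.length + steps33.length + steps34.length + steps35.length + steps36.length + steps37.length + steps38.length + steps39.length + steps40.length + steps41.length + steps42.length + steps43.length + steps44.length + steps45.length + steps46.length + steps47.length + steps48.length + steps49.length + steps50.length + steps51.length + steps52.length + steps53.length + steps54.length + steps55.length + steps56.length + steps57.length + steps58.length + steps59.length + steps60.length + steps61.length + steps62.length + steps63.length + steps64.length + steps65.length + steps66.length + steps67.length + steps68.length + steps69.length + steps70.length + steps71.length + steps72.length + steps73.length + steps74.length + steps75.length + steps76.length + steps77.length + steps78.length) steps79 = true := by decide +kernel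

theorem chk80 : cert.checkSteps (cert.N - 1 + cert.j0 + steps0.length + steps1.length + steps2.length + steps3.length + steps4.length + steps5.length + steps6.length + steps7.length + steps8.length + steps9.length + steps10.length + steps11.length + steps12.length + steps13.length + steps14.length + steps15.length + steps16.length + steps17.length + steps18.length + steps19.length + steps20.length + steps21.length + steps22.length + steps23.length + steps24.length + steps25.length + steps26.length + steps27.length + steps28.length + steps29.length + steps30.length + steps31.length + steps32.length + steps33.length + steps34.length + steps35.length + steps36.length + steps37.length + steps38.length + steps39.length + steps40.length + steps41.length + steps42.length + steps43.length + steps44.length + steps45.length + steps46.length + steps47.length + steps48.length + steps49.length + steps50.length + steps51.length + steps52.length + steps53.length + steps54.length + steps55.length + steps56.length + steps57.length + steps58.length + steps59.length + steps60.length + steps61.length + steps62.length + steps63.length + steps64.length + steps65.length + steps66.length + steps67.length + steps68.length + steps69.length + steps70.length + steps71.length + steps72.length + steps73.length + steps74.length + steps75.length + steps76.length + steps77.length + steps78.length + steps79.length) steps80 = true := by decide +kernel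

theorem chk81 : cert.checkSteps (cert.N - 1 + cert.j0 + steps0.length + steps1.length + steps2.length + steps3.length + steps4.length + steps5.length + steps6.length + steps7.length + steps8.length + steps9.length + steps10.length + steps11.length + steps12.length + steps13.length + steps14.length + steps15.length + steps16.length + steps17.length + steps18.length + steps19.length + steps20.length + steps21.length + steps22.length + steps23.length + steps24.length + steps25.length + steps26.length + steps27.length + steps28.length + steps29.length + steps30.length + steps31.length + steps32.length + steps33.length + steps34.length + steps35.length + steps36.length + steps37.length + steps38.length + steps39.length + steps40.length + steps41.length + steps42.length + steps43.length + steps44.length + steps45.length + steps46.length + steps47.length + steps48.length + steps49.length + steps50.length + steps51.length + steps52.length + steps53.length + steps54.length + steps55.length + steps56.length + steps57.length + steps58.length + steps59.length + steps60.length + steps61.length + steps62.length + steps63.length + steps64.length + steps65.length + steps66.length + steps67.length + steps68.length + steps69.length + steps70.length + steps71.length + steps72.length + steps73.length + steps74.length + steps75.length + steps76.length + steps77.length + steps78.length + steps79.length + steps80.length) steps81 = true := by decide +kernel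

theorem chk82 : cert.checkSteps (cert.N - 1 + cert.j0 + steps0.length + steps1.length + steps2.length + steps3.length + steps4.length + steps5.length + steps6.length + steps7.length + steps8.length + steps9.length + steps10.length + steps11.length + steps12.length + steps13.length + steps14.length + steps15.length + steps16.length + steps17.length + steps18.length + steps19.length + steps20.length + steps21.length + steps22.length + steps23.length + steps24.length + steps25.length + steps26.length + steps27.length + steps28.length + steps29.length + steps30.length + steps31.length + steps32.length + steps33.length + steps34.length + steps35.length + steps36.length + steps37.length + steps38.length + steps39.length + steps40.length + steps41.length + steps42.length + steps43.length + steps44.length + steps45.length + steps46.length + steps47.length + steps48.length + steps49.length + steps50.length + steps51.length + steps52.length + steps53.length + steps54.length + steps55.length + steps56.length + steps57.length + steps58.length + steps59.length + steps60.length + steps61.length + steps62.length + steps63.length + steps64.length + steps65.length + steps66.length + steps67.length + steps68.length + steps69.length + steps70.length + steps71.length + steps72.length + steps73.length + steps74.length + steps75.length + steps76.length + steps77.length + steps78.length + steps79.length + steps80.length + steps81.length) steps82 = true := by decide +kernel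

theorem chk83 : cert.checkSteps (cert.N - 1 + cert.j0 + steps0.length + steps1.length + steps2.length + steps3.length + steps4.length + steps5.length + steps6.length + steps7.length + steps8.length + steps9.length + steps10.length + steps11.length + steps12.length + steps13.length + steps14.length + steps15.length + steps16.length + steps17.length + steps18.length + steps19.length + steps20.length + steps21.length + steps22.length + steps23.length + steps24.length + steps25.length + steps26.length + steps27.length + steps28.length + steps29.length + steps30.length + steps31.length + steps32.length + steps33.length + steps34.length + steps35.length + steps36.length + steps37.length + steps38.length + steps39.length + steps40.length + steps41.length + steps42.length + steps43.length + steps44.length + steps45.length + steps46.length + steps47.length + steps48.length + steps49.length + steps50.length + steps51.length + steps52.length + steps53.length + steps54.length + steps55.length + steps56.length + steps57.length + steps58.length + steps59.length + steps60.length + steps61.length + steps62.length + steps63.length + steps64.length + steps65.length + steps66.length + steps67.length + steps68.length + steps69.length + steps70.length + steps71.length + steps72.length + steps73.length + steps74.length + steps75.length + steps76.length + steps77.length + steps78.length + steps79.length + steps80.length + steps81.length + steps82.length) steps83 = true := by decide +kernel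

theorem chk84 : cert.checkSteps (cert.N - 1 + cert.j0 + steps0.length + steps1.length + steps2.length + steps3.length + steps4.length + steps5.length + steps6.length + steps7.length + steps8.length + steps9.length + steps10.length + steps11.length + steps12.length + steps13.length + steps14.length + steps15.length + steps16.length + steps17.length + steps18.length + steps19.length + steps20.length + steps21.length + steps22.length + steps23.length + steps24.length + steps25.length + steps26.length + steps27.length + steps28.length + steps29.length + steps30.length + steps31.length + steps32.length + steps33.length + steps34.length + steps35.length + steps36.length + steps37.length + steps38.length + steps39.length + steps40.length + steps41.length + steps42.length + steps43.length + steps44.length + steps45.length + steps46.length + steps47.length + steps48.length + steps49.length + steps50.length + steps51.length + steps52.length + steps53.length + steps54.length + steps55.length + steps56.length + steps57.length + steps58.length + steps59.length + steps60.length + steps61.length + steps62.length + steps63.length + steps64.length + steps65.length + steps66.length + steps67.length + steps68.length + steps69.length + steps70.length + steps71.length + steps72.length + steps73.length + steps74.length + steps75.length + steps76.length + steps77.length + steps78.length + steps79.length + steps80.length + steps81.length + steps82.length + steps83.length) steps84 = true := by decide +kernel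

theorem chk85 : cert.checkSteps (cert.N - 1 + cert.j0 + steps0.length + steps1.length + steps2.length + steps3.length + steps4.length + steps5.length + steps6.length + steps7.length + steps8.length + steps9.length + steps10.length + steps11.length + steps12.length + steps13.length + steps14.length + steps15.length + steps16.length + steps17.length + steps18.length + steps19.length + steps20.length + steps21.length + steps22.length + steps23.length + steps24.length + steps25.length + steps26.length + steps27.length + steps28.length + steps29.length + steps30.length + steps31.length + steps32.length + steps33.length + steps34.length + steps35.length + steps36.length + steps37.length + steps38.length + steps39.length + steps40.length + steps41.length + steps42.length + steps43.length + steps44.length + steps45.length + steps46.length + steps47.length + steps48.length + steps49.length + steps50.length + steps51.length + steps52.length + steps53.length + steps54.length + steps55.length + steps56.length + steps57.length + steps58.length + steps59.length + steps60.length + steps61.length + steps62.length + steps63.length + steps64.length + steps65.length + steps66.length + steps67.length + steps68.length + steps69.length + steps70.length + steps71.length + steps72.length + steps73.length + steps74.length + steps75.length + steps76.length + steps77.length + steps78.length + steps79.length + steps80.length + steps81.length + steps82.length + steps83.length + steps84.length) steps85 = true := by decide +kernel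

theorem chk86 : cert.checkSteps (cert.N - 1 + cert.j0 + steps0.length + steps1.length + steps2.length + steps3.length + steps4.length + steps5.length + steps6.length + steps7.length + steps8.length + steps9.length + steps10.length + steps11.length + steps12.length + steps13.length + steps14.length + steps15.length + steps16.length + steps17.length + steps18.length + steps19.length + steps20.length + steps21.length + steps22.length + steps23.length + steps24.length + steps25.length + steps26.length + steps27.length + steps28.length + steps29.length + steps30.length + steps31.length + steps32.length + steps33.length + steps34.length + steps35.length + steps36.length + steps37.length + steps38.length + steps39.length + steps40.length + steps41.length + steps42.length + steps43.length + steps44.length + steps45.length + steps46.length + steps47.length + steps48.length + steps49.length + steps50.length + steps51.length + steps52.length + steps53.length + steps54.length + steps55.length + steps56.length + steps57.length + steps58.length + steps59.length + steps60.length + steps61.length + steps62.length + steps63.length + steps64.length + steps65.length + steps66.length + steps67.length + steps68.length + steps69.length + steps70.length + steps71.length + steps72.length + steps73.length + steps74.length + steps75.length + steps76.length + steps77.length + steps78.length + steps79.length + steps80.length + steps81.length + steps82.length + steps83.length + steps84.length + steps85.length) steps86 = true := by decide +kernel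

theorem chk87 : cert.checkSteps (cert.N - 1 + cert.j0 + steps0.length + steps1.length + steps2.length + steps3.length + steps4.length + steps5.length + steps6.length + steps7.length + steps8.length + steps9.length + steps10.length + steps11.length + steps12.length + steps13.length + steps14.length + steps15.length + steps16.length + steps17.length + steps18.length + steps19.length + steps20.length + steps21.length + steps22.length + steps23.length + steps24.length + steps25.length + steps26.length + steps27.length + steps28.length + steps29.length + steps30.length + steps31.length + steps32.length + steps33.length + steps34.length + steps35.length + steps36.length + steps37.length + steps38.length + steps39.length + steps40.length + steps41.length + steps42.length + steps43.length + steps44.length + steps45.length + steps46.length + steps47.length + steps48.length + steps49.length + steps50.length + steps51.length + steps52.length + steps53.length + steps54.length + steps55.length + steps56.length + steps57.length + steps58.length + steps59.length + steps60.length + steps61.length + steps62.length + steps63.length + steps64.length + steps65.length + steps66.length + steps67.length + steps68.length + steps69.length + steps70.length + steps71.length + steps72.length + steps73.length + steps74.length + steps75.length + steps76.length + steps77.length + steps78.length + steps79.length + steps80.length + steps81.length + steps82.length + steps83.length + steps84.length + steps85.length + steps86.length) steps87 = true := by decide +kernel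

theorem chk88 : cert.checkSteps (cert.N - 1 + cert.j0 + steps0.length + steps1.length + steps2.length + steps3.length + steps4.length + steps5.length + steps6.length + steps7.length + steps8.length + steps9.length + steps10.length + steps11.length + steps12.length + steps13.length + steps14.length + steps15.length + steps16.length + steps17.length + steps18.length + steps19.length + steps20.length + steps21.length + steps22.length + steps23.length + steps24.length + steps25.length + steps26.length + steps27.length + steps28.length + steps29.length + steps30.length + steps31.length + steps32.length + steps33.length + steps34.length + steps35.length + steps36.length + steps37.length + steps38.length + steps39.length + steps40.length + steps41.length + steps42.length + steps43.length + steps44.length + steps45.length + steps46.length + steps47.length + steps48.length + steps49.length + steps50.length + steps51.length + steps52.length + steps53.length + steps54.length + steps55.length + steps56.length + steps57.length + steps58.length + steps59.length + steps60.length + steps61.length + steps62.length + steps63.length + steps64.length + steps65.length + steps66.length + steps67.length + steps68.length + steps69.length + steps70.length + steps71.length + steps72.length + steps73.length + steps74.length + steps75.length + steps76.length + steps77.length + steps78.length + steps79.length + steps80.length + steps81.length + steps82.length + steps83.length + steps84.length + steps85.length + steps86.length + steps87.length) steps88 = true := by decide +kernel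

theorem chk89 : cert.checkSteps (cert.N - 1 + cert.j0 + steps0.length + steps1.length + steps2.length + steps3.length + steps4.length + steps5.length + steps6.length + steps7.length + steps8.length + steps9.length + steps10.length + steps11.length + steps12.length + steps13.length + steps14.length + steps15.length + steps16.length + steps17.length + steps18.length + steps19.length + steps20.length + steps21.length + steps22.length + steps23.length + steps24.length + steps25.length + steps26.length + steps27.length + steps28.length + steps29.length + steps30.length + steps31.length + steps32.length + steps33.length + steps34.length + steps35.length + steps36.length + steps37.length + steps38.length + steps39.length + steps40.length + steps41.length + steps42.length + steps43.length + steps44.length + steps45.length + steps46.length + steps47.length + steps48.length + steps49.length + steps50.length + steps51.length + steps52.length + steps53.length + steps54.length + steps55.length + steps56.length + steps57.length + steps58.length + steps59.length + steps60.length + steps61.length + steps62.length + steps63.length + steps64.length + steps65.length + steps66.length + steps67.length + steps68.length + steps69.length + steps70.length + steps71.length + steps72.length + steps73.length + steps74.length + steps75.length + steps76.length + steps77.length + steps78.length + steps79.length + steps80.length + steps81.length + steps82.length + steps83.length + steps84.length + steps85.length + steps86.length + steps87.length + steps88.length) steps89 = true := by decide +kernel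

theorem chk90 : cert.checkSteps (cert.N - 1 + cert.j0 + steps0.length + steps1.length + steps2.length + steps3.length + steps4.length + steps5.length + steps6.length + steps7.length + steps8.length + steps9.length + steps10.length + steps11.length + steps12.length + steps13.length + steps14.length + steps15.length + steps16.length + steps17.length + steps18.length + steps19.length + steps20.length + steps21.length + steps22.length + steps23.length + steps24.length + steps25.length + steps26.length + steps27.length + steps28.length + steps29.length + steps30.length + steps31.length + steps32.length + steps33.length + steps34.length + steps35.length + steps36.length + steps37.length + steps38.length + steps39.length + steps40.length + steps41.length + steps42.length + steps43.length + steps44.length + steps45.length + steps46.length + steps47.length + steps48.length + steps49.length + steps50.length + steps51.length + steps52.length + steps53.length + steps54.length + steps55.length + steps56.length + steps57.length + steps58.length + steps59.length + steps60.length + steps61.length + steps62.length + steps63.length + steps64.length + steps65.length + steps66.length + steps67.length + steps68.length + steps69.length + steps70.length + steps71.length + steps72.length + steps73.length + steps74.length + steps75.length + steps76.length + steps77.length + steps78.length + steps79.length + steps80.length + steps81.length + steps82.length + steps83.length + steps84.length + steps85.length + steps86.length + steps87.length + steps88.length + steps89.length) steps90 = true := by decide +kernel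

theorem chk91 : cert.checkSteps (cert.N - 1 + cert.j0 + steps0.length + steps1.length + steps2.length + steps3.length + steps4.length + steps5.length + steps6.length + steps7.length + steps8.length + steps9.length + steps10.length + steps11.length + steps12.length + steps13.length + steps14.length + steps15.length + steps16.length + steps17.length + steps18.length + steps19.length + steps20.length + steps21.length + steps22.length + steps23.length + steps24.length + steps25.length + steps26.length + steps27.length + steps28.length + steps29.length + steps30.length + steps31.length + steps32.length + steps33.length + steps34.length + steps35.length + steps36.length + steps37.length + steps38.length + steps39.length + steps40.length + steps41.length + steps42.length + steps43.length + steps44.length + steps45.length + steps46.length + steps47.length + steps48.length + steps49.length + steps50.length + steps51.length + steps52.length + steps53.length + steps54.length + steps55.length + steps56.length + steps57.length + steps58.length + steps59.length + steps60.length + steps61.length + steps62.length + steps63.length + steps64.length + steps65.length + steps66.length + steps67.length + steps68.length + steps69.length + steps70.length + steps71.length + steps72.length + steps73.length + steps74.length + steps75.length + steps76.length + steps77.length + steps78.length + steps79.length + steps80.length + steps81.length + steps82.length + steps83.length + steps84.length + steps85.length + steps86.length + steps87.length + steps88.length + steps89.length + steps90.length) steps91 = true := by decide +kernel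

theorem chk92 : cert.checkSteps (cert.N - 1 + cert.j0 + steps0.length + steps1.length + steps2.length + steps3.length + steps4.length + steps5.length + steps6.length + steps7.length + steps8.length + steps9.length + steps10.length + steps11.length + steps12.length + steps13.length + steps14.length + steps15.length + steps16.length + steps17.length + steps18.length + steps19.length + steps20.length + steps21.length + steps22.length + steps23.length + steps24.length + steps25.length + steps26.length + steps27.length + steps28.length + steps29.length + steps30.length + steps31.length + steps32.length + steps33.length + steps34.length + steps35.length + steps36.length + steps37.length + steps38.length + steps39.length + steps40.length + steps41.length + steps42.length + steps43.length + steps44.length + steps45.length + steps46.length + steps47.length + steps48.length + steps49.length + steps50.length + steps51.length + steps52.length + steps53.length + steps54.length + steps55.length + steps56.length + steps57.length + steps58.length + steps59.length + steps60.length + steps61.length + steps62.length + steps63.length + steps64.length + steps65.length + steps66.length + steps67.length + steps68.length + steps69.length + steps70.length + steps71.length + steps72.length + steps73.length + steps74.length + steps75.length + steps76.length + steps77.length + steps78.length + steps79.length + steps80.length + steps81.length + steps82.length + steps83.length + steps84.length + steps85.length + steps86.length + steps87.length + steps88.length + steps89.length + steps90.length + steps91.length) steps92 = true := by decide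 +kernel

theorem chk93 : cert.checkSteps (cert.N - 1 + cert.j0 + steps0.length + steps1.length + steps2.length + steps3.length + steps4.length + steps5.length + steps6.length + steps7.length + steps8.length + steps9.length + steps10.length + steps11.length + steps12.length + steps13.length + steps14.length + steps15.length + steps16.length + steps17.length + steps18.length + steps19.length + steps20.length + steps21.length + steps22.length + steps23.length + steps24.length + steps25.length + steps26.length + steps27.length + steps28.length + steps29.length + steps30.length + steps31.length + steps32.length + steps33.length + steps34.length + steps35.length + steps36.length + steps37.length + steps38.length + steps39.length + steps40.length + steps41.length + steps42.length + steps43.length + steps44.length + steps45.length + steps46.length + steps47.length + steps48.length + steps49.length + steps50.length + steps51.length + steps52.length + steps53.length + steps54.length + steps55.length + steps56.length + steps57.length + steps58.length + steps59.length + steps60.length + steps61.length + steps62.length + steps63.length + steps64.length + steps65.length + steps66.length + steps67.length + steps68.length + steps69.length + steps70.length + steps71.length + steps72.length + steps73.length + steps74.length + steps75.length + steps76.length + steps77.length + steps78.length + steps79.length + steps80.length + steps81.length + steps82.length + steps83.length + steps84.length + steps85.length + steps86.length + steps87.length + steps88.length + steps89.length + steps90.length + steps91.length + steps92.length)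 steps93 = true := by decide +kernel

theorem chk94 : cert.checkSteps (cert.N - 1 + cert.j0 + steps0.length + steps1.length + steps2.length + steps3.length + steps4.length + steps5.length + steps6.length + steps7.length + steps8.length + steps9.length + steps10.length + steps11.length + steps12.length + steps13.length + steps14.length + steps15.length + steps16.length + steps17.length + steps18.length + steps19.length + steps20.length + steps21.length + steps22.length + steps23.length + steps24.length + steps25.length + steps26.length + steps27.length + steps28.length + steps29.length + steps30.length + steps31.length + steps32.length + steps33.length + steps34.length + steps35.length + steps36.length + steps37.length + steps38.length + steps39.length + steps40.length + steps41.length + steps42.length + steps43.length + steps44.length + steps45.length + steps46.length + steps47.length + steps48.length + steps49.length + steps50.length + steps51.length + steps52.length + steps53.length + steps54.length + steps55.length + steps56.length + steps57.length + steps58.length + steps59.length + steps60.length + steps61.length + steps62.length + steps63.length + steps64.length + steps65.length + steps66.length + steps67.length + steps68.length + steps69.length + steps70.length + steps71.length + steps72.length + steps73.length + steps74.length + steps75.length + steps76.length + steps77.length + steps78.length + steps79.length + steps80.length + steps81.length + steps82.length + steps83.length + steps84.length + steps85.length + steps86.length + steps87.length + steps88.length + steps89.length + steps90.length + steps91.length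 + steps92.length + steps93.length) steps94 = true := by decide +kernel

theorem chk95 : cert.checkSteps (cert.N - 1 + cert.j0 + steps0.length + steps1.length + steps2.length + steps3.length + steps4.length + steps5.length + steps6.length + steps7.length + steps8.length + steps9.length + steps10.length + steps11.length + steps12.length + steps13.length + steps14.length + steps15.length + steps16.length + steps17.length + steps18.length + steps19.length + steps20.length + steps21.length + steps22.length + steps23.length + steps24.length + steps25.length + steps26.length + steps27.length + steps28.length + steps29.length + steps30.length + steps31.length + steps32.length + steps33.length + steps34.length + steps35.length + steps36.length + steps37.length + steps38.length + steps39.length + steps40.length + steps41.length + steps42.length + steps43.length + steps44.length + steps45.length + steps46.length + steps47.length + steps48.length + steps49.length + steps50.length + steps51.length + steps52.length + steps53.length + steps54.length + steps55.length + steps56.length + steps57.length + steps58.length + steps59.length + steps60.length + steps61.length + steps62.length + steps63.length + steps64.length + steps65.length + steps66.length + steps67.length + steps68.length + steps69.length + steps70.length + steps71.length + steps72.length + steps73.length + steps74.length + steps75.length + steps76.length + steps77.length + steps78.length + steps79.length + steps80.length + steps81.length + steps82.length + steps83.length + steps84.length + steps85.length + steps86.length + steps87.length + steps88.length + steps89.length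 + steps90.length + steps91.length + steps92.length + steps93.length + steps94.length) steps95 = true := by decide +kernel

theorem chk96 : cert.checkSteps (cert.N - 1 + cert.j0 + steps0.length + steps1.length + steps2.length + steps3.length + steps4.length + steps5.length + steps6.length + steps7.length + steps8.length + steps9.length + steps10.length + steps11.length + steps12.length + steps13.length + steps14.length + steps15.length + steps16.length + steps17.length + steps18.length + steps19.length + steps20.length + steps21.length + steps22.length + steps23.length + steps24.length + steps25.length + steps26.length + steps27.length + steps28.length + steps29.length + steps30.length + steps31.length + steps32.length + steps33.length + steps34.length + steps35.length + steps36.length + steps37.length + steps38.length + steps39.length + steps40.length + steps41.length + steps42.length + steps43.length + steps44.length + steps45.length + steps46.length + steps47.length + steps48.length + steps49.length + steps50.length + steps51.length + steps52.length + steps53.length + steps54.length + steps55.length + steps56.length + steps57.length + steps58.length + steps59.length + steps60.length + steps61.length + steps62.length + steps63.length + steps64.length + steps65.length + steps66.length + steps67.length + steps68.length + steps69.length + steps70.length + steps71.length + steps72.length + steps73.length + steps74.length + steps75.length + steps76.length + steps77.length + steps78.length + steps79.length + steps80.length + steps81.length + steps82.length + steps83.length + steps84.length + steps85.length + steps86.length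 + steps87.length + steps88.length + steps89.length + steps90.length + steps91.length + steps92.length + steps93.length + steps94.length + steps95.length) steps96 = true := by decide +kernel

theorem chk97 : cert.checkSteps (cert.N - 1 + cert.j0 + steps0.length + steps1.length + steps2.length + steps3.length + steps4.length + steps5.length + steps6.length + steps7.length + steps8.length + steps9.length + steps10.length + steps11.length + steps12.length + steps13.length + steps14.length + steps15.length + steps16.length + steps17.length + steps18.length + steps19.length + steps20.length + steps21.length + steps22.length + steps23.length + steps24.length + steps25.length + steps26.length + steps27.length + steps28.length + steps29.length + steps30.length + steps31.length + steps32.length + steps33.length + steps34.length + steps35.length + steps36.length + steps37.length + steps38.length + steps39.length + steps40.length + steps41.length + steps42.length + steps43.length + steps44.length + steps45.length + steps46.length + steps47.length + steps48.length + steps49.length + steps50.length + steps51.length + steps52.length + steps53.length + steps54.length + steps55.length + steps56.length + steps57.length + steps58.length + steps59.length + steps60.length + steps61.length + steps62.length + steps63.length + steps64.length + steps65.length + steps66.length + steps67.length + steps68.length + steps69.length + steps70.length + steps71.length + steps72.length + steps73.length + steps74.length + steps75.length + steps76.length + steps77.length + steps78.length + steps79.length + steps80.length + steps81.length + steps82.length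 + steps83.length + steps84.length + steps85.length + steps86.length + steps87.length + steps88.length + steps89.length + steps90.length + steps91.length + steps92.length + steps93.length + steps94.length + steps95.length + steps96.length) steps97 = true := by decide +kernel

theorem chk98 : cert.checkSteps (cert.N - 1 + cert.j0 + steps0.length + steps1.length + steps2.length + steps3.length + steps4.length + steps5.length + steps6.length + steps7.length + steps8.length + steps9.length + steps10.length + steps11.length + steps12.length + steps13.length + steps14.length + steps15.length + steps16.length + steps17.length + steps18.length + steps19.length + steps20.length + steps21.length + steps22.length + steps23.length + steps24.length + steps25.length + steps26.length + steps27.length + steps28.length + steps29.length + steps30.length + steps31.length + steps32.length + steps33.length + steps34.length + steps35.length + steps36.length + steps37.length + steps38.length + steps39.length + steps40.length + steps41.length + steps42.length + steps43.length + steps44.length + steps45.length + steps46.length + steps47.length + steps48.length + steps49.length + steps50.length + steps51.length + steps52.length + steps53.length + steps54.length + steps55.length + steps56.length + steps57.length + steps58.length + steps59.length + steps60.length + steps61.length + steps62.length + steps63.length + steps64.length + steps65.length + steps66.length + steps67.length + steps68.length + steps69.length + steps70.length + steps71.length + steps72.length + steps73.length + steps74.length + steps75.length + steps76.length + steps77.length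 + steps78.length + steps79.length + steps80.length + steps81.length + steps82.length + steps83.length + steps84.length + steps85.length + steps86.length + steps87.length + steps88.length + steps89.length + steps90.length + steps91.length + steps92.length + steps93.length + steps94.length + steps95.length + steps96.length + steps97.length) steps98 = true := by decide +kernel

end Cfsg.Agent.Lib.Helper89.Mult.T2L2
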