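import Cfsg.Agent.Lib.Helper89.Mult.T2L2Data

set_option autoImplicit false
set_option maxRecDepth 1000000
set_option maxHeartbeats 0
set_option Elab.async false

namespace Cfsg.Agent.Lib.Helper89.Mult.T2L2

open Cfsg.Agent.Lib.Helper89.CosetCert Cfsg.Agent.Lib.Helper89.SafePres

theorem chk99 : cert.checkSteps (cert.N - 1 + cert.j0 + steps0.length + steps1.length + steps2.length + steps3.length + steps4.length + steps5.length + steps6.length + steps7.length + steps8.length + steps9.length + steps10.length + steps11.length + steps12.length + steps13.length + steps14.length + steps15.length + steps16.length + steps17.length + steps18.length + steps19.length + steps20.length + steps21.length + steps22.length + steps23.length + steps24.length + steps25.length + steps26.length + steps27.length + steps28.length + steps29.length + steps30.length + steps31.length + steps32.length + steps33.length + steps34.length + steps35.length + steps36.length + steps37.length + steps38.length + steps39.length + steps40.length + steps41.length + steps42.length + steps43.length + steps44.length + steps45.length + steps46.length + steps47.length + steps48.length + steps49.length + steps50.length + steps51.length + steps52.length + steps53.length + steps54.length + steps55.length + steps56.length + steps57.length + steps58.length + steps59.length + steps60.length + steps61.length + steps62.length + steps63.length + steps64.length + steps65.length + steps66.length + steps67.length + steps68.length + steps69.length + steps70.length + steps71.length + steps72.length + steps73.length + steps74.length + steps75.length + steps76.length + steps77.length + steps78.length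 + steps79.length + steps80.length + steps81.length + steps82.length + steps83.length + steps84.length + steps85.length + steps86.length + steps87.length + steps88.length + steps89.length + steps90.length + steps91.length + steps92.length + steps93.length + steps94.length + steps95.length + steps96.length + steps97.length + steps98.length) steps99 = true := by decide +kernel

theorem chk100 : cert.checkSteps (cert.N - 1 + cert.j0 + steps0.length + steps1.length + steps2.length + steps3.length + steps4.length + steps5.length + steps6.length + steps7.length + steps8.length + steps9.length + steps10.length + steps11.length + steps12.length + steps13.length + steps14.length + steps15.length + steps16.length + steps17.length + steps18.length + steps19.length + steps20.length + steps21.length + steps22.length + steps23.length + steps24.length + steps25.length + steps26.length + steps27.length + steps28.length + steps29.length + steps30.length + steps31.length + steps32.length + steps33.length + steps34.length + steps35.length + steps36.length + steps37.length + steps38.length + steps39.length + steps40.length + steps41.length + steps42.length + steps43.length + steps44.length + steps45.length + steps46.length + steps47.length + steps48.length + steps49.length + steps50.length + steps51.length + steps52.length + steps53.length + steps54.length + steps55.length + steps56.length + steps57.length + steps58.length + steps59.length + steps60.length + steps61.length + steps62.length + steps63.length + steps64.length + steps65.length + steps66.length + steps67.length + steps68.length + steps69.length + steps70.length + steps71.length + steps72.length +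 steps73.length + steps74.length + steps75.length + steps76.length + steps77.length + steps78.length + steps79.length + steps80.length + steps81.length + steps82.length + steps83.length + steps84.length + steps85.length + steps86.length + steps87.length + steps88.length + steps89.length + steps90.length + steps91.length + steps92.length + steps93.length + steps94.length + steps95.length + steps96.length + steps97.length + steps98.length + steps99.length) steps100 = true := by decide +kernel

theorem chk101 : cert.checkSteps (cert.N - 1 + cert.j0 + steps0.length + steps1.length + steps2.length + steps3.length + steps4.length + steps5.length + steps6.length + steps7.length + steps8.length + steps9.length + steps10.length + steps11.length + steps12.length + steps13.length + steps14.length + steps15.length + steps16.length + steps17.length + steps18.length + steps19.length + steps20.length + steps21.length + steps22.length + steps23.length + steps24.length + steps25.length + steps26.length + steps27.length + steps28.length + steps29.length + steps30.length + steps31.length + steps32.length + steps33.length + steps34.length + steps35.length + steps36.length + steps37.length + steps38.length + steps39.length + steps40.length + steps41.length + steps42.length + steps43.length + steps44.length + steps45.length + steps46.length + steps47.length + steps48.length + steps49.length + steps50.length + steps51.length + steps52.length + steps53.length + steps54.length + steps55.length + steps56.length + steps57.length + steps58.length + steps59.length + steps60.length + steps61.length + steps62.length + steps63.length + steps64.length + steps65.length +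 steps66.length + steps67.length + steps68.length + steps69.length + steps70.length + steps71.length + steps72.length + steps73.length + steps74.length + steps75.length + steps76.length + steps77.length + steps78.length + steps79.length + steps80.length + steps81.length + steps82.length + steps83.length + steps84.length + steps85.length + steps86.length + steps87.length + steps88.length + steps89.length + steps90.length + steps91.length + steps92.length + steps93.length + steps94.length + steps95.length + steps96.length + steps97.length + steps98.length + steps99.length + steps100.length) steps101 = true := by decide +kernel

theorem chk102 : cert.checkSteps (cert.N - 1 + cert.j0 + steps0.length + steps1.length + steps2.length + steps3.length + steps4.length + steps5.length + steps6.length + steps7.length + steps8.length + steps9.length + steps10.length + steps11.length + steps12.length + steps13.length + steps14.length + steps15.length + steps16.length + steps17.length + steps18.length + steps19.length + steps20.length + steps21.length + steps22.length + steps23.length + steps24.length + steps25.length + steps26.length + steps27.length + steps28.length + steps29.length + steps30.length + steps31.length + steps32.length + steps33.length + steps34.length + steps35.length + steps36.length + steps37.length + steps38.length + steps39.length + steps40.length + steps41.length + steps42.length + steps43.length + steps44.length + steps45.length + steps46.length + steps47.length + steps48.length + steps49.length + steps50.length + steps51.length + steps52.length + steps53.length + steps54.length + steps55.length + steps56.length + steps57.length +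 steps58.length + steps59.length + steps60.length + steps61.length + steps62.length + steps63.length + steps64.length + steps65.length + steps66.length + steps67.length + steps68.length + steps69.length + steps70.length + steps71.length + steps72.length + steps73.length + steps74.length + steps75.length + steps76.length + steps77.length + steps78.length + steps79.length + steps80.length + steps81.length + steps82.length + steps83.length + steps84.length + steps85.length + steps86.length + steps87.length + steps88.length + steps89.length + steps90.length + steps91.length + steps92.length + steps93.length + steps94.length + steps95.length + steps96.length + steps97.length + steps98.length + steps99.length + steps100.length + steps101.length) steps102 = true := by decide +kernel

theorem chk103 : cert.checkSteps (cert.N - 1 + cert.j0 + steps0.length + steps1.length + steps2.length + steps3.length + steps4.length + steps5.length + steps6.length + steps7.length + steps8.length + steps9.length + steps10.length + steps11.length + steps12.length + steps13.length + steps14.length + steps15.length + steps16.length + steps17.length + steps18.length + steps19.length + steps20.length + steps21.length + steps22.length + steps23.length + steps24.length + steps25.length + steps26.length + steps27.length + steps28.length + steps29.length + steps30.length + steps31.length + steps32.length + steps33.length + steps34.length + steps35.length + steps36.length + steps37.length + steps38.length + steps39.length + steps40.length + steps41.length + steps42.length + steps43.length + steps44.length + steps45.length + steps46.length + steps47.length + steps48.length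 + steps49.length + steps50.length + steps51.length + steps52.length + steps53.length + steps54.length + steps55.length + steps56.length + steps57.length + steps58.length + steps59.length + steps60.length + steps61.length + steps62.length + steps63.length + steps64.length + steps65.length + steps66.length + steps67.length + steps68.length + steps69.length + steps70.length + steps71.length + steps72.length + steps73.length + steps74.length + steps75.length + steps76.length + steps77.length + steps78.length + steps79.length + steps80.length + steps81.length + steps82.length + steps83.length + steps84.length + steps85.length + steps86.length + steps87.length + steps88.length + steps89.length + steps90.length + steps91.length + steps92.length + steps93.length + steps94.length + steps95.length + steps96.length + steps97.length + steps98.length + steps99.length + steps100.length + steps101.length + steps102.length) steps103 = true := by decide +kernel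

theorem chk104 : cert.checkSteps (cert.N - 1 + cert.j0 + steps0.length + steps1.length + steps2.length + steps3.length + steps4.length + steps5.length + steps6.length + steps7.length + steps8.length + steps9.length + steps10.length + steps11.length + steps12.length + steps13.length + steps14.length + steps15.length + steps16.length + steps17.length + steps18.length + steps19.length + steps20.length + steps21.length + steps22.length + steps23.length + steps24.length + steps25.length + steps26.length + steps27.length + steps28.length + steps29.length + steps30.length + steps31.length + steps32.length + steps33.length + steps34.length + steps35.length + steps36.length + steps37.length + steps38.length + steps39.length + steps40.length + steps41.length + steps42.length + steps43.length + steps44.length + steps45.length + steps46.length + steps47.length + steps48.length + steps49.length + steps50.length + steps51.length + steps52.length + steps53.length + steps54.length + steps55.length + steps56.length + steps57.length + steps58.length + steps59.length + steps60.length + steps61.length + steps62.length + steps63.length + steps64.length + steps65.length + steps66.length + steps67.length + steps68.length + steps69.length + steps70.length + steps71.length + steps72.length + steps73.length + steps74.length + steps75.length + steps76.length + steps77.length + steps78.length + steps79.length + steps80.length + steps81.length + steps82.length + steps83.length + steps84.length + steps85.length + steps86.length + steps87.length + steps88.length + steps89.length + steps90.length + steps91.length + steps92.length + steps93.length + steps94.length + steps95.length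 + steps96.length + steps97.length + steps98.length + steps99.length + steps100.length + steps101.length + steps102.length + steps103.length) steps104 = true := by decide +kernel

theorem chk105 : cert.checkSteps (cert.N - 1 + cert.j0 + steps0.length + steps1.length + steps2.length + steps3.length + steps4.length + steps5.length + steps6.length + steps7.length + steps8.length + steps9.length + steps10.length + steps11.length + steps12.length + steps13.length + steps14.length + steps15.length + steps16.length + steps17.length + steps18.length + steps19.length + steps20.length + steps21.length + steps22.length + steps23.length + steps24.length + steps25.length + steps26.length + steps27.length + steps28.length + steps29.length + steps30.length + steps31.length + steps32.length + steps33.length + steps34.length + steps35.length + steps36.length + steps37.length + steps38.length + steps39.length + steps40.length + steps41.length + steps42.length + steps43.length + steps44.length + steps45.length + steps46.length + steps47.length + steps48.length + steps49.length + steps50.length + steps51.length + steps52.length + steps53.length + steps54.length + steps55.length + steps56.length + steps57.length + steps58.length + steps59.length + steps60.length + steps61.length + steps62.length + steps63.length + steps64.length + steps65.length + steps66.length + steps67.length + steps68.length + steps69.length + steps70.length + steps71.length + steps72.length + steps73.length + steps74.length + steps75.length + steps76.length + steps77.length + steps78.length + steps79.length + steps80.length + steps81.length + steps82.length + steps83.length + steps84.length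 + steps85.length + steps86.length + steps87.length + steps88.length + steps89.length + steps90.length + steps91.length + steps92.length + steps93.length + steps94.length + steps95.length + steps96.length + steps97.length + steps98.length + steps99.length + steps100.length + steps101.length + steps102.length + steps103.length + steps104.length) steps105 = true := by decide +kernel

theorem chk106 : cert.checkSteps (cert.N - 1 + cert.j0 + steps0.length + steps1.length + steps2.length + steps3.length + steps4.length + steps5.length + steps6.length + steps7.length + steps8.length + steps9.length + steps10.length + steps11.length + steps12.length + steps13.length + steps14.length + steps15.length + steps16.length + steps17.length + steps18.length + steps19.length + steps20.length + steps21.length + steps22.length + steps23.length + steps24.length + steps25.length + steps26.length + steps27.length + steps28.length + steps29.length + steps30.length + steps31.length + steps32.length + steps33.length + steps34.length + steps35.length + steps36.length + steps37.length + steps38.length + steps39.length + steps40.length + steps41.length + steps42.length + steps43.length + steps44.length + steps45.length + steps46.length + steps47.length + steps48.length + steps49.length + steps50.length + steps51.length + steps52.length + steps53.length + steps54.length + steps55.length + steps56.length + steps57.length + steps58.length + steps59.length + steps60.length + steps61.length + steps62.length + steps63.length + steps64.length + steps65.length + steps66.length + steps67.length + steps68.length + steps69.length + steps70.length + steps71.length + steps72.length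 + steps73.length + steps74.length + steps75.length + steps76.length + steps77.length + steps78.length + steps79.length + steps80.length + steps81.length + steps82.length + steps83.length + steps84.length + steps85.length + steps86.length + steps87.length + steps88.length + steps89.length + steps90.length + steps91.length + steps92.length + steps93.length + steps94.length + steps95.length + steps96.length + steps97.length + steps98.length + steps99.length + steps100.length + steps101.length + steps102.length + steps103.length + steps104.length + steps105.length) steps106 = true := by decide +kernel

theorem chk107 : cert.checkSteps (cert.N - 1 + cert.j0 + steps0.length + steps1.length + steps2.length + steps3.length + steps4.length + steps5.length + steps6.length + steps7.length + steps8.length + steps9.length + steps10.length + steps11.length + steps12.length + steps13.length + steps14.length + steps15.length + steps16.length + steps17.length + steps18.length + steps19.length + steps20.length + steps21.length + steps22.length + steps23.length + steps24.length + steps25.length + steps26.length + steps27.length + steps28.length + steps29.length + steps30.length + steps31.length + steps32.length + steps33.length + steps34.length + steps35.length + steps36.length + steps37.length + steps38.length + steps39.length + steps40.length + steps41.length + steps42.length + steps43.length + steps44.length + steps45.length + steps46.length + steps47.length + steps48.length + steps49.length + steps50.length + steps51.length + steps52.length + steps53.length + steps54.length + steps55.length + steps56.length + steps57.length + steps58.length + steps59.length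 + steps60.length + steps61.length + steps62.length + steps63.length + steps64.length + steps65.length + steps66.length + steps67.length + steps68.length + steps69.length + steps70.length + steps71.length + steps72.length + steps73.length + steps74.length + steps75.length + steps76.length + steps77.length + steps78.length + steps79.length + steps80.length + steps81.length + steps82.length + steps83.length + steps84.length + steps85.length + steps86.length + steps87.length + steps88.length + steps89.length + steps90.length + steps91.length + steps92.length + steps93.length + steps94.length + steps95.length + steps96.length + steps97.length + steps98.length + steps99.length + steps100.length + steps101.length + steps102.length + steps103.length + steps104.length + steps105.length + steps106.length) steps107 = true := by decide +kernel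

theorem chk108 : cert.checkSteps (cert.N - 1 + cert.j0 + steps0.length + steps1.length + steps2.length + steps3.length + steps4.length + steps5.length + steps6.length + steps7.length + steps8.length + steps9.length + steps10.length + steps11.length + steps12.length + steps13.length + steps14.length + steps15.length + steps16.length + steps17.length + steps18.length + steps19.length + steps20.length + steps21.length + steps22.length + steps23.length + steps24.length + steps25.length + steps26.length + steps27.length + steps28.length + steps29.length + steps30.length + steps31.length + steps32.length + steps33.length + steps34.length + steps35.length + steps36.length + steps37.length + steps38.length + steps39.length + steps40.length + steps41.length + steps42.length + steps43.length + steps44.length + steps45.length + steps46.length + steps47.length + steps48.length + steps49.length + steps50.length + steps51.length + steps52.length + steps53.length + steps54.length + steps55.length + steps56.length + steps57.length + steps58.length + steps59.length + steps60.length + steps61.length + steps62.length + steps63.length + steps64.length + steps65.length + steps66.length + steps67.length + steps68.length + steps69.length + steps70.length + steps71.length + steps72.length + steps73.length + steps74.length + steps75.length + steps76.length + steps77.length + steps78.length + steps79.length + steps80.length + steps81.length + steps82.length + steps83.length + steps84.length + steps85.length + steps86.length + steps87.length + steps88.length + steps89.length + steps90.length + steps91.length + steps92.length + steps93.length + steps94.length + steps95.length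 + steps96.length + steps97.length + steps98.length + steps99.length + steps100.length + steps101.length + steps102.length + steps103.length + steps104.length + steps105.length + steps106.length + steps107.length) steps108 = true := by decide +kernel

theorem chk109 : cert.checkSteps (cert.N - 1 + cert.j0 + steps0.length + steps1.length + steps2.length + steps3.length + steps4.length + steps5.length + steps6.length + steps7.length + steps8.length + steps9.length + steps10.length + steps11.length + steps12.length + steps13.length + steps14.length + steps15.length + steps16.length + steps17.length + steps18.length + steps19.length + steps20.length + steps21.length + steps22.length + steps23.length + steps24.length + steps25.length + steps26.length + steps27.length + steps28.length + steps29.length + steps30.length + steps31.length + steps32.length + steps33.length + steps34.length + steps35.length + steps36.length + steps37.length + steps38.length + steps39.length + steps40.length + steps41.length + steps42.length + steps43.length + steps44.length + steps45.length + steps46.length + steps47.length + steps48.length + steps49.length + steps50.length + steps51.length + steps52.length + steps53.length + steps54.length + steps55.length + steps56.length + steps57.length + steps58.length + steps59.length + steps60.length + steps61.length + steps62.length + steps63.length + steps64.length + steps65.length + steps66.length + steps67.length + steps68.length + steps69.length + steps70.length + steps71.length + steps72.length + steps73.length + steps74.length + steps75.length + steps76.length + steps77.length + steps78.length + steps79.length + steps80.length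 + steps81.length + steps82.length + steps83.length + steps84.length + steps85.length + steps86.length + steps87.length + steps88.length + steps89.length + steps90.length + steps91.length + steps92.length + steps93.length + steps94.length + steps95.length + steps96.length + steps97.length + steps98.length + steps99.length + steps100.length + steps101.length + steps102.length + steps103.length + steps104.length + steps105.length + steps106.length + steps107.length + steps108.length) steps109 = true := by decide +kernel

theorem chk110 : cert.checkSteps (cert.N - 1 + cert.j0 + steps0.length + steps1.length + steps2.length + steps3.length + steps4.length + steps5.length + steps6.length + steps7.length + steps8.length + steps9.length + steps10.length + steps11.length + steps12.length + steps13.length + steps14.length + steps15.length + steps16.length + steps17.length + steps18.length + steps19.length + steps20.length + steps21.length + steps22.length + steps23.length + steps24.length + steps25.length + steps26.length + steps27.length + steps28.length + steps29.length + steps30.length + steps31.length + steps32.length + steps33.length + steps34.length + steps35.length + steps36.length + steps37.length + steps38.length + steps39.length + steps40.length + steps41.length + steps42.length + steps43.length + steps44.length + steps45.length + steps46.length + steps47.length + steps48.length + steps49.length + steps50.length + steps51.length + steps52.length + steps53.length + steps54.length + steps55.length + steps56.length + steps57.length + steps58.length + steps59.length + steps60.length + steps61.length + steps62.length + steps63.length + steps64.length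 + steps65.length + steps66.length + steps67.length + steps68.length + steps69.length + steps70.length + steps71.length + steps72.length + steps73.length + steps74.length + steps75.length + steps76.length + steps77.length + steps78.length + steps79.length + steps80.length + steps81.length + steps82.length + steps83.length + steps84.length + steps85.length + steps86.length + steps87.length + steps88.length + steps89.length + steps90.length + steps91.length + steps92.length + steps93.length + steps94.length + steps95.length + steps96.length + steps97.length + steps98.length + steps99.length + steps100.length + steps101.length + steps102.length + steps103.length + steps104.length + steps105.length + steps106.length + steps107.length + steps108.length + steps109.length) steps110 = true := by decide +kernel

theorem chk111 : cert.checkSteps (cert.N - 1 + cert.j0 + steps0.length + steps1.length + steps2.length + steps3.length + steps4.length + steps5.length + steps6.length + steps7.length + steps8.length + steps9.length + steps10.length + steps11.length + steps12.length + steps13.length + steps14.length + steps15.length + steps16.length + steps17.length + steps18.length + steps19.length + steps20.length + steps21.length + steps22.length + steps23.length + steps24.length + steps25.length + steps26.length + steps27.length + steps28.length + steps29.length + steps30.length + steps31.length + steps32.length + steps33.length + steps34.length + steps35.length + steps36.length + steps37.length + steps38.length + steps39.length + steps40.length + steps41.length + steps42.length + steps43.length + steps44.length + steps45.length + steps46.length + steps47.length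 + steps48.length + steps49.length + steps50.length + steps51.length + steps52.length + steps53.length + steps54.length + steps55.length + steps56.length + steps57.length + steps58.length + steps59.length + steps60.length + steps61.length + steps62.length + steps63.length + steps64.length + steps65.length + steps66.length + steps67.length + steps68.length + steps69.length + steps70.length + steps71.length + steps72.length + steps73.length + steps74.length + steps75.length + steps76.length + steps77.length + steps78.length + steps79.length + steps80.length + steps81.length + steps82.length + steps83.length + steps84.length + steps85.length + steps86.length + steps87.length + steps88.length + steps89.length + steps90.length + steps91.length + steps92.length + steps93.length + steps94.length + steps95.length + steps96.length + steps97.length + steps98.length + steps99.length + steps100.length + steps101.length + steps102.length + steps103.length + steps104.length + steps105.length + steps106.length + steps107.length + steps108.length + steps109.length + steps110.length) steps111 = true := by decide +kernel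

theorem chk112 : cert.checkSteps (cert.N - 1 + cert.j0 + steps0.length + steps1.length + steps2.length + steps3.length + steps4.length + steps5.length + steps6.length + steps7.length + steps8.length + steps9.length + steps10.length + steps11.length + steps12.length + steps13.length + steps14.length + steps15.length + steps16.length + steps17.length + steps18.length + steps19.length + steps20.length + steps21.length + steps22.length + steps23.length + steps24.length + steps25.length + steps26.length + steps27.length + steps28.length + steps29.length + steps30.length + steps31.length + steps32.length + steps33.length + steps34.length + steps35.length + steps36.length + steps37.length + steps38.length + steps39.length + steps40.length + steps41.length + steps42.length + steps43.length + steps44.length + steps45.length + steps46.length + steps47.length + steps48.length + steps49.length + steps50.length + steps51.length + steps52.length + steps53.length + steps54.length + steps55.length + steps56.length + steps57.length + steps58.length + steps59.length + steps60.length + steps61.length + steps62.length + steps63.length + steps64.length + steps65.length + steps66.length + steps67.length + steps68.length + steps69.length + steps70.length + steps71.length + steps72.length + steps73.length + steps74.length + steps75.length + steps76.length + steps77.length + steps78.length + steps79.length + steps80.length + steps81.length + steps82.length + steps83.length + steps84.length + steps85.length + steps86.length + steps87.length + steps88.length + steps89.length + steps90.length + steps91.length + steps92.length + steps93.length + steps94.length + steps95.length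 + steps96.length + steps97.length + steps98.length + steps99.length + steps100.length + steps101.length + steps102.length + steps103.length + steps104.length + steps105.length + steps106.length + steps107.length + steps108.length + steps109.length + steps110.length + steps111.length) steps112 = true := by decide +kernel

theorem chk113 : cert.checkSteps (cert.N - 1 + cert.j0 + steps0.length + steps1.length + steps2.length + steps3.length + steps4.length + steps5.length + steps6.length + steps7.length + steps8.length + steps9.length + steps10.length + steps11.length + steps12.length + steps13.length + steps14.length + steps15.length + steps16.length + steps17.length + steps18.length + steps19.length + steps20.length + steps21.length + steps22.length + steps23.length + steps24.length + steps25.length + steps26.length + steps27.length + steps28.length + steps29.length + steps30.length + steps31.length + steps32.length + steps33.length + steps34.length + steps35.length + steps36.length + steps37.length + steps38.length + steps39.length + steps40.length + steps41.length + steps42.length + steps43.length + steps44.length + steps45.length + steps46.length + steps47.length + steps48.length + steps49.length + steps50.length + steps51.length + steps52.length + steps53.length + steps54.length + steps55.length + steps56.length + steps57.length + steps58.length + steps59.length + steps60.length + steps61.length + steps62.length + steps63.length + steps64.length + steps65.length + steps66.length + steps67.length + steps68.length + steps69.length + steps70.length + steps71.length + steps72.length + steps73.length + steps74.length + steps75.length + steps76.length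 + steps77.length + steps78.length + steps79.length + steps80.length + steps81.length + steps82.length + steps83.length + steps84.length + steps85.length + steps86.length + steps87.length + steps88.length + steps89.length + steps90.length + steps91.length + steps92.length + steps93.length + steps94.length + steps95.length + steps96.length + steps97.length + steps98.length + steps99.length + steps100.length + steps101.length + steps102.length + steps103.length + steps104.length + steps105.length + steps106.length + steps107.length + steps108.length + steps109.length + steps110.length + steps111.length + steps112.length) steps113 = true := by decide +kernel

theorem chk114 : cert.checkSteps (cert.N - 1 + cert.j0 + steps0.length + steps1.length + steps2.length + steps3.length + steps4.length + steps5.length + steps6.length + steps7.length + steps8.length + steps9.length + steps10.length + steps11.length + steps12.length + steps13.length + steps14.length + steps15.length + steps16.length + steps17.length + steps18.length + steps19.length + steps20.length + steps21.length + steps22.length + steps23.length + steps24.length + steps25.length + steps26.length + steps27.length + steps28.length + steps29.length + steps30.length + steps31.length + steps32.length + steps33.length + steps34.length + steps35.length + steps36.length + steps37.length + steps38.length + steps39.length + steps40.length + steps41.length + steps42.length + steps43.length + steps44.length + steps45.length + steps46.length + steps47.length + steps48.length + steps49.length + steps50.length + steps51.length + steps52.length + steps53.length + steps54.length + steps55.length + steps56.length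 + steps57.length + steps58.length + steps59.length + steps60.length + steps61.length + steps62.length + steps63.length + steps64.length + steps65.length + steps66.length + steps67.length + steps68.length + steps69.length + steps70.length + steps71.length + steps72.length + steps73.length + steps74.length + steps75.length + steps76.length + steps77.length + steps78.length + steps79.length + steps80.length + steps81.length + steps82.length + steps83.length + steps84.length + steps85.length + steps86.length + steps87.length + steps88.length + steps89.length + steps90.length + steps91.length + steps92.length + steps93.length + steps94.length + steps95.length + steps96.length + steps97.length + steps98.length + steps99.length + steps100.length + steps101.length + steps102.length + steps103.length + steps104.length + steps105.length + steps106.length + steps107.length + steps108.length + steps109.length + steps110.length + steps111.length + steps112.length + steps113.length) steps114 = true := by decide +kernel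

theorem chk115 : cert.checkSteps (cert.N - 1 + cert.j0 + steps0.length + steps1.length + steps2.length + steps3.length + steps4.length + steps5.length + steps6.length + steps7.length + steps8.length + steps9.length + steps10.length + steps11.length + steps12.length + steps13.length + steps14.length + steps15.length + steps16.length + steps17.length + steps18.length + steps19.length + steps20.length + steps21.length + steps22.length + steps23.length + steps24.length + steps25.length + steps26.length + steps27.length + steps28.length + steps29.length + steps30.length + steps31.length + steps32.length + steps33.length + steps34.length + steps35.length + steps36.length + steps37.length + steps38.length + steps39.length + steps40.length + steps41.length + steps42.length + steps43.length + steps44.length + steps45.length + steps46.length + steps47.length + steps48.length + steps49.length + steps50.length + steps51.length + steps52.length + steps53.length + steps54.length + steps55.length + steps56.length + steps57.length + steps58.length + steps59.length + steps60.length + steps61.length + steps62.length + steps63.length + steps64.length + steps65.length + steps66.length + steps67.length + steps68.length + steps69.length + steps70.length + steps71.length + steps72.length + steps73.length + steps74.length + steps75.length + steps76.length + steps77.length + steps78.length + steps79.length + steps80.length + steps81.length + steps82.length + steps83.length + steps84.length + steps85.length + steps86.length + steps87.length + steps88.length + steps89.length + steps90.length + steps91.length + steps92.length + steps93.length + steps94.length + steps95.length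 + steps96.length + steps97.length + steps98.length + steps99.length + steps100.length + steps101.length + steps102.length + steps103.length + steps104.length + steps105.length + steps106.length + steps107.length + steps108.length + steps109.length + steps110.length + steps111.length + steps112.length + steps113.length + steps114.length) steps115 = true := by decide +kernel

theorem chk116 : cert.checkSteps (cert.N - 1 + cert.j0 + steps0.length + steps1.length + steps2.length + steps3.length + steps4.length + steps5.length + steps6.length + steps7.length + steps8.length + steps9.length + steps10.length + steps11.length + steps12.length + steps13.length + steps14.length + steps15.length + steps16.length + steps17.length + steps18.length + steps19.length + steps20.length + steps21.length + steps22.length + steps23.length + steps24.length + steps25.length + steps26.length + steps27.length + steps28.length + steps29.length + steps30.length + steps31.length + steps32.length + steps33.length + steps34.length + steps35.length + steps36.length + steps37.length + steps38.length + steps39.length + steps40.length + steps41.length + steps42.length + steps43.length + steps44.length + steps45.length + steps46.length + steps47.length + steps48.length + steps49.length + steps50.length + steps51.length + steps52.length + steps53.length + steps54.length + steps55.length + steps56.length + steps57.length + steps58.length + steps59.length + steps60.length + steps61.length + steps62.length + steps63.length + steps64.length + steps65.length + steps66.length + steps67.length + steps68.length + steps69.length + steps70.length + steps71.length + steps72.length +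 steps73.length + steps74.length + steps75.length + steps76.length + steps77.length + steps78.length + steps79.length + steps80.length + steps81.length + steps82.length + steps83.length + steps84.length + steps85.length + steps86.length + steps87.length + steps88.length + steps89.length + steps90.length + steps91.length + steps92.length + steps93.length + steps94.length + steps95.length + steps96.length + steps97.length + steps98.length + steps99.length + steps100.length + steps101.length + steps102.length + steps103.length + steps104.length + steps105.length + steps106.length + steps107.length + steps108.length + steps109.length + steps110.length + steps111.length + steps112.length + steps113.length + steps114.length + steps115.length) steps116 = true := by decide +kernel

theorem chk117 : cert.checkSteps (cert.N - 1 + cert.j0 + steps0.length + steps1.length + steps2.length + steps3.length + steps4.length + steps5.length + steps6.length + steps7.length + steps8.length + steps9.length + steps10.length + steps11.length + steps12.length + steps13.length + steps14.length + steps15.length + steps16.length + steps17.length + steps18.length + steps19.length + steps20.length + steps21.length + steps22.length + steps23.length + steps24.length + steps25.length + steps26.length + steps27.length + steps28.length + steps29.length + steps30.length + steps31.length + steps32.length + steps33.length + steps34.length + steps35.length + steps36.length + steps37.length + steps38.length + steps39.length + steps40.length + steps41.length + steps42.length + steps43.length + steps44.length + steps45.length + steps46.length + steps47.length + steps48.length + steps49.length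 + steps50.length + steps51.length + steps52.length + steps53.length + steps54.length + steps55.length + steps56.length + steps57.length + steps58.length + steps59.length + steps60.length + steps61.length + steps62.length + steps63.length + steps64.length + steps65.length + steps66.length + steps67.length + steps68.length + steps69.length + steps70.length + steps71.length + steps72.length + steps73.length + steps74.length + steps75.length + steps76.length + steps77.length + steps78.length + steps79.length + steps80.length + steps81.length + steps82.length + steps83.length + steps84.length + steps85.length + steps86.length + steps87.length + steps88.length + steps89.length + steps90.length + steps91.length + steps92.length + steps93.length + steps94.length + steps95.length + steps96.length + steps97.length + steps98.length + steps99.length + steps100.length + steps101.length + steps102.length + steps103.length + steps104.length + steps105.length + steps106.length + steps107.length + steps108.length + steps109.length + steps110.length + steps111.length + steps112.length + steps113.length + steps114.length + steps115.length + steps116.length) steps117 = true := by decide +kernel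

theorem chk118 : cert.checkSteps (cert.N - 1 + cert.j0 + steps0.length + steps1.length + steps2.length + steps3.length + steps4.length + steps5.length + steps6.length + steps7.length + steps8.length + steps9.length + steps10.length + steps11.length + steps12.length + steps13.length + steps14.length + steps15.length + steps16.length + steps17.length + steps18.length + steps19.length + steps20.length + steps21.length + steps22.length + steps23.length + steps24.length + steps25.length + steps26.length + steps27.length + steps28.length + steps29.length + steps30.length + steps31.length + steps32.length + steps33.length + steps34.length + steps35.length + steps36.length + steps37.length + steps38.length + steps39.length + steps40.length + steps41.length + steps42.length + steps43.length + steps44.length + steps45.length + steps46.length + steps47.length + steps48.length + steps49.length + steps50.length + steps51.length + steps52.length + steps53.length + steps54.length + steps55.length + steps56.length + steps57.length + steps58.length + steps59.length + steps60.length + steps61.length + steps62.length + steps63.length + steps64.length + steps65.length + steps66.length + steps67.length + steps68.length + steps69.length + steps70.length + steps71.length + steps72.length + steps73.length + steps74.length + steps75.length + steps76.length + steps77.length + steps78.length + steps79.length + steps80.length + steps81.length + steps82.length + steps83.length + steps84.length + steps85.length + steps86.length + steps87.length + steps88.length + steps89.length + steps90.length + steps91.length + steps92.length + steps93.length + steps94.length + steps95.length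 + steps96.length + steps97.length + steps98.length + steps99.length + steps100.length + steps101.length + steps102.length + steps103.length + steps104.length + steps105.length + steps106.length + steps107.length + steps108.length + steps109.length + steps110.length + steps111.length + steps112.length + steps113.length + steps114.length + steps115.length + steps116.length + steps117.length) steps118 = true := by decide +kernel

theorem chk119 : cert.checkSteps (cert.N - 1 + cert.j0 + steps0.length + steps1.length + steps2.length + steps3.length + steps4.length + steps5.length + steps6.length + steps7.length + steps8.length + steps9.length + steps10.length + steps11.length + steps12.length + steps13.length + steps14.length + steps15.length + steps16.length + steps17.length + steps18.length + steps19.length + steps20.length + steps21.length + steps22.length + steps23.length + steps24.length + steps25.length + steps26.length + steps27.length + steps28.length + steps29.length + steps30.length + steps31.length + steps32.length + steps33.length + steps34.length + steps35.length + steps36.length + steps37.length + steps38.length + steps39.length + steps40.length + steps41.length + steps42.length + steps43.length + steps44.length + steps45.length + steps46.length + steps47.length + steps48.length + steps49.length + steps50.length + steps51.length + steps52.length + steps53.length + steps54.length + steps55.length + steps56.length + steps57.length + steps58.length + steps59.length + steps60.length + steps61.length + steps62.length + steps63.length + steps64.length + steps65.length + steps66.length + steps67.length + steps68.length + steps69.length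 + steps70.length + steps71.length + steps72.length + steps73.length + steps74.length + steps75.length + steps76.length + steps77.length + steps78.length + steps79.length + steps80.length + steps81.length + steps82.length + steps83.length + steps84.length + steps85.length + steps86.length + steps87.length + steps88.length + steps89.length + steps90.length + steps91.length + steps92.length + steps93.length + steps94.length + steps95.length + steps96.length + steps97.length + steps98.length + steps99.length + steps100.length + steps101.length + steps102.length + steps103.length + steps104.length + steps105.length + steps106.length + steps107.length + steps108.length + steps109.length + steps110.length + steps111.length + steps112.length + steps113.length + steps114.length + steps115.length + steps116.length + steps117.length + steps118.length) steps119 = true := by decide +kernel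

theorem chk120 : cert.checkSteps (cert.N - 1 + cert.j0 + steps0.length + steps1.length + steps2.length + steps3.length + steps4.length + steps5.length + steps6.length + steps7.length + steps8.length + steps9.length + steps10.length + steps11.length + steps12.length + steps13.length + steps14.length + steps15.length + steps16.length + steps17.length + steps18.length + steps19.length + steps20.length + steps21.length + steps22.length + steps23.length + steps24.length + steps25.length + steps26.length + steps27.length + steps28.length + steps29.length + steps30.length + steps31.length + steps32.length + steps33.length + steps34.length + steps35.length + steps36.length + steps37.length + steps38.length + steps39.length + steps40.length + steps41.length + steps42.length + steps43.length + steps44.length + steps45.length + steps46.length + steps47.length + steps48.length + steps49.length + steps50.length + steps51.length + steps52.length + steps53.length + steps54.length + steps55.length + steps56.length + steps57.length + steps58.length + steps59.length + steps60.length + steps61.length + steps62.length + steps63.length + steps64.length + steps65.length + steps66.length + steps67.length + steps68.length + steps69.length + steps70.length + steps71.length + steps72.length + steps73.length + steps74.length + steps75.length + steps76.length + steps77.length + steps78.length + steps79.length + steps80.length + steps81.length + steps82.length + steps83.length + steps84.length + steps85.length + steps86.length + steps87.length + steps88.length + steps89.length + steps90.length + steps91.length + steps92.length + steps93.length + steps94.length + steps95.length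 + steps96.length + steps97.length + steps98.length + steps99.length + steps100.length + steps101.length + steps102.length + steps103.length + steps104.length + steps105.length + steps106.length + steps107.length + steps108.length + steps109.length + steps110.length + steps111.length + steps112.length + steps113.length + steps114.length + steps115.length + steps116.length + steps117.length + steps118.length + steps119.length) steps120 = true := by decide +kernel

theorem chk121 : cert.checkSteps (cert.N - 1 + cert.j0 + steps0.length + steps1.length + steps2.length + steps3.length + steps4.length + steps5.length + steps6.length + steps7.length + steps8.length + steps9.length + steps10.length + steps11.length + steps12.length + steps13.length + steps14.length + steps15.length + steps16.length + steps17.length + steps18.length + steps19.length + steps20.length + steps21.length + steps22.length + steps23.length + steps24.length + steps25.length + steps26.length + steps27.length + steps28.length + steps29.length + steps30.length + steps31.length + steps32.length + steps33.length + steps34.length + steps35.length + steps36.length + steps37.length + steps38.length + steps39.length + steps40.length + steps41.length + steps42.length + steps43.length + steps44.length + steps45.length + steps46.length + steps47.length + steps48.length + steps49.length + steps50.length + steps51.length + steps52.length + steps53.length + steps54.length + steps55.length + steps56.length + steps57.length + steps58.length + steps59.length + steps60.length + steps61.length + steps62.length + steps63.length + steps64.length + steps65.length + steps66.length + steps67.length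 + steps68.length + steps69.length + steps70.length + steps71.length + steps72.length + steps73.length + steps74.length + steps75.length + steps76.length + steps77.length + steps78.length + steps79.length + steps80.length + steps81.length + steps82.length + steps83.length + steps84.length + steps85.length + steps86.length + steps87.length + steps88.length + steps89.length + steps90.length + steps91.length + steps92.length + steps93.length + steps94.length + steps95.length + steps96.length + steps97.length + steps98.length + steps99.length + steps100.length + steps101.length + steps102.length + steps103.length + steps104.length + steps105.length + steps106.length + steps107.length + steps108.length + steps109.length + steps110.length + steps111.length + steps112.length + steps113.length + steps114.length + steps115.length + steps116.length + steps117.length + steps118.length + steps119.length + steps120.length) steps121 = true := by decide +kernel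

theorem chk122 : cert.checkSteps (cert.N - 1 + cert.j0 + steps0.length + steps1.length + steps2.length + steps3.length + steps4.length + steps5.length + steps6.length + steps7.length + steps8.length + steps9.length + steps10.length + steps11.length + steps12.length + steps13.length + steps14.length + steps15.length + steps16.length + steps17.length + steps18.length + steps19.length + steps20.length + steps21.length + steps22.length + steps23.length + steps24.length + steps25.length + steps26.length + steps27.length + steps28.length + steps29.length + steps30.length + steps31.length + steps32.length + steps33.length + steps34.length + steps35.length + steps36.length + steps37.length + steps38.length + steps39.length + steps40.length + steps41.length + steps42.length + steps43.length + steps44.length + steps45.length + steps46.length + steps47.length + steps48.length + steps49.length + steps50.length + steps51.length + steps52.length + steps53.length + steps54.length + steps55.length + steps56.length + steps57.length + steps58.length + steps59.length + steps60.length + steps61.length + steps62.length + steps63.length + steps64.length + steps65.length + steps66.length + steps67.length + steps68.length + steps69.length + steps70.length + steps71.length + steps72.length + steps73.length + steps74.length + steps75.length + steps76.length + steps77.length + steps78.length + steps79.length + steps80.length + steps81.length + steps82.length + steps83.length + steps84.length + steps85.length + steps86.length + steps87.length + steps88.length + steps89.length + steps90.length + steps91.length + steps92.length + steps93.length + steps94.length + steps95.length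 + steps96.length + steps97.length + steps98.length + steps99.length + steps100.length + steps101.length + steps102.length + steps103.length + steps104.length + steps105.length + steps106.length + steps107.length + steps108.length + steps109.length + steps110.length + steps111.length + steps112.length + steps113.length + steps114.length + steps115.length + steps116.length + steps117.length + steps118.length + steps119.length + steps120.length + steps121.length) steps122 = true := by decide +kernel

theorem chk123 : cert.checkSteps (cert.N - 1 + cert.j0 + steps0.length + steps1.length + steps2.length + steps3.length + steps4.length + steps5.length + steps6.length + steps7.length + steps8.length + steps9.length + steps10.length + steps11.length + steps12.length + steps13.length + steps14.length + steps15.length + steps16.length + steps17.length + steps18.length + steps19.length + steps20.length + steps21.length + steps22.length + steps23.length + steps24.length + steps25.length + steps26.length + steps27.length + steps28.length + steps29.length + steps30.length + steps31.length + steps32.length + steps33.length + steps34.length + steps35.length + steps36.length + steps37.length + steps38.length + steps39.length + steps40.length + steps41.length + steps42.length + steps43.length + steps44.length + steps45.length + steps46.length + steps47.length + steps48.length + steps49.length + steps50.length + steps51.length + steps52.length + steps53.length + steps54.length + steps55.length + steps56.length + steps57.length + steps58.length + steps59.length + steps60.length + steps61.length + steps62.length + steps63.length + steps64.length + steps65.length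 + steps66.length + steps67.length + steps68.length + steps69.length + steps70.length + steps71.length + steps72.length + steps73.length + steps74.length + steps75.length + steps76.length + steps77.length + steps78.length + steps79.length + steps80.length + steps81.length + steps82.length + steps83.length + steps84.length + steps85.length + steps86.length + steps87.length + steps88.length + steps89.length + steps90.length + steps91.length + steps92.length + steps93.length + steps94.length + steps95.length + steps96.length + steps97.length + steps98.length + steps99.length + steps100.length + steps101.length + steps102.length + steps103.length + steps104.length + steps105.length + steps106.length + steps107.length + steps108.length + steps109.length + steps110.length + steps111.length + steps112.length + steps113.length + steps114.length + steps115.length + steps116.length + steps117.length + steps118.length + steps119.length + steps120.length + steps121.length + steps122.length) steps123 = true := by decide +kernel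

theorem chk124 : cert.checkSteps (cert.N - 1 + cert.j0 + steps0.length + steps1.length + steps2.length + steps3.length + steps4.length + steps5.length + steps6.length + steps7.length + steps8.length + steps9.length + steps10.length + steps11.length + steps12.length + steps13.length + steps14.length + steps15.length + steps16.length + steps17.length + steps18.length + steps19.length + steps20.length + steps21.length + steps22.length + steps23.length + steps24.length + steps25.length + steps26.length + steps27.length + steps28.length + steps29.length + steps30.length + steps31.length + steps32.length + steps33.length + steps34.length + steps35.length + steps36.length + steps37.length + steps38.length + steps39.length + steps40.length + steps41.length + steps42.length + steps43.length + steps44.length + steps45.length + steps46.length + steps47.length + steps48.length + steps49.length + steps50.length + steps51.length + steps52.length + steps53.length + steps54.length + steps55.length + steps56.length + steps57.length + steps58.length + steps59.length + steps60.length + steps61.length + steps62.length + steps63.length + steps64.length + steps65.length + steps66.length + steps67.length + steps68.length + steps69.length + steps70.length + steps71.length + steps72.length + steps73.length + steps74.length + steps75.length + steps76.length + steps77.length + steps78.length + steps79.length + steps80.length + steps81.length + steps82.length + steps83.length + steps84.length + steps85.length + steps86.length + steps87.length + steps88.length + steps89.length + steps90.length + steps91.length + steps92.length + steps93.length + steps94.length + steps95.length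 + steps96.length + steps97.length + steps98.length + steps99.length + steps100.length + steps101.length + steps102.length + steps103.length + steps104.length + steps105.length + steps106.length + steps107.length + steps108.length + steps109.length + steps110.length + steps111.length + steps112.length + steps113.length + steps114.length + steps115.length + steps116.length + steps117.length + steps118.length + steps119.length + steps120.length + steps121.length + steps122.length + steps123.length) steps124 = true := by decide +kernel

theorem chk125 : cert.checkSteps (cert.N - 1 + cert.j0 + steps0.length + steps1.length + steps2.length + steps3.length + steps4.length + steps5.length + steps6.length + steps7.length + steps8.length + steps9.length + steps10.length + steps11.length + steps12.length + steps13.length + steps14.length + steps15.length + steps16.length + steps17.length + steps18.length + steps19.length + steps20.length + steps21.length + steps22.length + steps23.length + steps24.length + steps25.length + steps26.length + steps27.length + steps28.length + steps29.length + steps30.length + steps31.length + steps32.length + steps33.length + steps34.length + steps35.length + steps36.length + steps37.length + steps38.length + steps39.length + steps40.length + steps41.length + steps42.length + steps43.length + steps44.length + steps45.length + steps46.length + steps47.length + steps48.length + steps49.length + steps50.length + steps51.length + steps52.length + steps53.length + steps54.length + steps55.length + steps56.length + steps57.length + steps58.length + steps59.length + steps60.length + steps61.length + steps62.length + steps63.length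 + steps64.length + steps65.length + steps66.length + steps67.length + steps68.length + steps69.length + steps70.length + steps71.length + steps72.length + steps73.length + steps74.length + steps75.length + steps76.length + steps77.length + steps78.length + steps79.length + steps80.length + steps81.length + steps82.length + steps83.length + steps84.length + steps85.length + steps86.length + steps87.length + steps88.length + steps89.length + steps90.length + steps91.length + steps92.length + steps93.length + steps94.length + steps95.length + steps96.length + steps97.length + steps98.length + steps99.length + steps100.length + steps101.length + steps102.length + steps103.length + steps104.length + steps105.length + steps106.length + steps107.length + steps108.length + steps109.length + steps110.length + steps111.length + steps112.length + steps113.length + steps114.length + steps115.length + steps116.length + steps117.length + steps118.length + steps119.length + steps120.length + steps121.length + steps122.length + steps123.length + steps124.length) steps125 = true := by decide +kernel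

theorem chk126 : cert.checkSteps (cert.N - 1 + cert.j0 + steps0.length + steps1.length + steps2.length + steps3.length + steps4.length + steps5.length + steps6.length + steps7.length + steps8.length + steps9.length + steps10.length + steps11.length + steps12.length + steps13.length + steps14.length + steps15.length + steps16.length + steps17.length + steps18.length + steps19.length + steps20.length + steps21.length + steps22.length + steps23.length + steps24.length + steps25.length + steps26.length + steps27.length + steps28.length + steps29.length + steps30.length + steps31.length + steps32.length + steps33.length + steps34.length + steps35.length + steps36.length + steps37.length + steps38.length + steps39.length + steps40.length + steps41.length + steps42.length + steps43.length + steps44.length + steps45.length + steps46.length + steps47.length + steps48.length + steps49.length + steps50.length + steps51.length + steps52.length + steps53.length + steps54.length + steps55.length + steps56.length + steps57.length + steps58.length + steps59.length + steps60.length + steps61.length + steps62.length + steps63.length + steps64.length + steps65.length + steps66.length + steps67.length + steps68.length + steps69.length + steps70.length + steps71.length + steps72.length + steps73.length + steps74.length + steps75.length + steps76.length + steps77.length + steps78.length + steps79.length + steps80.length + steps81.length + steps82.length + steps83.length + steps84.length + steps85.length + steps86.length + steps87.length + steps88.length + steps89.length + steps90.length + steps91.length + steps92.length + steps93.length + steps94.length + steps95.length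 + steps96.length + steps97.length + steps98.length + steps99.length + steps100.length + steps101.length + steps102.length + steps103.length + steps104.length + steps105.length + steps106.length + steps107.length + steps108.length + steps109.length + steps110.length + steps111.length + steps112.length + steps113.length + steps114.length + steps115.length + steps116.length + steps117.length + steps118.length + steps119.length + steps120.length + steps121.length + steps122.length + steps123.length + steps124.length + steps125.length) steps126 = true := by decide +kernel

theorem chk127 : cert.checkSteps (cert.N - 1 + cert.j0 + steps0.length + steps1.length + steps2.length + steps3.length + steps4.length + steps5.length + steps6.length + steps7.length + steps8.length + steps9.length + steps10.length + steps11.length + steps12.length + steps13.length + steps14.length + steps15.length + steps16.length + steps17.length + steps18.length + steps19.length + steps20.length + steps21.length + steps22.length + steps23.length + steps24.length + steps25.length + steps26.length + steps27.length + steps28.length + steps29.length + steps30.length + steps31.length + steps32.length + steps33.length + steps34.length + steps35.length + steps36.length + steps37.length + steps38.length + steps39.length + steps40.length + steps41.length + steps42.length + steps43.length + steps44.length + steps45.length + steps46.length + steps47.length + steps48.length + steps49.length + steps50.length + steps51.length + steps52.length + steps53.length + steps54.length + steps55.length + steps56.length + steps57.length + steps58.length + steps59.length + steps60.length + steps61.length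 + steps62.length + steps63.length + steps64.length + steps65.length + steps66.length + steps67.length + steps68.length + steps69.length + steps70.length + steps71.length + steps72.length + steps73.length + steps74.length + steps75.length + steps76.length + steps77.length + steps78.length + steps79.length + steps80.length + steps81.length + steps82.length + steps83.length + steps84.length + steps85.length + steps86.length + steps87.length + steps88.length + steps89.length + steps90.length + steps91.length + steps92.length + steps93.length + steps94.length + steps95.length + steps96.length + steps97.length + steps98.length + steps99.length + steps100.length + steps101.length + steps102.length + steps103.length + steps104.length + steps105.length + steps106.length + steps107.length + steps108.length + steps109.length + steps110.length + steps111.length + steps112.length + steps113.length + steps114.length + steps115.length + steps116.length + steps117.length + steps118.length + steps119.length + steps120.length + steps121.length + steps122.length + steps123.length + steps124.length + steps125.length + steps126.length) steps127 = true := by decide +kernel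

theorem chk128 : cert.checkSteps (cert.N - 1 + cert.j0 + steps0.length + steps1.length + steps2.length + steps3.length + steps4.length + steps5.length + steps6.length + steps7.length + steps8.length + steps9.length + steps10.length + steps11.length + steps12.length + steps13.length + steps14.length + steps15.length + steps16.length + steps17.length + steps18.length + steps19.length + steps20.length + steps21.length + steps22.length + steps23.length + steps24.length + steps25.length + steps26.length + steps27.length + steps28.length + steps29.length + steps30.length + steps31.length + steps32.length + steps33.length + steps34.length + steps35.length + steps36.length + steps37.length + steps38.length + steps39.length + steps40.length + steps41.length + steps42.length + steps43.length + steps44.length + steps45.length + steps46.length + steps47.length + steps48.length + steps49.length + steps50.length + steps51.length + steps52.length + steps53.length + steps54.length + steps55.length + steps56.length + steps57.length + steps58.length + steps59.length + steps60.length + steps61.length + steps62.length + steps63.length + steps64.length + steps65.length + steps66.length + steps67.length + steps68.length + steps69.length + steps70.length + steps71.length + steps72.length + steps73.length + steps74.length + steps75.length + steps76.length + steps77.length + steps78.length + steps79.length + steps80.length + steps81.length + steps82.length + steps83.length + steps84.length + steps85.length + steps86.length + steps87.length + steps88.length + steps89.length + steps90.length + steps91.length + steps92.length + steps93.length + steps94.length + steps95.length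 + steps96.length + steps97.length + steps98.length + steps99.length + steps100.length + steps101.length + steps102.length + steps103.length + steps104.length + steps105.length + steps106.length + steps107.length + steps108.length + steps109.length + steps110.length + steps111.length + steps112.length + steps113.length + steps114.length + steps115.length + steps116.length + steps117.length + steps118.length + steps119.length + steps120.length + steps121.length + steps122.length + steps123.length + steps124.length + steps125.length + steps126.length + steps127.length) steps128 = true := by decide +kernel

theorem chk129 : cert.checkSteps (cert.N - 1 + cert.j0 + steps0.length + steps1.length + steps2.length + steps3.length + steps4.length + steps5.length + steps6.length + steps7.length + steps8.length + steps9.length + steps10.length + steps11.length + steps12.length + steps13.length + steps14.length + steps15.length + steps16.length + steps17.length + steps18.length + steps19.length + steps20.length + steps21.length + steps22.length + steps23.length + steps24.length + steps25.length + steps26.length + steps27.length + steps28.length + steps29.length + steps30.length + steps31.length + steps32.length + steps33.length + steps34.length + steps35.length + steps36.length + steps37.length + steps38.length + steps39.length + steps40.length + steps41.length + steps42.length + steps43.length + steps44.length + steps45.length + steps46.length + steps47.length + steps48.length + steps49.length + steps50.length + steps51.length + steps52.length + steps53.length + steps54.length + steps55.length + steps56.length + steps57.length + steps58.length + steps59.length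 + steps60.length + steps61.length + steps62.length + steps63.length + steps64.length + steps65.length + steps66.length + steps67.length + steps68.length + steps69.length + steps70.length + steps71.length + steps72.length + steps73.length + steps74.length + steps75.length + steps76.length + steps77.length + steps78.length + steps79.length + steps80.length + steps81.length + steps82.length + steps83.length + steps84.length + steps85.length + steps86.length + steps87.length + steps88.length + steps89.length + steps90.length + steps91.length + steps92.length + steps93.length + steps94.length + steps95.length + steps96.length + steps97.length + steps98.length + steps99.length + steps100.length + steps101.length + steps102.length + steps103.length + steps104.length + steps105.length + steps106.length + steps107.length + steps108.length + steps109.length + steps110.length + steps111.length + steps112.length + steps113.length + steps114.length + steps115.length + steps116.length + steps117.length + steps118.length + steps119.length + steps120.length + steps121.length + steps122.length + steps123.length + steps124.length + steps125.length + steps126.length + steps127.length + steps128.length) steps129 = true := by decide +kernel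

theorem chk130 : cert.checkSteps (cert.N - 1 + cert.j0 + steps0.length + steps1.length + steps2.length + steps3.length + steps4.length + steps5.length + steps6.length + steps7.length + steps8.length + steps9.length + steps10.length + steps11.length + steps12.length + steps13.length + steps14.length + steps15.length + steps16.length + steps17.length + steps18.length + steps19.length + steps20.length + steps21.length + steps22.length + steps23.length + steps24.length + steps25.length + steps26.length + steps27.length + steps28.length + steps29.length + steps30.length + steps31.length + steps32.length + steps33.length + steps34.length + steps35.length + steps36.length + steps37.length + steps38.length + steps39.length + steps40.length + steps41.length + steps42.length + steps43.length + steps44.length + steps45.length + steps46.length + steps47.length + steps48.length + steps49.length + steps50.length + steps51.length + steps52.length + steps53.length + steps54.length + steps55.length + steps56.length + steps57.length + steps58.length + steps59.length + steps60.length + steps61.length + steps62.length + steps63.length + steps64.length + steps65.length + steps66.length + steps67.length + steps68.length + steps69.length + steps70.length + steps71.length + steps72.length + steps73.length + steps74.length + steps75.length + steps76.length + steps77.length + steps78.length + steps79.length + steps80.length + steps81.length + steps82.length + steps83.length + steps84.length + steps85.length + steps86.length + steps87.length + steps88.length + steps89.length + steps90.length + steps91.length + steps92.length + steps93.length + steps94.length + steps95.length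 + steps96.length + steps97.length + steps98.length + steps99.length + steps100.length + steps101.length + steps102.length + steps103.length + steps104.length + steps105.length + steps106.length + steps107.length + steps108.length + steps109.length + steps110.length + steps111.length + steps112.length + steps113.length + steps114.length + steps115.length + steps116.length + steps117.length + steps118.length + steps119.length + steps120.length + steps121.length + steps122.length + steps123.length + steps124.length + steps125.length + steps126.length + steps127.length + steps128.length + steps129.length) steps130 = true := by decide +kernel

end Cfsg.Agent.Lib.Helper89.Mult.T2L2
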