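import Cfsg.Agent.Lib.Helper89.Mult.T2L0Cert
import Cfsg.Agent.Lib.Helper89.Mult.T2L1Cert
import Cfsg.Agent.Lib.Helper89.Mult.T2L2Cert

/-! # Order bound for the `p = 2` presentation of the Tits group (five generators of order three)

Chain `C₃ < L₃(3) < ²F₄(2)'` of indices `3`, `1872`, `3200`; all relators are cubes of generators and
conjugation relators `W t_i W⁻¹ = t_j ^ ±1`. -/

set_option autoImplicit false
set_option maxRecDepth 100000

namespace Cfsg.Agent.Lib.Helper89.Mult.T2Bound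

open Cfsg.Agent.Lib.Helper89.CosetCert Cfsg.Agent.Lib.Helper89.SafePres

universe u

/-- all conjugation relators of the presentation (`2 + 66`) -/
def srelsT2 : List SRel := T2L1.srels0 ++ T2L2.srels0

theorem pw0 : ∀ q ∈ T2L0.pw, q.1 = 3 := by decide
theorem pw1 : ∀ q ∈ T2L1.pw, q.1 = 3 := by decide
theorem pw2 : ∀ q ∈ T2L2.pw, q.1 = 3 := by decide

theorem closure_empty {L : Type*} [Group L] (t : ℕ → L) :
    Nat.card (Subgroup.closure {y | ∃ i < 0, y = t i}) ≤ 1 := by
  have : {y | ∃ i < 0, y = t i} = (∅ : Set L) := by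
    ext y
    simp
  rw [this, Subgroup.closure_empty, Subgroup.card_bot]

/-- the chain of coset enumerations bounds the order of any group satisfying the relators -/
theorem boundT2 (L : Type u) [Group L] [Finite L] (t : ℕ → L) (ht : ∀ i, t i ^ 3 = 1)
    (hs : ∀ r ∈ srelsT2, ev t r.word = 1) :
    Nat.card (Subgroup.closure {y | ∃ i < 5, y = t i}) ≤ 17971200 := by
  have hs1 : ∀ r ∈ T2L1.srels, ev t r.word = 1 := fun r hr =>
    hs r (List.mem_append_left _ (T2L1.mem_srels hr))
  have hs2 : ∀ r ∈ T2L2.srels, ev t r.word = 1 := fun r hr =>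
    hs r (List.mem_append_right _ (T2L2.mem_srels hr))
  have hr0 : ∀ r ∈ T2L0.cert.rels, ev t r = 1 := by
    show ∀ r ∈ T2L0.rels, ev t r = 1
    rw [T2L0.rels_eq]
    exact rels_valid t _ _ (fun q hq => by rw [pw0 q hq]; exact ht _)
      (fun _ hr => (T2L0.mem_srels hr).elim)
  have hr1 : ∀ r ∈ T2L1.cert.rels, ev t r = 1 := by
    show ∀ r ∈ T2L1.rels, ev t r = 1
    rw [T2L1.rels_eq]
    exact rels_valid t _ _ (fun q hq => by rw [pw1 q hq]; exact ht _) hs1
  have hr2 : ∀ r ∈ T2L2.cert.rels, ev t r = 1 := by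
    show ∀ r ∈ T2L2.rels, ev t r = 1
    rw [T2L2.rels_eq]
    exact rels_valid t _ _ (fun q hq => by rw [pw2 q hq]; exact ht _) hs2
  have c0 := cert_step t T2L0.cert T2L0.cert_ok hr0 1 (closure_empty t)
  have c1 := cert_step t T2L1.cert T2L1.cert_ok hr1 _ c0
  have c2 := cert_step t T2L2.cert T2L2.cert_ok hr2 _ c1
  exact c2

end Cfsg.Agent.Lib.Helper89.Mult.T2Bound
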