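import Cfsg.Agent.Lib.Helper89.SafePres

set_option autoImplicit false
set_option maxRecDepth 1000000
set_option maxHeartbeats 0
set_option Elab.async false

namespace Cfsg.Agent.Lib.Helper89.Mult.L0

open Cfsg.Agent.Lib.Helper89.CosetCert Cfsg.Agent.Lib.Helper89.SafePres

def factB : ℕ := 0x901000a000800000a0007010009000a000009000a01000800060000080005010007000900000700080100060004000006000301000500070000050006010004000200000400010100030005000003000401000200000000020000010001000300000100020100000001000000000a000009000a010008000900000700080100060007000005000601000400050000030004010002000300000100020100000001000000

def finB : ℕ := 0x900080007000a000a00060005000900080004000300070006000200010005000400000000000300020001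

def pw : List (ℕ × ℕ) := [(11, 0)]

def srels : List SRel := [].flatten

def rels : List Word := [
  [0, 0, 0, 0, 0, 0, 0, 0, 0, 0, 0]]

def steps0 : List ℕ := [
  2211564954546311516010376637578198989213943018717777002554445529091,
  396316836465999872,
  432345770923917313,
  468374705381834752,
  504403158803415041,
  540432093261332480,
  576461233877680129,
  612490168335597568,
  648518621757177857,
  684547556215095296,
  720576696831442945,
  756605631289360384,
  792634084710940673,
  828663019168858112,
  864692159785205761,
  900721094243123200,
  936749547664703489,
  972778482122620928,
  1008807622738968577,
  1044836557196886016,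
  1080865010618466305,
  1116893945076383744,
  1152922879534301185]

def steps : List ℕ := [steps0].flatten

def roots : List ℕ := [0, 1, 2, 3, 4, 5, 6, 7, 8, 9, 10]

def cert : Cert := ⟨1, 0, 11, factBig factB, rels, steps, 11, roots, numBig finB⟩

end Cfsg.Agent.Lib.Helper89.Mult.L0
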