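import Cfsg.Agent.Lib.Helper89.SafePres

set_option autoImplicit false
set_option maxRecDepth 1000000
set_option maxHeartbeats 0
set_option Elab.async false

namespace Cfsg.Agent.Lib.Helper89.Mult.L1

open Cfsg.Agent.Lib.Helper89.CosetCert Cfsg.Agent.Lib.Helper89.SafePres

def factB : ℕ := 0x303000600020200060006010006000600000600010300030006020003000301000300030000030006030002000002000200020100020002000002000003000100030200010001010001000100000100020300000001020000000001000000000000000002040005000204000400060000060006020003000300000300010000010000000000000603000200050100020004000002000302000100020300000001020000

def finB : ℕ := 0x30002000400040001000400030003000400000002000200000003000100010002000100000000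

def pw : List (ℕ × ℕ) := [(5, 1)]

def srels0 : List SRel := [
  ⟨[2], 0, 0, 4, false⟩]

def srels : List SRel := [srels0].flatten

def rels : List Word := [
  [2, 2, 2, 2, 2],
  [2, 0, 3, 1, 1, 1, 1]]

def steps0 : List ℕ := [
  267609963233362478013000601811779852654608390,
  312211623772256224348519591570667703867801606,
  6165858709215026638293694091886597,
  356813284311149970684085805030413735746863110,
  116920577003077622393747000266566197630488616632326,
  29710589277444341133491568640,
  468375255137648640,
  504403983437135873,
  540432024541855746,
  576460958999773187,
  612490580652457984,
  648519308951945217,
  684547487495618562,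
  720575940917198851,
  198339806612172660801536,
  207784575606846409146369,
  828662469413044226,
  864691884907298819,
  900721094243123200,
  936749822542610433,
  972778825720004610,
  1008806591946817539,
  1044836557196886016,
  1080865285496373249,
  1116893395320569858,
  1152922742095347715]

def steps : List ℕ := [steps0].flatten

def roots : List ℕ := [0, 1, 2, 3, 6]

def cert : Cert := ⟨2, 1, 7, factBig factB, rels, steps, 5, roots, numBig finB⟩

end Cfsg.Agent.Lib.Helper89.Mult.L1
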