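import Cfsg.Agent.Lib.Helper89.Mult.L3Data

set_option autoImplicit false
set_option maxRecDepth 1000000
set_option maxHeartbeats 0
set_option Elab.async false

namespace Cfsg.Agent.Lib.Helper89.Mult.L3

open Cfsg.Agent.Lib.Helper89.CosetCert Cfsg.Agent.Lib.Helper89.SafePres

theorem chk54 : cert.checkSteps (cert.N - 1 + cert.j0 + steps0.length + steps1.length + steps2.length + steps3.length + steps4.length + steps5.length + steps6.length + steps7.length + steps8.length + steps9.length + steps10.length + steps11.length + steps12.length + steps13.length + steps14.length + steps15.length + steps16.length + steps17.length + steps18.length + steps19.length + steps20.length + steps21.length + steps22.length + steps23.length + steps24.length + steps25.length + steps26.length + steps27.length + steps28.length + steps29.length + steps30.length + steps31.length + steps32.length + steps33.length + steps34.length + steps35.length + steps36.length + steps37.length + steps38.length + steps39.length + steps40.length + steps41.length + steps42.length + steps43.length + steps44.length + steps45.length + steps46.length + steps47.length + steps48.length + steps49.length + steps50.length + steps51.length + steps52.length + steps53.length) steps54 = true := by decide +kernel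

theorem chk55 : cert.checkSteps (cert.N - 1 + cert.j0 + steps0.length + steps1.length + steps2.length + steps3.length + steps4.length + steps5.length + steps6.length + steps7.length + steps8.length + steps9.length + steps10.length + steps11.length + steps12.length + steps13.length + steps14.length + steps15.length + steps16.length + steps17.length + steps18.length + steps19.length + steps20.length + steps21.length + steps22.length + steps23.length + steps24.length + steps25.length + steps26.length + steps27.length + steps28.length + steps29.length + steps30.length + steps31.length + steps32.length + steps33.length + steps34.length + steps35.length + steps36.length + steps37.length + steps38.length + steps39.length + steps40.length + steps41.length + steps42.length + steps43.length + steps44.length + steps45.length + steps46.length + steps47.length + steps48.length + steps49.length + steps50.length + steps51.length + steps52.length + steps53.length + steps54.length) steps55 = true := by decide +kernel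

theorem chk56 : cert.checkSteps (cert.N - 1 + cert.j0 + steps0.length + steps1.length + steps2.length + steps3.length + steps4.length + steps5.length + steps6.length + steps7.length + steps8.length + steps9.length + steps10.length + steps11.length + steps12.length + steps13.length + steps14.length + steps15.length + steps16.length + steps17.length + steps18.length + steps19.length + steps20.length + steps21.length + steps22.length + steps23.length + steps24.length + steps25.length + steps26.length + steps27.length + steps28.length + steps29.length + steps30.length + steps31.length + steps32.length + steps33.length + steps34.length + steps35.length + steps36.length + steps37.length + steps38.length + steps39.length + steps40.length + steps41.length + steps42.length + steps43.length + steps44.length + steps45.length + steps46.length + steps47.length + steps48.length + steps49.length + steps50.length + steps51.length + steps52.length + steps53.length + steps54.length + steps55.length) steps56 = true := by decide +kernel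

theorem chk57 : cert.checkSteps (cert.N - 1 + cert.j0 + steps0.length + steps1.length + steps2.length + steps3.length + steps4.length + steps5.length + steps6.length + steps7.length + steps8.length + steps9.length + steps10.length + steps11.length + steps12.length + steps13.length + steps14.length + steps15.length + steps16.length + steps17.length + steps18.length + steps19.length + steps20.length + steps21.length + steps22.length + steps23.length + steps24.length + steps25.length + steps26.length + steps27.length + steps28.length + steps29.length + steps30.length + steps31.length + steps32.length + steps33.length + steps34.length + steps35.length + steps36.length + steps37.length + steps38.length + steps39.length + steps40.length + steps41.length + steps42.length + steps43.length + steps44.length + steps45.length + steps46.length + steps47.length + steps48.length + steps49.length + steps50.length + steps51.length + steps52.length + steps53.length + steps54.length + steps55.length + steps56.length) steps57 = true := by decide +kernel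

theorem chk58 : cert.checkSteps (cert.N - 1 + cert.j0 + steps0.length + steps1.length + steps2.length + steps3.length + steps4.length + steps5.length + steps6.length + steps7.length + steps8.length + steps9.length + steps10.length + steps11.length + steps12.length + steps13.length + steps14.length + steps15.length + steps16.length + steps17.length + steps18.length + steps19.length + steps20.length + steps21.length + steps22.length + steps23.length + steps24.length + steps25.length + steps26.length + steps27.length + steps28.length + steps29.length + steps30.length + steps31.length + steps32.length + steps33.length + steps34.length + steps35.length + steps36.length + steps37.length + steps38.length + steps39.length + steps40.length + steps41.length + steps42.length + steps43.length + steps44.length + steps45.length + steps46.length + steps47.length + steps48.length + steps49.length + steps50.length + steps51.length + steps52.length + steps53.length + steps54.length + steps55.length + steps56.length + steps57.length) steps58 = true := by decide +kernel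

theorem chk59 : cert.checkSteps (cert.N - 1 + cert.j0 + steps0.length + steps1.length + steps2.length + steps3.length + steps4.length + steps5.length + steps6.length + steps7.length + steps8.length + steps9.length + steps10.length + steps11.length + steps12.length + steps13.length + steps14.length + steps15.length + steps16.length + steps17.length + steps18.length + steps19.length + steps20.length + steps21.length + steps22.length + steps23.length + steps24.length + steps25.length + steps26.length + steps27.length + steps28.length + steps29.length + steps30.length + steps31.length + steps32.length + steps33.length + steps34.length + steps35.length + steps36.length + steps37.length + steps38.length + steps39.length + steps40.length + steps41.length + steps42.length + steps43.length + steps44.length + steps45.length + steps46.length + steps47.length + steps48.length + steps49.length + steps50.length + steps51.length + steps52.length + steps53.length + steps54.length + steps55.length + steps56.length + steps57.length + steps58.length) steps59 = true := by decide +kernel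

theorem chk60 : cert.checkSteps (cert.N - 1 + cert.j0 + steps0.length + steps1.length + steps2.length + steps3.length + steps4.length + steps5.length + steps6.length + steps7.length + steps8.length + steps9.length + steps10.length + steps11.length + steps12.length + steps13.length + steps14.length + steps15.length + steps16.length + steps17.length + steps18.length + steps19.length + steps20.length + steps21.length + steps22.length + steps23.length + steps24.length + steps25.length + steps26.length + steps27.length + steps28.length + steps29.length + steps30.length + steps31.length + steps32.length + steps33.length + steps34.length + steps35.length + steps36.length + steps37.length + steps38.length + steps39.length + steps40.length + steps41.length + steps42.length + steps43.length + steps44.length + steps45.length + steps46.length + steps47.length + steps48.length + steps49.length + steps50.length + steps51.length + steps52.length + steps53.length + steps54.length + steps55.length + steps56.length + steps57.length + steps58.length + steps59.length) steps60 = true := by decide +kernel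

theorem chk61 : cert.checkSteps (cert.N - 1 + cert.j0 + steps0.length + steps1.length + steps2.length + steps3.length + steps4.length + steps5.length + steps6.length + steps7.length + steps8.length + steps9.length + steps10.length + steps11.length + steps12.length + steps13.length + steps14.length + steps15.length + steps16.length + steps17.length + steps18.length + steps19.length + steps20.length + steps21.length + steps22.length + steps23.length + steps24.length + steps25.length + steps26.length + steps27.length + steps28.length + steps29.length + steps30.length + steps31.length + steps32.length + steps33.length + steps34.length + steps35.length + steps36.length + steps37.length + steps38.length + steps39.length + steps40.length + steps41.length + steps42.length + steps43.length + steps44.length + steps45.length + steps46.length + steps47.length + steps48.length + steps49.length + steps50.length + steps51.length + steps52.length + steps53.length + steps54.length + steps55.length + steps56.length + steps57.length + steps58.length + steps59.length + steps60.length) steps61 = true := by decide +kernel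

theorem chk62 : cert.checkSteps (cert.N - 1 + cert.j0 + steps0.length + steps1.length + steps2.length + steps3.length + steps4.length + steps5.length + steps6.length + steps7.length + steps8.length + steps9.length + steps10.length + steps11.length + steps12.length + steps13.length + steps14.length + steps15.length + steps16.length + steps17.length + steps18.length + steps19.length + steps20.length + steps21.length + steps22.length + steps23.length + steps24.length + steps25.length + steps26.length + steps27.length + steps28.length + steps29.length + steps30.length + steps31.length + steps32.length + steps33.length + steps34.length + steps35.length + steps36.length + steps37.length + steps38.length + steps39.length + steps40.length + steps41.length + steps42.length + steps43.length + steps44.length + steps45.length + steps46.length + steps47.length + steps48.length + steps49.length + steps50.length + steps51.length + steps52.length + steps53.length + steps54.length + steps55.length + steps56.length + steps57.length + steps58.length + steps59.length + steps60.length + steps61.length) steps62 = true := by decide +kernel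

theorem chk63 : cert.checkSteps (cert.N - 1 + cert.j0 + steps0.length + steps1.length + steps2.length + steps3.length + steps4.length + steps5.length + steps6.length + steps7.length + steps8.length + steps9.length + steps10.length + steps11.length + steps12.length + steps13.length + steps14.length + steps15.length + steps16.length + steps17.length + steps18.length + steps19.length + steps20.length + steps21.length + steps22.length + steps23.length + steps24.length + steps25.length + steps26.length + steps27.length + steps28.length + steps29.length + steps30.length + steps31.length + steps32.length + steps33.length + steps34.length + steps35.length + steps36.length + steps37.length + steps38.length + steps39.length + steps40.length + steps41.length + steps42.length + steps43.length + steps44.length + steps45.length + steps46.length + steps47.length + steps48.length + steps49.length + steps50.length + steps51.length + steps52.length + steps53.length + steps54.length + steps55.length + steps56.length + steps57.length + steps58.length + steps59.length + steps60.length + steps61.length + steps62.length) steps63 = true := by decide +kernel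

theorem chk64 : cert.checkSteps (cert.N - 1 + cert.j0 + steps0.length + steps1.length + steps2.length + steps3.length + steps4.length + steps5.length + steps6.length + steps7.length + steps8.length + steps9.length + steps10.length + steps11.length + steps12.length + steps13.length + steps14.length + steps15.length + steps16.length + steps17.length + steps18.length + steps19.length + steps20.length + steps21.length + steps22.length + steps23.length + steps24.length + steps25.length + steps26.length + steps27.length + steps28.length + steps29.length + steps30.length + steps31.length + steps32.length + steps33.length + steps34.length + steps35.length + steps36.length + steps37.length + steps38.length + steps39.length + steps40.length + steps41.length + steps42.length + steps43.length + steps44.length + steps45.length + steps46.length + steps47.length + steps48.length + steps49.length + steps50.length + steps51.length + steps52.length + steps53.length + steps54.length + steps55.length + steps56.length + steps57.length + steps58.length + steps59.length + steps60.length + steps61.length + steps62.length + steps63.length) steps64 = true := by decide +kernel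

theorem chk65 : cert.checkSteps (cert.N - 1 + cert.j0 + steps0.length + steps1.length + steps2.length + steps3.length + steps4.length + steps5.length + steps6.length + steps7.length + steps8.length + steps9.length + steps10.length + steps11.length + steps12.length + steps13.length + steps14.length + steps15.length + steps16.length + steps17.length + steps18.length + steps19.length + steps20.length + steps21.length + steps22.length + steps23.length + steps24.length + steps25.length + steps26.length + steps27.length + steps28.length + steps29.length + steps30.length + steps31.length + steps32.length + steps33.length + steps34.length + steps35.length + steps36.length + steps37.length + steps38.length + steps39.length + steps40.length + steps41.length + steps42.length + steps43.length + steps44.length + steps45.length + steps46.length + steps47.length + steps48.length + steps49.length + steps50.length + steps51.length + steps52.length + steps53.length + steps54.length + steps55.length + steps56.length + steps57.length + steps58.length + steps59.length + steps60.length + steps61.length + steps62.length + steps63.length + steps64.length) steps65 = true := by decide +kernel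

theorem chk66 : cert.checkSteps (cert.N - 1 + cert.j0 + steps0.length + steps1.length + steps2.length + steps3.length + steps4.length + steps5.length + steps6.length + steps7.length + steps8.length + steps9.length + steps10.length + steps11.length + steps12.length + steps13.length + steps14.length + steps15.length + steps16.length + steps17.length + steps18.length + steps19.length + steps20.length + steps21.length + steps22.length + steps23.length + steps24.length + steps25.length + steps26.length + steps27.length + steps28.length + steps29.length + steps30.length + steps31.length + steps32.length + steps33.length + steps34.length + steps35.length + steps36.length + steps37.length + steps38.length + steps39.length + steps40.length + steps41.length + steps42.length + steps43.length + steps44.length + steps45.length + steps46.length + steps47.length + steps48.length + steps49.length + steps50.length + steps51.length + steps52.length + steps53.length + steps54.length + steps55.length + steps56.length + steps57.length + steps58.length + steps59.length + steps60.length + steps61.length + steps62.length + steps63.length + steps64.length + steps65.length) steps66 = true := by decide +kernel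

theorem chk67 : cert.checkSteps (cert.N - 1 + cert.j0 + steps0.length + steps1.length + steps2.length + steps3.length + steps4.length + steps5.length + steps6.length + steps7.length + steps8.length + steps9.length + steps10.length + steps11.length + steps12.length + steps13.length + steps14.length + steps15.length + steps16.length + steps17.length + steps18.length + steps19.length + steps20.length + steps21.length + steps22.length + steps23.length + steps24.length + steps25.length + steps26.length + steps27.length + steps28.length + steps29.length + steps30.length + steps31.length + steps32.length + steps33.length + steps34.length + steps35.length + steps36.length + steps37.length + steps38.length + steps39.length + steps40.length + steps41.length + steps42.length + steps43.length + steps44.length + steps45.length + steps46.length + steps47.length + steps48.length + steps49.length + steps50.length + steps51.length + steps52.length + steps53.length + steps54.length + steps55.length + steps56.length + steps57.length + steps58.length + steps59.length + steps60.length + steps61.length + steps62.length + steps63.length + steps64.length + steps65.length + steps66.length) steps67 = true := by decide +kernel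

theorem chk68 : cert.checkSteps (cert.N - 1 + cert.j0 + steps0.length + steps1.length + steps2.length + steps3.length + steps4.length + steps5.length + steps6.length + steps7.length + steps8.length + steps9.length + steps10.length + steps11.length + steps12.length + steps13.length + steps14.length + steps15.length + steps16.length + steps17.length + steps18.length + steps19.length + steps20.length + steps21.length + steps22.length + steps23.length + steps24.length + steps25.length + steps26.length + steps27.length + steps28.length + steps29.length + steps30.length + steps31.length + steps32.length + steps33.length + steps34.length + steps35.length + steps36.length + steps37.length + steps38.length + steps39.length + steps40.length + steps41.length + steps42.length + steps43.length + steps44.length + steps45.length + steps46.length + steps47.length + steps48.length + steps49.length + steps50.length + steps51.length + steps52.length + steps53.length + steps54.length + steps55.length + steps56.length + steps57.length + steps58.length + steps59.length + steps60.length + steps61.length + steps62.length + steps63.length + steps64.length + steps65.length + steps66.length + steps67.length) steps68 = true := by decide +kernel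

end Cfsg.Agent.Lib.Helper89.Mult.L3
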