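import Cfsg.Agent.Lib.Helper89.Mult.M12Valid
import Cfsg.Agent.Lib.Helper89.Mult.L0Cert
import Cfsg.Agent.Lib.Helper89.Mult.L1Cert
import Cfsg.Agent.Lib.Helper89.Mult.L2Cert
import Cfsg.Agent.Lib.Helper89.Mult.N3Cert
import Cfsg.Agent.Lib.Helper89.SafePres2

/-! # The Schur multiplier of `M12` is cyclic of order two -/

set_option autoImplicit false
set_option maxRecDepth 100000

namespace Cfsg.Agent.Lib.Helper89.Mult.M12G

open Cfsg Cfsg.Agent.Lib.Helper89.CosetCert Cfsg.Agent.Lib.Helper89.SafePres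
open Cfsg.Agent.Lib.Helper89.StemSafe Cfsg.Agent.Lib.Helper89.SafePres2
open scoped commutatorElement

/-- all conjugation relators -/
def srelsAll : List SRel := L1.srels ++ L2.srels ++ N3.srels

theorem hvalid : ∀ r ∈ srelsAll, ev g r.word = 1 := by
  intro r hr
  unfold srelsAll at hr
  rw [List.mem_append, List.mem_append] at hr
  rcases hr with (hr | hr) | hr
  · exact hvalidL1 r hr
  · exact hvalidL2 r hr
  · exact hvalidN3 r hr

theorem hvalidM : ∀ r ∈ srelsAll, ev M12Mod.gm r.word = 1 := by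
  intro r hr
  unfold srelsAll at hr
  rw [List.mem_append, List.mem_append] at hr
  rcases hr with (hr | hr) | hr
  · exact M12Mod.hvalidL1 r hr
  · exact M12Mod.hvalidL2 r hr
  · exact M12Mod.hvalidN3 r hr

theorem pw0 : ∀ q ∈ L0.pw, q.1 = ord q.2 ∧ q.2 < 4 := by decide
theorem pw1 : ∀ q ∈ L1.pw, q.1 = ord q.2 ∧ q.2 < 4 := by decide
theorem pw2 : ∀ q ∈ L2.pw, q.1 = ord q.2 ∧ q.2 < 4 := by decide
theorem pw3 : ∀ q ∈ N3.pw, q.1 = ord q.2 ∧ q.2 < 4 := by decide

theorem closure_empty {L : Type*} [Group L] (t : ℕ → L) :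
    Nat.card (Subgroup.closure {y | ∃ i < 0, y = t i}) ≤ 1 := by
  have : {y | ∃ i < 0, y = t i} = (∅ : Set L) := by
    ext y
    simp
  rw [this, Subgroup.closure_empty, Subgroup.card_bot]

/-- the chain of coset enumerations bounds the order of any group satisfying the relators -/
theorem hbound (L : Type) [Group L] [Finite L] (t : ℕ → L) (ht : ∀ i < 4, t i ^ ord i = 1)
    (hs : ∀ r ∈ srelsAll, ev t r.word = 1) :
    Nat.card (Subgroup.closure {y | ∃ i < 4, y = t i}) ≤ 190080 := by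
  have hs1 : ∀ r ∈ L1.srels, ev t r.word = 1 := fun r hr =>
    hs r (List.mem_append_left _ (List.mem_append_left _ hr))
  have hs2 : ∀ r ∈ L2.srels, ev t r.word = 1 := fun r hr =>
    hs r (List.mem_append_left _ (List.mem_append_right _ hr))
  have hs3 : ∀ r ∈ N3.srels, ev t r.word = 1 := fun r hr =>
    hs r (List.mem_append_right _ hr)
  have hr0 : ∀ r ∈ L0.cert.rels, ev t r = 1 := by
    show ∀ r ∈ L0.rels, ev t r = 1
    rw [L0.rels_eq]
    exact rels_valid t _ _ (fun q hq => by rw [(pw0 q hq).1]; exact ht _ (pw0 q hq).2)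
      (fun r hr => absurd hr (List.not_mem_nil))
  have hr1 : ∀ r ∈ L1.cert.rels, ev t r = 1 := by
    show ∀ r ∈ L1.rels, ev t r = 1
    rw [L1.rels_eq]
    exact rels_valid t _ _ (fun q hq => by rw [(pw1 q hq).1]; exact ht _ (pw1 q hq).2) hs1
  have hr2 : ∀ r ∈ L2.cert.rels, ev t r = 1 := by
    show ∀ r ∈ L2.rels, ev t r = 1
    rw [L2.rels_eq]
    exact rels_valid t _ _ (fun q hq => by rw [(pw2 q hq).1]; exact ht _ (pw2 q hq).2) hs2
  have hr3 : ∀ r ∈ N3.cert.rels, ev t r = 1 := by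
    show ∀ r ∈ N3.rels, ev t r = 1
    rw [N3.rels_eq]
    exact rels_valid t _ _ (fun q hq => by rw [(pw3 q hq).1]; exact ht _ (pw3 q hq).2) hs3
  have c0 := cert_step t L0.cert L0.cert_ok hr0 1 (closure_empty t)
  have c1 := cert_step t L1.cert L1.cert_ok hr1 _ c0
  have c2 := cert_step t L2.cert L2.cert_ok hr2 _ c1
  have c3 := cert_step t N3.cert N3.cert_ok hr3 _ c2
  exact c3

/-! ### the kernel of a stem extension has at most two elements -/

theorem card_ker_le (p : ℕ) (hp : p = 2 ∨ p = 3) (Γ' : Type) [Group Γ'] [Finite Γ']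
    (σ' : Γ' →* ↥Spor.M12) (hσ : Cfsg.IsStemExtension σ')
    (hpk : ∀ z ∈ σ'.ker, ∃ n : ℕ, z ^ (p ^ n) = 1) : Nat.card σ'.ker ≤ 2 := by
  have : Fact p.Prime := ⟨by rcases hp with rfl | rfl <;> norm_num⟩
  refine card_ker_le_of_safe p 4 g ord g_pow (ord_coprime p hp) closure_g srelsAll hvalid 2 ?_
    σ' hσ hpk
  intro L _ _ t ht hs
  rw [card_M12]
  exact hbound L t (fun i _ => ht i) hs

theorem ker_bot_three (Γ' : Type) [Group Γ'] [Finite Γ'] (σ' : Γ' →* ↥Spor.M12)
    (hσ : Cfsg.IsStemExtension σ') (hpk : ∀ z ∈ σ'.ker, ∃ n : ℕ, z ^ (3 ^ n) = 1) :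
    σ'.ker = ⊥ := by
  have hc := card_ker_le 3 (Or.inr rfl) Γ' σ' hσ hpk
  rw [eq_bot_iff]
  intro z hz
  rw [Subgroup.mem_bot]
  obtain ⟨n, hn⟩ := hpk z hz
  have h1 : z ^ Nat.card σ'.ker = 1 := by
    have h := pow_card_eq_one' (G := σ'.ker) (x := ⟨z, hz⟩)
    have h' := congrArg Subtype.val h
    simpa using h'
  have h2 : z ^ 2 = 1 := by
    have hpos : 0 < Nat.card σ'.ker := Nat.card_pos
    have hcases : Nat.card σ'.ker = 1 ∨ Nat.card σ'.ker = 2 := by omega
    rcases hcases with h | h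
    · rw [h, pow_one] at h1
      rw [h1, one_pow]
    · rw [h] at h1
      exact h1
  have hd1 := orderOf_dvd_of_pow_eq_one h2
  have hd2 := orderOf_dvd_of_pow_eq_one hn
  have hcop : Nat.Coprime 2 (3 ^ n) := Nat.Coprime.pow_right n (by norm_num)
  exact orderOf_eq_one_iff.1 (Nat.eq_one_of_dvd_coprimes hcop hd1 hd2)

theorem part2 (Γ : Type) [Group Γ] [Finite Γ] (σ : Γ →* ↥Spor.M12)
    (hσ : Cfsg.IsStemExtension σ) :
    ∃ π : Multiplicative (ZMod 2) →* σ.ker, Function.Surjective π := by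
  apply exists_surj_of_card_le_two
  have h3 : ∀ z ∈ σ.ker, ¬ 3 ∣ orderOf z := by
    have : Fact (Nat.Prime 3) := ⟨by norm_num⟩
    exact not_dvd_orderOf_of_pgroup_case 3
      (fun Γ' _ _ σ' hσ' hpk => ker_bot_three Γ' σ' hσ' hpk) σ hσ
  have h5 : ∀ z ∈ σ.ker, ¬ 5 ∣ orderOf z := fun z hz =>
    not_dvd_of_cyclic_sylow σ hσ 5 (by norm_num) (g 1) 1 19008
      (by rw [pow_one]; exact orderOf_g 1 (by norm_num) (by norm_num [ord]))
      (by rw [card_M12]; norm_num) (by norm_num) hz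
  have h11 : ∀ z ∈ σ.ker, ¬ 11 ∣ orderOf z := fun z hz =>
    not_dvd_of_cyclic_sylow σ hσ 11 (by norm_num) (g 0) 1 8640
      (by rw [pow_one]; exact orderOf_g 0 (by norm_num) (by norm_num [ord]))
      (by rw [card_M12]; norm_num) (by norm_num) hz
  have hpk : ∀ z ∈ σ.ker, ∃ n : ℕ, z ^ (2 ^ n) = 1 := by
    intro z hz
    have hc := pow_card_eq_one σ hσ hz
    rw [card_M12] at hc
    have hd := orderOf_dvd_of_pow_eq_one hc
    have hcop : (orderOf z).Coprime 1485 := by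
      have e : (1485 : ℕ) = 3 ^ 3 * 5 * 11 := by norm_num
      rw [e]
      refine Nat.Coprime.mul_right (Nat.Coprime.mul_right (Nat.Coprime.pow_right 3 ?_) ?_) ?_
      · exact (Nat.Coprime.symm ((Nat.Prime.coprime_iff_not_dvd (by norm_num)).2 (h3 z hz)))
      · exact (Nat.Coprime.symm ((Nat.Prime.coprime_iff_not_dvd (by norm_num)).2 (h5 z hz)))
      · exact (Nat.Coprime.symm ((Nat.Prime.coprime_iff_not_dvd (by norm_num)).2 (h11 z hz)))
    have hd2 : orderOf z ∣ 2 ^ 6 := by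
      have e : (95040 : ℕ) = 2 ^ 6 * 1485 := by norm_num
      rw [e] at hd
      exact (Nat.Coprime.dvd_mul_right hcop).1 hd
    exact ⟨6, orderOf_dvd_iff_pow_eq_one.1 hd2⟩
  exact card_ker_le 2 (Or.inl rfl) Γ σ hσ hpk

/-! ### the double cover -/

/-- the ambient group of the model -/
abbrev LL : Type := Equiv.Perm GolayPt × ↥Spor.M12

/-- the generators of the double cover -/
noncomputable def tt (i : ℕ) : LL := (M12Mod.gm i, g i)

theorem ev_tt (w : Word) : ev tt w = (ev M12Mod.gm w, ev g w) := ev_prod _ _ w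

theorem tt_pow (i : ℕ) (h : i < 4) : tt i ^ ord i = 1 := by
  apply Prod.ext
  · rw [Prod.pow_fst]
    exact M12Mod.gm_pow i h
  · rw [Prod.pow_snd]
    exact g_pow i

theorem hs_tt : ∀ r ∈ srelsAll, ev tt r.word = 1 := by
  intro r hr
  rw [ev_tt, hvalid r hr, hvalidM r hr]
  rfl

/-- the double cover of `M12` -/
def Gam : Subgroup LL := Subgroup.closure {y | ∃ i < 4, y = tt i}

theorem card_Gam_le : Nat.card Gam ≤ 190080 := hbound LL tt tt_pow hs_tt

/-- the covering map -/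
noncomputable def sig : ↥Gam →* ↥Spor.M12 :=
  (MonoidHom.snd (Equiv.Perm GolayPt) ↥Spor.M12).comp Gam.subtype

theorem sig_surj : Function.Surjective sig := by
  intro y
  have hm : Gam.map (MonoidHom.snd (Equiv.Perm GolayPt) ↥Spor.M12) = ⊤ := by
    unfold Gam
    rw [map_closure_eq (MonoidHom.snd _ _) 4 tt g (fun i => rfl), closure_g]
  have : y ∈ Gam.map (MonoidHom.snd (Equiv.Perm GolayPt) ↥Spor.M12) := by rw [hm]; trivial
  obtain ⟨x, hx, rfl⟩ := this
  exact ⟨⟨x, hx⟩, rfl⟩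

theorem card_Gam : Nat.card Gam = Nat.card sig.ker * 95040 := by
  have h1 := Subgroup.card_mul_index sig.ker
  rw [Subgroup.index_ker, MonoidHom.range_eq_top.2 sig_surj, Subgroup.card_top, card_M12] at h1
  exact h1.symm

theorem tt_mem (i : ℕ) (h : i < 4) : tt i ∈ Gam := Subgroup.subset_closure ⟨i, h, rfl⟩

theorem ev_mem (w : Word) (hw : ∀ l ∈ w, l < 2 * 4) : ev tt w ∈ Gam :=
  ev_mem_of_letters tt Gam 4 tt_mem w hw

noncomputable def Ue : ↥Gam := ⟨ev tt wu, ev_mem wu (by decide)⟩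

noncomputable def Ve : ↥Gam := ⟨ev tt wv, ev_mem wv (by decide)⟩

/-- the central involution, as a commutator -/
noncomputable def zc : ↥Gam := ⁅Ue, Ve⁆

theorem zc_coe : (zc : LL) = ev tt wc := by
  unfold zc wc
  rw [commutatorElement_def]
  simp only [Subgroup.coe_mul, Subgroup.coe_inv, Ue, Ve, ev_append, ev_winv, mul_assoc]

theorem wc_eq : wc = M12Mod.wc := rfl

theorem zc_ne : zc ≠ 1 := by
  intro h
  have h1 : (zc : LL) = 1 := by rw [h]; rfl
  rw [zc_coe, ev_tt] at h1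
  have h2 := congrArg Prod.fst h1
  rw [wc_eq] at h2
  exact M12Mod.wc_ne h2

theorem zc_ker : zc ∈ sig.ker := by
  rw [MonoidHom.mem_ker]
  show ((zc : LL)).2 = 1
  rw [zc_coe, ev_tt]
  exact ev_wc

theorem card_ker : Nat.card sig.ker = 2 := by
  have h1 := card_Gam_le
  rw [card_Gam] at h1
  have h2 : Nat.card sig.ker ≤ 2 := by
    have e : (190080 : ℕ) = 2 * 95040 := by norm_num
    rw [e] at h1
    exact Nat.le_of_mul_le_mul_right h1 (by norm_num)
  have h3 : 1 < Nat.card sig.ker := by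
    rw [Subgroup.one_lt_card_iff_ne_bot]
    intro hb
    have := zc_ker
    rw [hb, Subgroup.mem_bot] at this
    exact zc_ne this
  omega

theorem zc_center : zc ∈ Subgroup.center ↥Gam := by
  rw [Subgroup.mem_center_iff]
  intro y
  apply Subtype.ext
  rw [Subgroup.coe_mul, Subgroup.coe_mul, zc_coe]
  have hcent : Gam ≤ Subgroup.centralizer {ev tt wc} := by
    unfold Gam
    rw [Subgroup.closure_le]
    rintro x ⟨i, hi, rfl⟩
    rw [SetLike.mem_coe, Subgroup.mem_centralizer_iff]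
    intro h hh
    rw [Set.mem_singleton_iff] at hh
    rw [hh, ev_tt]
    apply Prod.ext
    · rw [wc_eq]
      exact (M12Mod.wc_comm i hi).symm
    · show ev g wc * g i = g i * ev g wc
      rw [ev_wc, one_mul, mul_one]
  have := hcent y.2
  rw [Subgroup.mem_centralizer_iff] at this
  exact (this _ rfl).symm

theorem part1 : ∃ (Γ : Type) (_ : Group Γ) (_ : Finite Γ) (σ : Γ →* ↥Spor.M12),
    Cfsg.IsStemExtension σ ∧ Nonempty (σ.ker ≃* Multiplicative (ZMod 2)) := by
  refine ⟨↥Gam, inferInstance, inferInstance, sig, ⟨sig_surj, ?_, ?_⟩, ?_⟩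
  · exact le_of_card_two _ _ card_ker zc zc_ker zc_ne zc_center
  · refine le_of_card_two _ _ card_ker zc zc_ker zc_ne ?_
    rw [commutator_def]
    show ⁅Ue, Ve⁆ ∈ ⁅(⊤ : Subgroup ↥Gam), ⊤⁆
    exact Subgroup.commutator_mem_commutator (Subgroup.mem_top _) (Subgroup.mem_top _)
  · have : Fact (Nat.Prime 2) := ⟨Nat.prime_two⟩
    have hZ : Nat.card (Multiplicative (ZMod 2)) = 2 := by
      rw [Nat.card_eq_fintype_card, Fintype.card_multiplicative, ZMod.card]
    exact ⟨mulEquivOfPrimeCardEq card_ker hZ⟩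

theorem multiplier_M12 : Cfsg.HasCyclicSchurMultiplier ↥Spor.M12 2 :=
  ⟨part1, fun Γ _ _ σ hσ => part2 Γ σ hσ⟩

end Cfsg.Agent.Lib.Helper89.Mult.M12G
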