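import Mathlib
import Cfsg.Prelude.Def_Spor_Mathieu
import Cfsg.Agent.Lib.Helper26.M24Order
import Cfsg.Agent.Lib.Helper89.OrbitLB
import Cfsg.Agent.Lib.Helper89.SafePres

/-!
# Four permutations of 24 points generating the double cover `2.M12`

The permutations are those of the action of `2.M12` on the 24 cosets of `M11`; they satisfy the same
relators as the generators `a, b, c, f` of `M12`.
-/

set_option autoImplicit false
set_option maxRecDepth 100000
set_option maxHeartbeats 0

namespace Cfsg.Agent.Lib.Helper89.Mult.M12Mod

open Cfsg Cfsg.Agent.Lib.Helper26 Cfsg.Agent.Lib.Helper89.TableChain2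
open Cfsg.Agent.Lib.Helper89.CosetCert Cfsg.Agent.Lib.Helper89.SafePres

/-- packed tables of the eight letters (5 bits per point) -/
def tabC : List ℕ := [968908778961508038590895707110018176, 971293594618236710573729045179081824, 971431404715935239935428090232377408, 976705073525099619898501917162472608, 967930083256488355967138142252076256, 970530384559480305606288191525038272, 595396084350275159175953753593850882, 731693291033602834338370361303171329]

def tab (l x : ℕ) : ℕ := Nat.land (Nat.shiftRight (tabC.getD l 0) (5 * x)) 31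

def pd (l : ℕ) : PermData := ⟨(List.range 24).map (tab l), (List.range 24).map (tab (linv l))⟩

theorem pd_ok : ∀ l < 8, (pd l).ok = true := by decide +kernel

theorem tab_lt : ∀ l < 8, ∀ x < 24, tab l x < 24 := by decide +kernel

/-- the letters as permutations -/
def P (l : ℕ) : Equiv.Perm GolayPt := (pd l).toPerm

theorem getD_map_range (f : ℕ → ℕ) (x : ℕ) (hx : x < 24) :
    ((List.range 24).map f).getD x 0 = f x := by
  rw [List.getD_eq_getElem _ _ (by simpa using hx)]
  simp

theorem P_apply (l : ℕ) (hl : l < 8) (x : ℕ) (hx : x < 24) : P l (pt x) = pt (tab l x) := by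
  show (pd l).toPerm (pt x) = _
  rw [PermData.toPerm_apply (pd_ok l hl), idx_pt x hx]
  show pt (((List.range 24).map (tab l)).getD x 0) = _
  rw [getD_map_range _ x hx]

theorem P_symm_apply (l : ℕ) (hl : l < 8) (x : ℕ) (hx : x < 24) :
    (P l)⁻¹ (pt x) = pt (tab (linv l) x) := by
  show (pd l).toPerm.symm (pt x) = _
  rw [PermData.toPerm_symm_apply (pd_ok l hl), idx_pt x hx]
  show pt (((List.range 24).map (tab (linv l))).getD x 0) = _
  rw [getD_map_range _ x hx]

/-- the four generators of the model -/
def gm (i : ℕ) : Equiv.Perm GolayPt := if i < 4 then P (2 * i) else 1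

theorem gm_eq (i : ℕ) (h : i < 4) : gm i = P (2 * i) := by
  rw [gm, if_pos h]

theorem lv_smul : ∀ l < 8, ∀ x < 24, lv gm l • pt x = pt (tab l x) := by
  intro l hl x hx
  unfold lv
  by_cases he : l % 2 = 0
  · rw [if_pos he]
    show (gm (l / 2)) (pt x) = _
    rw [gm_eq _ (by omega), show 2 * (l / 2) = l by omega, P_apply l hl x hx]
  · rw [if_neg he]
    show ((gm (l / 2))⁻¹) (pt x) = _
    rw [gm_eq _ (by omega), P_symm_apply _ (by omega) x hx]
    have : linv (2 * (l / 2)) = l := by
      unfold linv
      rw [if_pos (by omega)]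
      omega
    rw [this]

/-- the table-driven action data on the eight letters -/
def D : Data (Equiv.Perm GolayPt) GolayPt where
  m := 8
  N := 24
  gen := lv gm
  pt := pt
  tab := tab
  chk := List.range 24
  gen_smul := lv_smul
  tab_lt := tab_lt
  chk_lt := fun x hx => List.mem_range.1 hx
  faithful := by
    intro x y h
    apply Equiv.ext
    intro p
    have := h (idx p) (List.mem_range.2 (idx_lt p))
    rw [pt_idx] at this
    exact this
  pt_inj := by
    intro x hx y hy h
    have := congrArg idx h
    rwa [idx_pt x hx, idx_pt y hy] at this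

theorem D_ev (w : List ℕ) : D.ev w = ev gm w := rfl

/-- `Bool` test that all words of a list act trivially -/
def relsOK (rs : List Word) : Bool :=
  rs.all (fun r => r.all (fun c => decide (c < 8)) &&
    (List.range 24).all (fun x => act tab r x == x))

theorem relsOK_valid (rs : List Word) (h : relsOK rs = true) : ∀ r ∈ rs, ev gm r = 1 := by
  intro r hr
  unfold relsOK at h
  rw [List.all_eq_true] at h
  have h1 := h r hr
  rw [Bool.and_eq_true, List.all_eq_true, List.all_eq_true] at h1
  rw [← D_ev, ← D.ev_nil]
  apply D.ev_eq_of_act (fun c hc => of_decide_eq_true (h1.1 c hc)) (fun c hc => by simp at hc)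
  intro x hx
  rw [act_nil]
  exact beq_iff_eq.1 (h1.2 x hx)

theorem ev_ne_one (w : List ℕ) (hw : ∀ c ∈ w, c < 8) (x : ℕ) (hx : x < 24)
    (h : act tab w x ≠ x) : ev gm w ≠ 1 := by
  intro h1
  have h2 := D.ev_smul w hw x hx
  rw [D_ev, h1, one_smul] at h2
  exact h (D.pt_inj _ (D.act_lt w hw x hx) _ hx h2.symm)

/-! ### orders -/

def powRels : List Word := [powWord 11 0, powWord 5 1, powWord 5 2, powWord 5 3]

theorem powRels_ok : relsOK powRels = true := by decide +kernel

theorem gm_pow (i : ℕ) (h : i < 4) : gm i ^ ([11, 5, 5, 5].getD i 1) = 1 := by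
  have hv := relsOK_valid powRels powRels_ok
  interval_cases i
  · have := hv (powWord 11 0) (by simp [powRels])
    rwa [ev_powWord] at this
  · have := hv (powWord 5 1) (by simp [powRels])
    rwa [ev_powWord] at this
  · have := hv (powWord 5 2) (by simp [powRels])
    rwa [ev_powWord] at this
  · have := hv (powWord 5 3) (by simp [powRels])
    rwa [ev_powWord] at this

/-! ### the central involution -/

def wu : Word := [0, 2, 7, 1, 7]

def wv : Word := [5, 5, 6]

def wc : Word := wu ++ wv ++ winv wu ++ winv wv

theorem wc_ne : ev gm wc ≠ 1 :=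
  ev_ne_one wc (by decide) 0 (by norm_num) (by decide +kernel)

/-- the commutator word is central: it commutes with the four generators -/
def centRels : List Word :=
  [2 * 0 :: (wc ++ (2 * 0 + 1) :: winv wc), 2 * 1 :: (wc ++ (2 * 1 + 1) :: winv wc),
   2 * 2 :: (wc ++ (2 * 2 + 1) :: winv wc), 2 * 3 :: (wc ++ (2 * 3 + 1) :: winv wc)]

theorem centRels_ok : relsOK centRels = true := by decide +kernel

theorem wc_comm (i : ℕ) (h : i < 4) : gm i * ev gm wc = ev gm wc * gm i := by
  have hv := relsOK_valid centRels centRels_ok (2 * i :: (wc ++ (2 * i + 1) :: winv wc))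
    (by interval_cases i <;> simp [centRels])
  rw [ev_cons, ev_append, ev_cons, ev_winv, lv_two_mul, lv_two_mul_add_one] at hv
  have h2 : gm i * ev gm wc = (gm i * (ev gm wc * ((gm i)⁻¹ * (ev gm wc)⁻¹))) * (ev gm wc * gm i) := by
    group
  rw [h2, hv, one_mul]

end Cfsg.Agent.Lib.Helper89.Mult.M12Mod
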