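import Cfsg.Agent.Lib.Helper89.Mult.M12G
import Cfsg.Agent.Lib.Helper89.Mult.M12Mod
import Cfsg.Agent.Lib.Helper89.Mult.L1Rels
import Cfsg.Agent.Lib.Helper89.Mult.L2Rels
import Cfsg.Agent.Lib.Helper89.Mult.N3Rels

/-! # The conjugation relators of the levels hold in `M12` and in the 24-point model of `2.M12` -/

set_option autoImplicit false
set_option maxRecDepth 100000
set_option maxHeartbeats 0
set_option Elab.async false

namespace Cfsg.Agent.Lib.Helper89.Mult.M12G

open Cfsg.Agent.Lib.Helper89.CosetCert Cfsg.Agent.Lib.Helper89.SafePres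

theorem validL1_0 : relsOK (L1.srels0.map SRel.word) = true := by decide +kernel

theorem hvalidL1 : ∀ r ∈ L1.srels, ev g r.word = 1 := by
  intro r hr
  have h := L1.mem_srels hr
  exact relsOK_valid _ validL1_0 _ (List.mem_map_of_mem h)

theorem validL2_0 : relsOK (L2.srels0.map SRel.word) = true := by decide +kernel

theorem hvalidL2 : ∀ r ∈ L2.srels, ev g r.word = 1 := by
  intro r hr
  have h := L2.mem_srels hr
  exact relsOK_valid _ validL2_0 _ (List.mem_map_of_mem h)

theorem validN3_0 : relsOK (N3.srels0.map SRel.word) = true := by decide +kernel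

theorem hvalidN3 : ∀ r ∈ N3.srels, ev g r.word = 1 := by
  intro r hr
  have h := N3.mem_srels hr
  exact relsOK_valid _ validN3_0 _ (List.mem_map_of_mem h)

end Cfsg.Agent.Lib.Helper89.Mult.M12G

namespace Cfsg.Agent.Lib.Helper89.Mult.M12Mod

open Cfsg.Agent.Lib.Helper89.CosetCert Cfsg.Agent.Lib.Helper89.SafePres

theorem validL1_0 : relsOK (L1.srels0.map SRel.word) = true := by decide +kernel

theorem hvalidL1 : ∀ r ∈ L1.srels, ev gm r.word = 1 := by
  intro r hr
  have h := L1.mem_srels hr
  exact relsOK_valid _ validL1_0 _ (List.mem_map_of_mem h)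

theorem validL2_0 : relsOK (L2.srels0.map SRel.word) = true := by decide +kernel

theorem hvalidL2 : ∀ r ∈ L2.srels, ev gm r.word = 1 := by
  intro r hr
  have h := L2.mem_srels hr
  exact relsOK_valid _ validL2_0 _ (List.mem_map_of_mem h)

theorem validN3_0 : relsOK (N3.srels0.map SRel.word) = true := by decide +kernel

theorem hvalidN3 : ∀ r ∈ N3.srels, ev gm r.word = 1 := by
  intro r hr
  have h := N3.mem_srels hr
  exact relsOK_valid _ validN3_0 _ (List.mem_map_of_mem h)

end Cfsg.Agent.Lib.Helper89.Mult.M12Mod
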