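import Mathlib
import Cfsg.Prelude.Def_Spor_Mathieu
import Cfsg.Prelude.Def_KGroupFacts
import Cfsg.Agent.Lib.Helper26.M24Order
import Cfsg.Agent.Lib.Helper89.OrbitLB
import Cfsg.Agent.Lib.Helper89.SafePres

/-!
# Explicit generators `a, b, c, d` of `M23` (orders 11, 5, 5, 23), table-driven
-/

set_option autoImplicit false
set_option maxRecDepth 100000
set_option maxHeartbeats 0

namespace Cfsg.Agent.Lib.Helper89.Mult.M23G

open Cfsg Cfsg.Agent.Lib.Helper26 Cfsg.Agent.Lib.Helper89.TableChain2 Cfsg.Agent.Lib.Helper89.OrbitLB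
open Cfsg.Agent.Lib.Helper89.CosetCert Cfsg.Agent.Lib.Helper89.SafePres

/-- packed tables of the letters `a, a⁻¹, b, b⁻¹, c, c⁻¹, d, d⁻¹` (5 bits per point) -/
def tabC : List ℕ := [983435072843990828779021698901151808, 970567384681219435340729552166356352, 974254899822750411239905598598325312, 968831900483021157457398538231481440, 973987114766415075681584878354247952, 962466938376566946317395969094192556, 956302485175575353788796878166559809, 983478296959358443554250846857397270]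

def tab (l x : ℕ) : ℕ := Nat.land (Nat.shiftRight (tabC.getD l 0) (5 * x)) 31

def pd (l : ℕ) : PermData := ⟨(List.range 24).map (tab l), (List.range 24).map (tab (linv l))⟩

theorem pd_inM24 : ∀ l < 8, (pd l).inM24 = true := by decide +kernel

theorem tab_lt : ∀ l < 8, ∀ x < 24, tab l x < 24 := by decide +kernel

theorem tab_none : ∀ l < 8, tab l 23 = 23 := by decide +kernel

/-- the letters as permutations -/
def P (l : ℕ) : Equiv.Perm GolayPt := (pd l).toPerm

theorem getD_map_range (f : ℕ → ℕ) (x : ℕ) (hx : x < 24) :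
    ((List.range 24).map f).getD x 0 = f x := by
  rw [List.getD_eq_getElem _ _ (by simpa using hx)]
  simp

theorem P_apply (l : ℕ) (hl : l < 8) (x : ℕ) (hx : x < 24) : P l (pt x) = pt (tab l x) := by
  show (pd l).toPerm (pt x) = _
  rw [PermData.toPerm_apply (PermData.ok_of_inM24 (pd_inM24 l hl)), idx_pt x hx]
  show pt (((List.range 24).map (tab l)).getD x 0) = _
  rw [getD_map_range _ x hx]

theorem P_symm_apply (l : ℕ) (hl : l < 8) (x : ℕ) (hx : x < 24) :
    (P l)⁻¹ (pt x) = pt (tab (linv l) x) := by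
  show (pd l).toPerm.symm (pt x) = _
  rw [PermData.toPerm_symm_apply (PermData.ok_of_inM24 (pd_inM24 l hl)), idx_pt x hx]
  show pt (((List.range 24).map (tab (linv l))).getD x 0) = _
  rw [getD_map_range _ x hx]

theorem P_mem (l : ℕ) (hl : l < 8) : P l ∈ Spor.M23 := by
  show P l ∈ M24 ⊓ MulAction.stabilizer (Equiv.Perm GolayPt) (none : GolayPt)
  rw [Subgroup.mem_inf]
  refine ⟨PermData.toPerm_mem_M24 (pd_inM24 l hl), ?_⟩
  rw [MulAction.mem_stabilizer_iff]
  show P l none = none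
  have h23 : (none : GolayPt) = pt 23 := rfl
  rw [h23, P_apply l hl 23 (by norm_num), tab_none l hl]

/-- the generators `a, b, c, d` -/
noncomputable def g (i : ℕ) : ↥Spor.M23 := if h : i < 4 then ⟨P (2 * i), P_mem _ (by omega)⟩ else 1

theorem g_coe (i : ℕ) (h : i < 4) : ((g i : ↥Spor.M23) : Equiv.Perm GolayPt) = P (2 * i) := by
  rw [g, dif_pos h]

theorem lv_smul : ∀ l < 8, ∀ x < 24, lv g l • pt x = pt (tab l x) := by
  intro l hl x hx
  unfold lv
  by_cases he : l % 2 = 0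
  · rw [if_pos he]
    show ((g (l / 2) : ↥Spor.M23) : Equiv.Perm GolayPt) (pt x) = _
    rw [g_coe _ (by omega), show 2 * (l / 2) = l by omega, P_apply l hl x hx]
  · rw [if_neg he]
    show (((g (l / 2))⁻¹ : ↥Spor.M23) : Equiv.Perm GolayPt) (pt x) = _
    rw [Subgroup.coe_inv, g_coe _ (by omega), P_symm_apply _ (by omega) x hx]
    have : linv (2 * (l / 2)) = l := by
      unfold linv
      rw [if_pos (by omega)]
      omega
    rw [this]

/-- the table-driven action data on the eight letters -/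
noncomputable def D : Data ↥Spor.M23 GolayPt where
  m := 8
  N := 24
  gen := lv g
  pt := pt
  tab := tab
  chk := List.range 24
  gen_smul := lv_smul
  tab_lt := tab_lt
  chk_lt := fun x hx => List.mem_range.1 hx
  faithful := by
    intro x y h
    apply Subtype.ext
    apply Equiv.ext
    intro p
    have := h (idx p) (List.mem_range.2 (idx_lt p))
    rw [pt_idx] at this
    exact this
  pt_inj := by
    intro x hx y hy h
    have := congrArg idx h
    rwa [idx_pt x hx, idx_pt y hy] at this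

theorem D_ev (w : List ℕ) : D.ev w = ev g w := rfl

/-- `Bool` test that all words of a list act trivially -/
def relsOK (rs : List Word) : Bool :=
  rs.all (fun r => r.all (fun c => decide (c < 8)) &&
    (List.range 24).all (fun x => act tab r x == x))

theorem relsOK_valid (rs : List Word) (h : relsOK rs = true) : ∀ r ∈ rs, ev g r = 1 := by
  intro r hr
  unfold relsOK at h
  rw [List.all_eq_true] at h
  have h1 := h r hr
  rw [Bool.and_eq_true, List.all_eq_true, List.all_eq_true] at h1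
  rw [← D_ev, ← D.ev_nil]
  apply D.ev_eq_of_act (fun c hc => of_decide_eq_true (h1.1 c hc)) (fun c hc => by simp at hc)
  intro x hx
  rw [act_nil]
  exact beq_iff_eq.1 (h1.2 x hx)

theorem ev_ne_one (w : List ℕ) (hw : ∀ c ∈ w, c < 8) (x : ℕ) (hx : x < 24)
    (h : act tab w x ≠ x) : ev g w ≠ 1 := by
  intro h1
  have h2 := D.ev_smul w hw x hx
  rw [D_ev, h1, one_smul] at h2
  exact h (D.pt_inj _ (D.act_lt w hw x hx) _ hx h2.symm)

/-! ### generation -/

def W0 : List (List ℕ) := [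
  [],
  [6],
  [0, 6],
  [2, 5],
  [0, 0, 6],
  [5, 7],
  [1, 5],
  [0, 7, 4],
  [1, 4],
  [0, 4],
  [3, 7],
  [1, 7],
  [5],
  [5, 6],
  [2, 7],
  [7, 4],
  [4],
  [6, 4],
  [2, 4],
  [0, 0, 7],
  [0, 3, 7],
  [0, 7],
  [7]]

theorem lb0 : lbCheck tab 8 [] 0 W0 = true := by decide +kernel

def W1 : List (List ℕ) := [
  [],
  [0],
  [3],
  [0, 0],
  [7, 0, 5, 0],
  [0, 3],
  [6, 3, 4, 7],
  [4, 1, 6],
  [2, 0],
  [5, 7, 1, 7, 5],
  [7, 2, 4, 4],
  [1],
  [1, 3],
  [6, 0, 0, 6, 4],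
  [7, 1, 2, 6],
  [1, 2, 0],
  [6, 4, 0, 2, 7],
  [0, 2, 0],
  [6, 4, 0, 4, 7],
  [7, 4, 6, 5],
  [5, 6, 3, 5, 7],
  [7, 4, 1, 3, 6]]

theorem lb1 : lbCheck tab 8 [0] 1 W1 = true := by decide +kernel

def W2 : List (List ℕ) := [
  [],
  [6, 0, 3, 0, 7],
  [2, 0, 5, 0, 4, 6],
  [7, 2, 2, 5, 2],
  [1, 3, 3, 1],
  [1, 6, 2, 2, 5, 7],
  [3, 0],
  [2, 2, 1],
  [2, 7, 5, 1, 4],
  [1, 4, 0, 6, 5, 7],
  [7, 0, 5, 0, 0, 2],
  [4, 0, 3, 4],
  [1, 7, 0, 5],
  [3, 7, 0, 5],
  [1, 2],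
  [7, 0, 5, 3, 0, 0],
  [5, 2, 1, 5],
  [1, 7, 4, 1, 4, 4],
  [7, 4, 6, 5, 1],
  [4, 1, 6, 0],
  [4, 1, 6, 2]]

theorem lb2 : lbCheck tab 8 [1, 0] 2 W2 = true := by decide +kernel

def W3 : List (List ℕ) := [
  [],
  [3, 0, 0, 4, 1, 6, 3],
  [4, 3, 3, 6, 1],
  [1, 2, 1, 3, 5, 5, 2, 5],
  [0, 6, 4, 4, 6, 0, 4],
  [5, 5, 0, 5, 1, 2, 6, 3],
  [1, 5, 2, 5, 3, 4],
  [2, 6, 4, 3, 0, 5, 7],
  [0, 4, 1, 6, 2, 1],
  [0, 3, 3, 1, 4, 3, 3, 6],
  [1, 3, 5, 7, 4, 4, 7, 4],
  [0, 7, 2, 2, 5],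
  [0, 2, 2, 4, 7, 5, 6, 3],
  [1, 2, 4, 7, 2, 7, 2, 7],
  [7, 2, 0, 3, 5, 6],
  [0, 3, 7, 0, 5, 1],
  [0, 3, 6, 2, 0, 5, 7],
  [1, 6, 1, 2, 6, 3, 7],
  [4, 1, 6, 0, 6, 1, 2, 1, 7],
  [6, 5, 5, 2, 7, 5]]

theorem lb3 : lbCheck tab 8 [2, 1, 0] 3 W3 = true := by decide +kernel

def W4 : List (List ℕ) := [
  [],
  [0, 7, 2, 2, 5, 1, 2, 0, 4, 4, 6, 6],
  [5, 2, 4, 3, 4, 7, 0, 7, 7, 4, 7, 1],
  [0, 3, 7, 0, 5, 3, 6, 2, 2, 5, 7, 3],
  [4, 3, 3, 6, 3, 3, 5, 3, 5, 6, 5, 2],
  [0, 7, 2, 2, 5, 1, 2, 1, 3, 5, 1, 6, 4, 6],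
  [0, 7, 2, 2, 5, 1, 5, 3, 0, 6, 4, 6],
  [0, 3, 3, 0, 4, 3, 4, 4],
  [0, 3, 7, 0, 5, 3, 0, 6, 3, 5, 0, 7, 2],
  [0, 7, 2, 2, 5, 7, 4, 2, 1, 3, 6],
  [4, 3, 3, 6, 1, 4, 1, 6, 2, 7, 2, 2, 5, 0],
  [4, 6, 3, 4, 4, 7, 7, 3, 0, 0, 5, 2, 0],
  [6, 2, 7, 3, 0, 7, 0, 0, 3, 7, 1, 3, 0, 4, 3],
  [5, 1, 7, 5, 5, 7, 1, 7, 5, 1, 4, 6, 5, 2, 7],
  [7, 4, 2, 1, 3, 6, 2, 5, 0, 4, 6, 3, 3],
  [0, 3, 7, 0, 5, 2, 0, 6, 4, 6, 6, 4, 4]]

theorem lb4 : lbCheck tab 8 [3, 2, 1, 0] 4 W4 = true := by decide +kernel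

def W5 : List (List ℕ) := [
  [],
  [2, 6, 4, 3, 3, 7, 2, 4, 1, 6, 2, 4, 1, 6, 2, 1, 3, 4, 1, 2, 5, 0, 6],
  [0, 6, 5, 6, 6, 1, 6, 5, 2, 5, 3, 4, 2, 7, 0, 5, 1, 1, 2, 2, 7, 1, 3, 4, 1, 4]]

theorem lb5 : lbCheck tab 8 [4, 3, 2, 1, 0] 5 W5 = true := by decide +kernel


theorem card_M23 : Nat.card ↥Spor.M23 = 10200960 := by
  have h : Spor.M23 = fixK [23] := by
    ext x
    constructor
    · rintro ⟨h1, h2⟩
      refine ⟨h1, fun j hj => ?_⟩
      rw [List.mem_singleton] at hj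
      subst hj
      exact MulAction.mem_stabilizer_iff.1 h2
    · rintro ⟨h1, h2⟩
      exact ⟨h1, MulAction.mem_stabilizer_iff.2 (h2 23 (List.mem_singleton.2 rfl))⟩
  rw [h, card1, card2, card3, card4, card5, card6, card7]

theorem card_H : 10200960 ≤ Nat.card (D.H D.m) := by
  have h0 := fixH_level D [] 0 (by decide) (by simp) W0 lb0
  have h1 := fixH_level D [0] 1 (by decide) (by decide) W1 lb1
  have h2 := fixH_level D [1, 0] 2 (by decide) (by decide) W2 lb2
  have h3 := fixH_level D [2, 1, 0] 3 (by decide) (by decide) W3 lb3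
  have h4 := fixH_level D [3, 2, 1, 0] 4 (by decide) (by decide) W4 lb4
  have h5 := fixH_level D [4, 3, 2, 1, 0] 5 (by decide) (by decide) W5 lb5
  have h6 : 0 < Nat.card (fixH D [5, 4, 3, 2, 1, 0]) := Nat.card_pos
  rw [fixH_nil] at h0
  have e0 : W0.length = 23 := by decide
  have e1 : W1.length = 22 := by decide
  have e2 : W2.length = 21 := by decide
  have e3 : W3.length = 20 := by decide
  have e4 : W4.length = 16 := by decide
  have e5 : W5.length = 3 := by decide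
  rw [e0] at h0; rw [e1] at h1; rw [e2] at h2; rw [e3] at h3; rw [e4] at h4; rw [e5] at h5
  omega

theorem closure_g : Subgroup.closure {y | ∃ i < 4, y = g i} = ⊤ := by
  have hle : D.H D.m ≤ Subgroup.closure {y | ∃ i < 4, y = g i} := by
    show Subgroup.closure (D.S 8) ≤ _
    rw [Subgroup.closure_le]
    rintro x ⟨l, hl, rfl⟩
    show lv g l ∈ _
    unfold lv
    split_ifs
    · exact Subgroup.subset_closure ⟨l / 2, by omega, rfl⟩
    · exact Subgroup.inv_mem _ (Subgroup.subset_closure ⟨l / 2, by omega, rfl⟩)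
  apply Subgroup.eq_top_of_card_eq
  apply le_antisymm (Subgroup.card_le_card_group _)
  rw [card_M23]
  exact le_trans card_H (Subgroup.card_le_of_le hle)

/-! ### orders -/

def ord (i : ℕ) : ℕ := [11, 5, 5, 23].getD i 1

def powRels : List Word := [powWord 11 0, powWord 5 1, powWord 5 2, powWord 23 3]

theorem powRels_ok : relsOK powRels = true := by decide +kernel

theorem g_pow (i : ℕ) : g i ^ ord i = 1 := by
  by_cases h : i < 4
  · have hv := relsOK_valid powRels powRels_ok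
    interval_cases i
    · have := hv (powWord 11 0) (by simp [powRels])
      rwa [ev_powWord] at this
    · have := hv (powWord 5 1) (by simp [powRels])
      rwa [ev_powWord] at this
    · have := hv (powWord 5 2) (by simp [powRels])
      rwa [ev_powWord] at this
    · have := hv (powWord 23 3) (by simp [powRels])
      rwa [ev_powWord] at this
  · rw [g, dif_neg h, one_pow]

theorem ord_coprime (p : ℕ) (hp : p = 2 ∨ p = 3) (i : ℕ) : (ord i).Coprime p := by
  unfold ord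
  by_cases h : i < 4
  · interval_cases i <;> rcases hp with rfl | rfl <;> decide
  · rw [List.getD_eq_default _ _ (by simp; omega)]
    exact Nat.coprime_one_left p

/-- a word of order 7 -/
def w7 : Word := [2, 7]

theorem w7_pow : relsOK [(List.replicate 7 w7).flatten] = true := by decide +kernel

theorem ev_flatten_replicate (w : Word) (n : ℕ) : ev g (List.replicate n w).flatten = ev g w ^ n := by
  induction n with
  | zero => simp
  | succ n ih => rw [List.replicate_succ, List.flatten_cons, ev_append, ih, pow_succ']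

theorem orderOf_w7 : orderOf (ev g w7) = 7 := by
  have : Fact (Nat.Prime 7) := ⟨by norm_num⟩
  apply orderOf_eq_prime
  · rw [← ev_flatten_replicate]
    exact relsOK_valid _ w7_pow _ (List.mem_singleton.2 rfl)
  · exact ev_ne_one w7 (by decide) 0 (by decide) (by decide +kernel)

theorem orderOf_g (i : ℕ) (hi : i < 4) (hp : (ord i).Prime) : orderOf (g i) = ord i := by
  have : Fact (ord i).Prime := ⟨hp⟩
  apply orderOf_eq_prime (g_pow i)
  have h := ev_ne_one [2 * i] (by intro c hc; rw [List.mem_singleton] at hc; omega) 2 (by norm_num)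
    (by interval_cases i <;> decide +kernel)
  rwa [ev_cons, ev_nil, mul_one, lv_two_mul] at h

end Cfsg.Agent.Lib.Helper89.Mult.M23G
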