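import Cfsg.Agent.Lib.Helper89.Mult.M23Valid
import Cfsg.Agent.Lib.Helper89.Mult.L0Cert
import Cfsg.Agent.Lib.Helper89.Mult.L1Cert
import Cfsg.Agent.Lib.Helper89.Mult.L2Cert
import Cfsg.Agent.Lib.Helper89.Mult.L3Cert

/-! # The Schur multiplier of `M23` is trivial -/

set_option autoImplicit false
set_option maxRecDepth 100000

namespace Cfsg.Agent.Lib.Helper89.Mult.M23G

open Cfsg Cfsg.Agent.Lib.Helper89.CosetCert Cfsg.Agent.Lib.Helper89.SafePres
open Cfsg.Agent.Lib.Helper89.StemSafe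

/-- all conjugation relators -/
def srelsAll : List SRel := L1.srels ++ L2.srels ++ L3.srels

theorem hvalid : ∀ r ∈ srelsAll, ev g r.word = 1 := by
  intro r hr
  unfold srelsAll at hr
  rw [List.mem_append, List.mem_append] at hr
  rcases hr with (hr | hr) | hr
  · exact hvalidL1 r hr
  · exact hvalidL2 r hr
  · exact hvalidL3 r hr

theorem pw0 : ∀ q ∈ L0.pw, q.1 = ord q.2 ∧ q.2 < 4 := by decide
theorem pw1 : ∀ q ∈ L1.pw, q.1 = ord q.2 ∧ q.2 < 4 := by decide
theorem pw2 : ∀ q ∈ L2.pw, q.1 = ord q.2 ∧ q.2 < 4 := by decide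
theorem pw3 : ∀ q ∈ L3.pw, q.1 = ord q.2 ∧ q.2 < 4 := by decide

theorem closure_empty {L : Type*} [Group L] (t : ℕ → L) :
    Nat.card (Subgroup.closure {y | ∃ i < 0, y = t i}) ≤ 1 := by
  have : {y | ∃ i < 0, y = t i} = (∅ : Set L) := by
    ext y
    simp
  rw [this, Subgroup.closure_empty, Subgroup.card_bot]

/-- the chain of coset enumerations bounds the order of any group satisfying the relators -/
theorem hbound (L : Type) [Group L] [Finite L] (t : ℕ → L) (ht : ∀ i < 4, t i ^ ord i = 1)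
    (hs : ∀ r ∈ srelsAll, ev t r.word = 1) :
    Nat.card (Subgroup.closure {y | ∃ i < 4, y = t i}) ≤ 10200960 := by
  have hs1 : ∀ r ∈ L1.srels, ev t r.word = 1 := fun r hr =>
    hs r (List.mem_append_left _ (List.mem_append_left _ hr))
  have hs2 : ∀ r ∈ L2.srels, ev t r.word = 1 := fun r hr =>
    hs r (List.mem_append_left _ (List.mem_append_right _ hr))
  have hs3 : ∀ r ∈ L3.srels, ev t r.word = 1 := fun r hr =>
    hs r (List.mem_append_right _ hr)
  have hr0 : ∀ r ∈ L0.cert.rels, ev t r = 1 := by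
    show ∀ r ∈ L0.rels, ev t r = 1
    rw [L0.rels_eq]
    exact rels_valid t _ _ (fun q hq => by rw [(pw0 q hq).1]; exact ht _ (pw0 q hq).2)
      (fun r hr => absurd hr (List.not_mem_nil))
  have hr1 : ∀ r ∈ L1.cert.rels, ev t r = 1 := by
    show ∀ r ∈ L1.rels, ev t r = 1
    rw [L1.rels_eq]
    exact rels_valid t _ _ (fun q hq => by rw [(pw1 q hq).1]; exact ht _ (pw1 q hq).2) hs1
  have hr2 : ∀ r ∈ L2.cert.rels, ev t r = 1 := by
    show ∀ r ∈ L2.rels, ev t r = 1
    rw [L2.rels_eq]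
    exact rels_valid t _ _ (fun q hq => by rw [(pw2 q hq).1]; exact ht _ (pw2 q hq).2) hs2
  have hr3 : ∀ r ∈ L3.cert.rels, ev t r = 1 := by
    show ∀ r ∈ L3.rels, ev t r = 1
    rw [L3.rels_eq]
    exact rels_valid t _ _ (fun q hq => by rw [(pw3 q hq).1]; exact ht _ (pw3 q hq).2) hs3
  have c0 := cert_step t L0.cert L0.cert_ok hr0 1 (closure_empty t)
  have c1 := cert_step t L1.cert L1.cert_ok hr1 _ c0
  have c2 := cert_step t L2.cert L2.cert_ok hr2 _ c1
  have c3 := cert_step t L3.cert L3.cert_ok hr3 _ c2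
  exact c3

theorem ker_bot_of_pgroup (p : ℕ) (hp : p = 2 ∨ p = 3) (Γ' : Type) [Group Γ'] [Finite Γ']
    (σ' : Γ' →* ↥Spor.M23) (hσ : Cfsg.IsStemExtension σ')
    (hpk : ∀ z ∈ σ'.ker, ∃ n : ℕ, z ^ (p ^ n) = 1) : σ'.ker = ⊥ := by
  have : Fact p.Prime := ⟨by rcases hp with rfl | rfl <;> norm_num⟩
  refine ker_eq_bot_of_safe p 4 g ord g_pow (ord_coprime p hp) closure_g srelsAll hvalid ?_ σ' hσ hpk
  intro L _ _ t ht hs
  rw [card_M23]
  exact hbound L t (fun i _ => ht i) hs

theorem multiplier_M23 : Cfsg.HasCyclicSchurMultiplier ↥Spor.M23 1 := by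
  apply hasCyclic_one_of_primes
  intro p hp hpd
  rw [card_M23] at hpd
  have hfac : (10200960 : ℕ) = 2 ^ 7 * 3 ^ 2 * 5 * 7 * 11 * 23 := by norm_num
  rw [hfac] at hpd
  have hcase : p = 2 ∨ p = 3 ∨ p = 5 ∨ p = 7 ∨ p = 11 ∨ p = 23 := by
    rcases (Nat.Prime.dvd_mul hp).1 hpd with h | h
    · rcases (Nat.Prime.dvd_mul hp).1 h with h | h
      · rcases (Nat.Prime.dvd_mul hp).1 h with h | h
        · rcases (Nat.Prime.dvd_mul hp).1 h with h | h
          · rcases (Nat.Prime.dvd_mul hp).1 h with h | h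
            · left
              exact (Nat.prime_dvd_prime_iff_eq hp (by norm_num)).1 (hp.dvd_of_dvd_pow h)
            · right; left
              exact (Nat.prime_dvd_prime_iff_eq hp (by norm_num)).1 (hp.dvd_of_dvd_pow h)
          · right; right; left
            exact (Nat.prime_dvd_prime_iff_eq hp (by norm_num)).1 h
        · right; right; right; left
          exact (Nat.prime_dvd_prime_iff_eq hp (by norm_num)).1 h
      · right; right; right; right; left
        exact (Nat.prime_dvd_prime_iff_eq hp (by norm_num)).1 h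
    · right; right; right; right; right
      exact (Nat.prime_dvd_prime_iff_eq hp (by norm_num)).1 h
  rcases hcase with rfl | rfl | rfl | rfl | rfl | rfl
  · right
    exact fun Γ' _ _ σ' hσ hpk => ker_bot_of_pgroup 2 (Or.inl rfl) Γ' σ' hσ hpk
  · right
    exact fun Γ' _ _ σ' hσ hpk => ker_bot_of_pgroup 3 (Or.inr rfl) Γ' σ' hσ hpk
  · left
    refine ⟨g 1, 1, 2040192, ?_, ?_, by norm_num⟩
    · rw [pow_one]; exact orderOf_g 1 (by norm_num) (by norm_num [ord])
    · rw [card_M23]; norm_num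
  · left
    refine ⟨ev g w7, 1, 1457280, ?_, ?_, by norm_num⟩
    · rw [pow_one]; exact orderOf_w7
    · rw [card_M23]; norm_num
  · left
    refine ⟨g 0, 1, 927360, ?_, ?_, by norm_num⟩
    · rw [pow_one]; exact orderOf_g 0 (by norm_num) (by norm_num [ord])
    · rw [card_M23]; norm_num
  · left
    refine ⟨g 3, 1, 443520, ?_, ?_, by norm_num⟩
    · rw [pow_one]; exact orderOf_g 3 (by norm_num) (by norm_num [ord])
    · rw [card_M23]; norm_num

end Cfsg.Agent.Lib.Helper89.Mult.M23G
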