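import Cfsg.Agent.Lib.Helper89.Mult.M23G
import Cfsg.Agent.Lib.Helper89.Mult.L1Rels
import Cfsg.Agent.Lib.Helper89.Mult.L2Rels
import Cfsg.Agent.Lib.Helper89.Mult.L3Rels

/-! # The conjugation relators of the levels hold in the group -/

set_option autoImplicit false
set_option maxRecDepth 100000
set_option maxHeartbeats 0
set_option Elab.async false

namespace Cfsg.Agent.Lib.Helper89.Mult.M23G

open Cfsg.Agent.Lib.Helper89.CosetCert Cfsg.Agent.Lib.Helper89.SafePres

theorem validL1_0 : relsOK (L1.srels0.map SRel.word) = true := by decide +kernel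

theorem hvalidL1 : ∀ r ∈ L1.srels, ev g r.word = 1 := by
  intro r hr
  have h := L1.mem_srels hr
  exact relsOK_valid _ validL1_0 _ (List.mem_map_of_mem h)

theorem validL2_0 : relsOK (L2.srels0.map SRel.word) = true := by decide +kernel

theorem hvalidL2 : ∀ r ∈ L2.srels, ev g r.word = 1 := by
  intro r hr
  have h := L2.mem_srels hr
  exact relsOK_valid _ validL2_0 _ (List.mem_map_of_mem h)

theorem validL3_0 : relsOK (L3.srels0.map SRel.word) = true := by decide +kernel

theorem validL3_1 : relsOK (L3.srels1.map SRel.word) = true := by decide +kernel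

theorem validL3_2 : relsOK (L3.srels2.map SRel.word) = true := by decide +kernel

theorem validL3_3 : relsOK (L3.srels3.map SRel.word) = true := by decide +kernel

theorem validL3_4 : relsOK (L3.srels4.map SRel.word) = true := by decide +kernel

theorem validL3_5 : relsOK (L3.srels5.map SRel.word) = true := by decide +kernel

theorem validL3_6 : relsOK (L3.srels6.map SRel.word) = true := by decide +kernel

theorem validL3_7 : relsOK (L3.srels7.map SRel.word) = true := by decide +kernel

theorem validL3_8 : relsOK (L3.srels8.map SRel.word) = true := by decide +kernel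

theorem validL3_9 : relsOK (L3.srels9.map SRel.word) = true := by decide +kernel

theorem validL3_10 : relsOK (L3.srels10.map SRel.word) = true := by decide +kernel

theorem validL3_11 : relsOK (L3.srels11.map SRel.word) = true := by decide +kernel

theorem hvalidL3 : ∀ r ∈ L3.srels, ev g r.word = 1 := by
  intro r hr
  rcases L3.mem_srels hr with h | h | h | h | h | h | h | h | h | h | h | h
  · exact relsOK_valid _ validL3_0 _ (List.mem_map_of_mem h)
  · exact relsOK_valid _ validL3_1 _ (List.mem_map_of_mem h)
  · exact relsOK_valid _ validL3_2 _ (List.mem_map_of_mem h)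
  · exact relsOK_valid _ validL3_3 _ (List.mem_map_of_mem h)
  · exact relsOK_valid _ validL3_4 _ (List.mem_map_of_mem h)
  · exact relsOK_valid _ validL3_5 _ (List.mem_map_of_mem h)
  · exact relsOK_valid _ validL3_6 _ (List.mem_map_of_mem h)
  · exact relsOK_valid _ validL3_7 _ (List.mem_map_of_mem h)
  · exact relsOK_valid _ validL3_8 _ (List.mem_map_of_mem h)
  · exact relsOK_valid _ validL3_9 _ (List.mem_map_of_mem h)
  · exact relsOK_valid _ validL3_10 _ (List.mem_map_of_mem h)
  · exact relsOK_valid _ validL3_11 _ (List.mem_map_of_mem h)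


end Cfsg.Agent.Lib.Helper89.Mult.M23G
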