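import Mathlib
import Cfsg.Prelude.Def_Spor_Mathieu
import Cfsg.Prelude.Def_KGroupFacts
import Cfsg.Agent.Lib.Helper26.M24Order
import Cfsg.Agent.Lib.Helper89.OrbitLB
import Cfsg.Agent.Lib.Helper89.SafePres

/-!
# Explicit elements `a, b, c, d, s₁, s₂, y₁, y₂, e` of `M24` (orders prime to 6), table-driven
-/

set_option autoImplicit false
set_option maxRecDepth 100000
set_option maxHeartbeats 0

namespace Cfsg.Agent.Lib.Helper89.Mult.M24G

open Cfsg Cfsg.Agent.Lib.Helper26 Cfsg.Agent.Lib.Helper89.TableChain2 Cfsg.Agent.Lib.Helper89.OrbitLB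
open Cfsg.Agent.Lib.Helper89.CosetCert Cfsg.Agent.Lib.Helper89.SafePres

/-- packed tables of the 18 letters (5 bits per point) -/
def tabC : List ℕ := [983435072843990828779021698901151808, 970567384681219435340729552166356352, 974254899822750411239905598598325312, 968831900483021157457398538231481440, 973987114766415075681584878354247952, 962466938376566946317395969094192556, 956302485175575353788796878166559809, 983478296959358443554250846857397270, 965300289861748889990672440075108384, 970459361523271695787015306425278496, 955857145805121132139958769188680748, 982095125267594744229723506300062774, 984025515588559765364311745898172032, 984428393231866483225264768128013632, 984775020420386912499657560066069601, 984372905165300306454710930480607243, 928413874498667716355043516223936224, 71492056680133066869724754691572096]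

def tab (l x : ℕ) : ℕ := Nat.land (Nat.shiftRight (tabC.getD l 0) (5 * x)) 31

def pd (l : ℕ) : PermData := ⟨(List.range 24).map (tab l), (List.range 24).map (tab (linv l))⟩

theorem pd_inM24 : ∀ l < 18, (pd l).inM24 = true := by decide +kernel

theorem tab_lt : ∀ l < 18, ∀ x < 24, tab l x < 24 := by decide +kernel

/-- the letters as permutations -/
def P (l : ℕ) : Equiv.Perm GolayPt := (pd l).toPerm

theorem getD_map_range (f : ℕ → ℕ) (x : ℕ) (hx : x < 24) :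
    ((List.range 24).map f).getD x 0 = f x := by
  rw [List.getD_eq_getElem _ _ (by simpa using hx)]
  simp

theorem P_apply (l : ℕ) (hl : l < 18) (x : ℕ) (hx : x < 24) : P l (pt x) = pt (tab l x) := by
  show (pd l).toPerm (pt x) = _
  rw [PermData.toPerm_apply (PermData.ok_of_inM24 (pd_inM24 l hl)), idx_pt x hx]
  show pt (((List.range 24).map (tab l)).getD x 0) = _
  rw [getD_map_range _ x hx]

theorem P_symm_apply (l : ℕ) (hl : l < 18) (x : ℕ) (hx : x < 24) :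
    (P l)⁻¹ (pt x) = pt (tab (linv l) x) := by
  show (pd l).toPerm.symm (pt x) = _
  rw [PermData.toPerm_symm_apply (PermData.ok_of_inM24 (pd_inM24 l hl)), idx_pt x hx]
  show pt (((List.range 24).map (tab (linv l))).getD x 0) = _
  rw [getD_map_range _ x hx]

theorem P_mem (l : ℕ) (hl : l < 18) : P l ∈ M24 := PermData.toPerm_mem_M24 (pd_inM24 l hl)

/-- the nine elements -/
noncomputable def g (i : ℕ) : ↥M24 := if h : i < 9 then ⟨P (2 * i), P_mem _ (by omega)⟩ else 1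

theorem g_coe (i : ℕ) (h : i < 9) : ((g i : ↥M24) : Equiv.Perm GolayPt) = P (2 * i) := by
  rw [g, dif_pos h]

theorem lv_smul : ∀ l < 18, ∀ x < 24, lv g l • pt x = pt (tab l x) := by
  intro l hl x hx
  unfold lv
  by_cases he : l % 2 = 0
  · rw [if_pos he]
    show ((g (l / 2) : ↥M24) : Equiv.Perm GolayPt) (pt x) = _
    rw [g_coe _ (by omega), show 2 * (l / 2) = l by omega, P_apply l hl x hx]
  · rw [if_neg he]
    show (((g (l / 2))⁻¹ : ↥M24) : Equiv.Perm GolayPt) (pt x) = _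
    rw [Subgroup.coe_inv, g_coe _ (by omega), P_symm_apply _ (by omega) x hx]
    have : linv (2 * (l / 2)) = l := by
      unfold linv
      rw [if_pos (by omega)]
      omega
    rw [this]

/-- the table-driven action data on the 18 letters -/
noncomputable def D : Data ↥M24 GolayPt where
  m := 18
  N := 24
  gen := lv g
  pt := pt
  tab := tab
  chk := List.range 24
  gen_smul := lv_smul
  tab_lt := tab_lt
  chk_lt := fun x hx => List.mem_range.1 hx
  faithful := by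
    intro x y h
    apply Subtype.ext
    apply Equiv.ext
    intro p
    have := h (idx p) (List.mem_range.2 (idx_lt p))
    rw [pt_idx] at this
    exact this
  pt_inj := by
    intro x hx y hy h
    have := congrArg idx h
    rwa [idx_pt x hx, idx_pt y hy] at this

/-- the same data restricted to the letters of `a, b, c, d` -/
noncomputable def D4 : Data ↥M24 GolayPt where
  m := 8
  N := 24
  gen := lv g
  pt := pt
  tab := tab
  chk := List.range 24
  gen_smul := fun l hl => lv_smul l (by omega)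
  tab_lt := fun l hl => tab_lt l (by omega)
  chk_lt := D.chk_lt
  faithful := D.faithful
  pt_inj := D.pt_inj

theorem D_ev (w : List ℕ) : D.ev w = ev g w := rfl

/-- `Bool` test that all words of a list act trivially -/
def relsOK (rs : List Word) : Bool :=
  rs.all (fun r => r.all (fun c => decide (c < 18)) &&
    (List.range 24).all (fun x => act tab r x == x))

theorem relsOK_valid (rs : List Word) (h : relsOK rs = true) : ∀ r ∈ rs, ev g r = 1 := by
  intro r hr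
  unfold relsOK at h
  rw [List.all_eq_true] at h
  have h1 := h r hr
  rw [Bool.and_eq_true, List.all_eq_true, List.all_eq_true] at h1
  rw [← D_ev, ← D.ev_nil]
  apply D.ev_eq_of_act (fun c hc => of_decide_eq_true (h1.1 c hc)) (fun c hc => by simp at hc)
  intro x hx
  rw [act_nil]
  exact beq_iff_eq.1 (h1.2 x hx)

theorem ev_ne_one (w : List ℕ) (hw : ∀ c ∈ w, c < 18) (x : ℕ) (hx : x < 24)
    (h : act tab w x ≠ x) : ev g w ≠ 1 := by
  intro h1
  have h2 := D.ev_smul w hw x hx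
  rw [D_ev, h1, one_smul] at h2
  exact h (D.pt_inj _ (D.act_lt w hw x hx) _ hx h2.symm)

/-! ### generation -/

def V0W : List (List ℕ) := [
  [],
  [6],
  [0, 6],
  [2, 5],
  [0, 0, 6],
  [5, 7],
  [1, 5],
  [0, 7, 4],
  [1, 4],
  [0, 4],
  [3, 7],
  [1, 7],
  [5],
  [5, 6],
  [2, 7],
  [7, 4],
  [4],
  [6, 4],
  [2, 4],
  [0, 0, 7],
  [0, 3, 7],
  [0, 7],
  [7]]

theorem vb0 : lbCheck tab 8 [] 0 V0W = true := by decide +kernel

def V1W : List (List ℕ) := [
  [],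
  [0],
  [3],
  [0, 0],
  [7, 0, 5, 0],
  [0, 3],
  [6, 3, 4, 7],
  [4, 1, 6],
  [2, 0],
  [5, 7, 1, 7, 5],
  [7, 2, 4, 4],
  [1],
  [1, 3],
  [6, 0, 0, 6, 4],
  [7, 1, 2, 6],
  [1, 2, 0],
  [6, 4, 0, 2, 7],
  [0, 2, 0],
  [6, 4, 0, 4, 7],
  [7, 4, 6, 5],
  [5, 6, 3, 5, 7],
  [7, 4, 1, 3, 6]]

theorem vb1 : lbCheck tab 8 [0] 1 V1W = true := by decide +kernel

def V2W : List (List ℕ) := [
  [],
  [6, 0, 3, 0, 7],
  [2, 0, 5, 0, 4, 6],
  [7, 2, 2, 5, 2],
  [1, 3, 3, 1],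
  [1, 6, 2, 2, 5, 7],
  [3, 0],
  [2, 2, 1],
  [2, 7, 5, 1, 4],
  [1, 4, 0, 6, 5, 7],
  [7, 0, 5, 0, 0, 2],
  [4, 0, 3, 4],
  [1, 7, 0, 5],
  [3, 7, 0, 5],
  [1, 2],
  [7, 0, 5, 3, 0, 0],
  [5, 2, 1, 5],
  [1, 7, 4, 1, 4, 4],
  [7, 4, 6, 5, 1],
  [4, 1, 6, 0],
  [4, 1, 6, 2]]

theorem vb2 : lbCheck tab 8 [1, 0] 2 V2W = true := by decide +kernel

def V3W : List (List ℕ) := [
  [],
  [3, 0, 0, 4, 1, 6, 3],
  [4, 3, 3, 6, 1],
  [1, 2, 1, 3, 5, 5, 2, 5],
  [0, 6, 4, 4, 6, 0, 4],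
  [5, 5, 0, 5, 1, 2, 6, 3],
  [1, 5, 2, 5, 3, 4],
  [2, 6, 4, 3, 0, 5, 7],
  [0, 4, 1, 6, 2, 1],
  [0, 3, 3, 1, 4, 3, 3, 6],
  [1, 3, 5, 7, 4, 4, 7, 4],
  [0, 7, 2, 2, 5],
  [0, 2, 2, 4, 7, 5, 6, 3],
  [1, 2, 4, 7, 2, 7, 2, 7],
  [7, 2, 0, 3, 5, 6],
  [0, 3, 7, 0, 5, 1],
  [0, 3, 6, 2, 0, 5, 7],
  [1, 6, 1, 2, 6, 3, 7],
  [4, 1, 6, 0, 6, 1, 2, 1, 7],
  [6, 5, 5, 2, 7, 5]]

theorem vb3 : lbCheck tab 8 [2, 1, 0] 3 V3W = true := by decide +kernel

def V4W : List (List ℕ) := [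
  [],
  [0, 7, 2, 2, 5, 1, 2, 0, 4, 4, 6, 6],
  [5, 2, 4, 3, 4, 7, 0, 7, 7, 4, 7, 1],
  [0, 3, 7, 0, 5, 3, 6, 2, 2, 5, 7, 3],
  [4, 3, 3, 6, 3, 3, 5, 3, 5, 6, 5, 2],
  [0, 7, 2, 2, 5, 1, 2, 1, 3, 5, 1, 6, 4, 6],
  [0, 7, 2, 2, 5, 1, 5, 3, 0, 6, 4, 6],
  [0, 3, 3, 0, 4, 3, 4, 4],
  [0, 3, 7, 0, 5, 3, 0, 6, 3, 5, 0, 7, 2],
  [0, 7, 2, 2, 5, 7, 4, 2, 1, 3, 6],
  [4, 3, 3, 6, 1, 4, 1, 6, 2, 7, 2, 2, 5, 0],
  [4, 6, 3, 4, 4, 7, 7, 3, 0, 0, 5, 2, 0],
  [6, 2, 7, 3, 0, 7, 0, 0, 3, 7, 1, 3, 0, 4, 3],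
  [5, 1, 7, 5, 5, 7, 1, 7, 5, 1, 4, 6, 5, 2, 7],
  [7, 4, 2, 1, 3, 6, 2, 5, 0, 4, 6, 3, 3],
  [0, 3, 7, 0, 5, 2, 0, 6, 4, 6, 6, 4, 4]]

theorem vb4 : lbCheck tab 8 [3, 2, 1, 0] 4 V4W = true := by decide +kernel

def V5W : List (List ℕ) := [
  [],
  [2, 6, 4, 3, 3, 7, 2, 4, 1, 6, 2, 4, 1, 6, 2, 1, 3, 4, 1, 2, 5, 0, 6],
  [0, 6, 5, 6, 6, 1, 6, 5, 2, 5, 3, 4, 2, 7, 0, 5, 1, 1, 2, 2, 7, 1, 3, 4, 1, 4]]

theorem vb5 : lbCheck tab 8 [4, 3, 2, 1, 0] 5 V5W = true := by decide +kernel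

def W0 : List (List ℕ) := [
  [6, 16],
  [17],
  [0, 17],
  [3, 17],
  [0, 0, 17],
  [5, 16],
  [0, 3, 17],
  [8, 16],
  [4, 17],
  [2, 0, 17],
  [3, 16],
  [1, 16],
  [1, 17],
  [5, 17],
  [2, 16],
  [1, 8, 16],
  [0, 4, 17],
  [0, 11, 16],
  [1, 5, 17],
  [0, 0, 16],
  [11, 16],
  [0, 16],
  [16],
  []]

theorem lb0 : lbCheck tab 18 [] 23 W0 = true := by decide +kernel

def W1 : List (List ℕ) := [
  [],
  [6],
  [0, 6],
  [2, 5],
  [0, 0, 6],
  [5, 7],
  [1, 5],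
  [3, 15],
  [1, 4],
  [0, 4],
  [3, 7],
  [15],
  [5],
  [5, 6],
  [2, 7],
  [4, 15],
  [4],
  [1, 15],
  [2, 4],
  [5, 15],
  [10, 4],
  [0, 7],
  [7]]

theorem lb1 : lbCheck tab 18 [23] 0 W1 = true := by decide +kernel

def W2 : List (List ℕ) := [
  [],
  [0],
  [3],
  [0, 0],
  [1, 13],
  [0, 3],
  [2, 12],
  [4, 10],
  [2, 0],
  [13],
  [8, 13],
  [1],
  [1, 3],
  [12, 3],
  [8, 12],
  [8, 0],
  [0, 12],
  [0, 2, 0],
  [12, 0],
  [12],
  [9, 12],
  [2, 13]]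

theorem lb2 : lbCheck tab 18 [0, 23] 1 W2 = true := by decide +kernel

def W3 : List (List ℕ) := [
  [],
  [14, 9, 7],
  [2, 12, 12],
  [1, 12, 9, 12],
  [1, 3, 3, 1],
  [1, 5, 12, 4],
  [9],
  [2, 2, 1],
  [12, 2, 1, 13],
  [6, 13, 7],
  [13, 1, 3, 12],
  [12, 1, 12, 9],
  [13, 13, 3],
  [3, 11, 5],
  [1, 2],
  [11, 5, 9, 0],
  [11, 5, 13, 1],
  [5, 13, 4, 2],
  [4, 1, 14, 9],
  [4, 1, 14],
  [4, 10, 2]]

theorem lb3 : lbCheck tab 18 [1, 0, 23] 2 W3 = true := by decide +kernel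

def W4 : List (List ℕ) := [
  [],
  [2, 13, 9, 12, 0],
  [13, 0, 13],
  [2, 13, 4, 10, 12, 8],
  [6, 2, 7, 9, 11],
  [6, 3, 8, 13, 15],
  [1, 13, 4, 7, 8, 5],
  [2, 12, 8, 7, 12, 7, 15],
  [3, 0, 12, 0, 12, 2, 12],
  [1, 13, 8, 12, 3],
  [1, 13, 4, 10, 13],
  [0, 7, 2, 2, 5],
  [8, 13, 4, 10, 8, 0],
  [0, 7, 9, 14, 12],
  [8, 5, 13, 4, 0],
  [8, 13, 1, 5, 13, 4],
  [8, 2, 14, 9, 11, 9],
  [8, 6, 12, 8, 15],
  [1, 7, 4, 4, 12, 15],
  [1, 3, 7, 13, 11, 11]]

theorem lb4 : lbCheck tab 18 [2, 1, 0, 23] 3 W4 = true := by decide +kernel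

def W5 : List (List ℕ) := [
  [],
  [1, 13, 8, 12, 3, 3, 0, 0, 4, 10, 3],
  [12, 1, 12, 3, 0, 2, 7, 9, 14, 9],
  [4, 9, 6, 5, 12, 8, 4, 3, 9, 5, 3],
  [2, 13, 8, 8, 12],
  [12, 1, 12, 2, 13, 2, 2, 13],
  [12, 1, 12, 8, 0, 4, 4, 6, 6],
  [1, 5, 12, 4, 1, 13, 13, 9, 2],
  [12, 1, 12, 12, 1, 12],
  [12, 1, 12, 12, 3, 3, 12, 3],
  [12, 1, 12, 4, 3, 3, 6, 1],
  [10, 8, 6, 3, 7, 13, 3, 6, 3, 4, 7],
  [1, 5, 12, 4, 9, 0, 2, 2, 9, 12, 8, 2],
  [5, 12, 4, 0, 12, 12, 9, 6, 13, 11],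
  [5, 12, 4, 0, 12, 9, 13, 5, 11, 11, 7, 8],
  [1, 5, 12, 4, 9, 2, 0, 4, 10, 3, 3]]

theorem lb5 : lbCheck tab 18 [3, 2, 1, 0, 23] 4 W5 = true := by decide +kernel

def W6 : List (List ℕ) := [
  [],
  [14, 9, 13, 7, 1, 4, 10, 1, 13],
  [2, 13, 2, 2, 13, 13, 0, 13, 14, 9, 13, 7, 9, 13, 8, 12, 3, 3]]

theorem lb6 : lbCheck tab 18 [4, 3, 2, 1, 0, 23] 5 W6 = true := by decide +kernel


theorem card_M24' : Nat.card ↥M24 = 244823040 := card_M24

theorem card_H4 : 10200960 ≤ Nat.card (D4.H D4.m) := by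
  have h0 := fixH_level D4 [] 0 (by decide) (by simp) V0W vb0
  have h1 := fixH_level D4 [0] 1 (by decide) (by decide) V1W vb1
  have h2 := fixH_level D4 [1, 0] 2 (by decide) (by decide) V2W vb2
  have h3 := fixH_level D4 [2, 1, 0] 3 (by decide) (by decide) V3W vb3
  have h4 := fixH_level D4 [3, 2, 1, 0] 4 (by decide) (by decide) V4W vb4
  have h5 := fixH_level D4 [4, 3, 2, 1, 0] 5 (by decide) (by decide) V5W vb5
  have h6 : 0 < Nat.card (fixH D4 [5, 4, 3, 2, 1, 0]) := Nat.card_pos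
  rw [fixH_nil] at h0
  have e0 : V0W.length = 23 := by decide
  have e1 : V1W.length = 22 := by decide
  have e2 : V2W.length = 21 := by decide
  have e3 : V3W.length = 20 := by decide
  have e4 : V4W.length = 16 := by decide
  have e5 : V5W.length = 3 := by decide
  rw [e0] at h0; rw [e1] at h1; rw [e2] at h2; rw [e3] at h3; rw [e4] at h4; rw [e5] at h5
  omega

theorem card_closure4 : 10200960 ≤ Nat.card (Subgroup.closure {y | ∃ i < 4, y = g i}) := by
  have hle : D4.H D4.m ≤ Subgroup.closure {y | ∃ i < 4, y = g i} := by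
    show Subgroup.closure (D4.S 8) ≤ _
    rw [Subgroup.closure_le]
    rintro x ⟨l, hl, rfl⟩
    show lv g l ∈ _
    unfold lv
    split_ifs
    · exact Subgroup.subset_closure ⟨l / 2, by omega, rfl⟩
    · exact Subgroup.inv_mem _ (Subgroup.subset_closure ⟨l / 2, by omega, rfl⟩)
  exact le_trans card_H4 (Subgroup.card_le_of_le hle)

theorem card_H : 244823040 ≤ Nat.card (D.H D.m) := by
  have h0 := fixH_level D [] 23 (by decide) (by simp) W0 lb0
  have h1 := fixH_level D [23] 0 (by decide) (by decide) W1 lb1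
  have h2 := fixH_level D [0, 23] 1 (by decide) (by decide) W2 lb2
  have h3 := fixH_level D [1, 0, 23] 2 (by decide) (by decide) W3 lb3
  have h4 := fixH_level D [2, 1, 0, 23] 3 (by decide) (by decide) W4 lb4
  have h5 := fixH_level D [3, 2, 1, 0, 23] 4 (by decide) (by decide) W5 lb5
  have h6 := fixH_level D [4, 3, 2, 1, 0, 23] 5 (by decide) (by decide) W6 lb6
  have h7 : 0 < Nat.card (fixH D [5, 4, 3, 2, 1, 0, 23]) := Nat.card_pos
  rw [fixH_nil] at h0
  have e0 : W0.length = 24 := by decide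
  have e1 : W1.length = 23 := by decide
  have e2 : W2.length = 22 := by decide
  have e3 : W3.length = 21 := by decide
  have e4 : W4.length = 20 := by decide
  have e5 : W5.length = 16 := by decide
  have e6 : W6.length = 3 := by decide
  rw [e0] at h0; rw [e1] at h1; rw [e2] at h2; rw [e3] at h3; rw [e4] at h4; rw [e5] at h5
  rw [e6] at h6
  omega

theorem closure_g : Subgroup.closure {y | ∃ i < 9, y = g i} = ⊤ := by
  have hle : D.H D.m ≤ Subgroup.closure {y | ∃ i < 9, y = g i} := by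
    show Subgroup.closure (D.S 18) ≤ _
    rw [Subgroup.closure_le]
    rintro x ⟨l, hl, rfl⟩
    show lv g l ∈ _
    unfold lv
    split_ifs
    · exact Subgroup.subset_closure ⟨l / 2, by omega, rfl⟩
    · exact Subgroup.inv_mem _ (Subgroup.subset_closure ⟨l / 2, by omega, rfl⟩)
  apply Subgroup.eq_top_of_card_eq
  apply le_antisymm (Subgroup.card_le_card_group _)
  rw [card_M24']
  exact le_trans card_H (Subgroup.card_le_of_le hle)

/-! ### orders -/

def ord (i : ℕ) : ℕ := [11, 5, 5, 23, 5, 11, 5, 11, 23].getD i 1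

def powRels : List Word := (List.range 9).map (fun i => powWord (ord i) i)

theorem powRels_ok : relsOK powRels = true := by decide +kernel

theorem g_pow (i : ℕ) : g i ^ ord i = 1 := by
  by_cases h : i < 9
  · have hv := relsOK_valid powRels powRels_ok (powWord (ord i) i)
      (List.mem_map.2 ⟨i, List.mem_range.2 h, rfl⟩)
    rwa [ev_powWord] at hv
  · rw [g, dif_neg h, one_pow]

theorem ord_coprime (p : ℕ) (hp : p = 2 ∨ p = 3) (i : ℕ) : (ord i).Coprime p := by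
  unfold ord
  by_cases h : i < 9
  · interval_cases i <;> rcases hp with rfl | rfl <;> decide
  · rw [List.getD_eq_default _ _ (by simp; omega)]
    exact Nat.coprime_one_left p

/-- a word of order 7 -/
def w7 : Word := [2, 7]

theorem w7_pow : relsOK [(List.replicate 7 w7).flatten] = true := by decide +kernel

theorem ev_flatten_replicate (w : Word) (n : ℕ) : ev g (List.replicate n w).flatten = ev g w ^ n := by
  induction n with
  | zero => simp
  | succ n ih => rw [List.replicate_succ, List.flatten_cons, ev_append, ih, pow_succ']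

theorem orderOf_w7 : orderOf (ev g w7) = 7 := by
  have : Fact (Nat.Prime 7) := ⟨by norm_num⟩
  apply orderOf_eq_prime
  · rw [← ev_flatten_replicate]
    exact relsOK_valid _ w7_pow _ (List.mem_singleton.2 rfl)
  · exact ev_ne_one w7 (by decide) 0 (by decide) (by decide +kernel)

theorem orderOf_g (i : ℕ) (hi : i < 9) (hp : (ord i).Prime) : orderOf (g i) = ord i := by
  have : Fact (ord i).Prime := ⟨hp⟩
  apply orderOf_eq_prime (g_pow i)
  have h := ev_ne_one [2 * i] (by intro c hc; rw [List.mem_singleton] at hc; omega) 2 (by norm_num)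
    (by interval_cases i <;> decide +kernel)
  rwa [ev_cons, ev_nil, mul_one, lv_two_mul] at h

/-! ### the auxiliary elements are words in `a, b, c, d` -/

/-- words for `s₁, s₂, y₁, y₂` -/
def auxw (i : ℕ) : Word := [[1, 2], [1, 6], [4, 0, 5, 0, 2, 4, 6, 0, 5, 3, 3], [6, 0]].getD (i - 4) []

theorem auxw_letters : ∀ i < 8, ∀ l ∈ auxw i, l < 2 * 4 := by decide

def auxDefs : List Word := (List.range 4).map (fun j => (2 * (j + 4) + 1) :: auxw (j + 4))

theorem auxDefs_ok : relsOK auxDefs = true := by decide +kernel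

theorem aux_eq (i : ℕ) (h4 : 4 ≤ i) (h8 : i < 8) : ev g (auxw i) = g i := by
  have hv := relsOK_valid auxDefs auxDefs_ok ((2 * i + 1) :: auxw i)
    (List.mem_map.2 ⟨i - 4, List.mem_range.2 (by omega), by rw [show i - 4 + 4 = i by omega]⟩)
  rw [ev_cons, lv_two_mul_add_one] at hv
  exact (inv_mul_eq_one.1 hv).symm

end Cfsg.Agent.Lib.Helper89.Mult.M24G
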