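import Cfsg.Agent.Lib.Helper89.Mult.M24Valid
import Cfsg.Agent.Lib.Helper89.Mult.M23Main
import Cfsg.Agent.Lib.Helper89.Mult.L4Cert

/-! # The Schur multiplier of `M24` is trivial -/

set_option autoImplicit false
set_option maxRecDepth 100000

namespace Cfsg.Agent.Lib.Helper89.Mult.M24G

open Cfsg Cfsg.Agent.Lib.Helper89.CosetCert Cfsg.Agent.Lib.Helper89.SafePres
open Cfsg.Agent.Lib.Helper89.StemSafe

/-- all conjugation relators -/
def srelsAll : List SRel := M23G.srelsAll ++ L4.srels

theorem hvalid : ∀ r ∈ srelsAll, ev g r.word = 1 := by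
  intro r hr
  unfold srelsAll M23G.srelsAll at hr
  rw [List.mem_append, List.mem_append, List.mem_append] at hr
  rcases hr with ((hr | hr) | hr) | hr
  · exact hvalidL1 r hr
  · exact hvalidL2 r hr
  · exact hvalidL3 r hr
  · exact hvalidL4 r hr

theorem valid_arels : ∀ r ∈ L4.arels, ev g r = 1 := relsOK_valid _ validA

theorem pw4 : ∀ q ∈ L4.pw, q.1 = ord q.2 := by decide

theorem ord_eq : ∀ i < 4, M23G.ord i = ord i := by decide

theorem ker_bot_of_pgroup (p : ℕ) (hp : p = 2 ∨ p = 3) (Γ' : Type) [Group Γ'] [Finite Γ']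
    (σ' : Γ' →* ↥M24) (hσ : Cfsg.IsStemExtension σ')
    (hpk : ∀ z ∈ σ'.ker, ∃ n : ℕ, z ^ (p ^ n) = 1) : σ'.ker = ⊥ := by
  have hpp : Fact p.Prime := ⟨by rcases hp with rfl | rfl <;> norm_num⟩
  obtain ⟨hsurj, hcen, hcomm⟩ := hσ
  have hex : ∀ i, ∃ γ : Γ', σ' γ = g i ∧ γ ^ ord i = 1 := fun i =>
    good_exists σ' p hsurj hcen hpk (g i) (ord i) (g_pow i) (ord_coprime p hp i)
  choose t hσt ht using hex
  have hfun : (fun i => σ' (t i)) = g := funext hσt
  have hsafe : ∀ r ∈ srelsAll, ev t r.word = 1 := by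
    intro r hr
    apply lift_srel σ' p hcen hpk t ord ht (ord_coprime p hp) r
    rw [hfun]
    exact hvalid r hr
  -- stage 1: the lifts of `a, b, c, d` generate a copy of `M23`
  have hc4 : Nat.card (Subgroup.closure {y | ∃ i < 4, y = t i}) ≤ 10200960 :=
    M23G.hbound Γ' t (fun i hi => by rw [ord_eq i hi]; exact ht i)
      (fun r hr => hsafe r (List.mem_append_left _ hr))
  have hinj4 := inj_on_closure σ' 4 t g hσt (le_trans hc4 card_closure4)
  set T4 : Subgroup Γ' := Subgroup.closure {y | ∃ i < 4, y = t i} with hT4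
  -- the lifts of the auxiliary elements lie in it
  have haux : ∀ i < 8, t i ∈ T4 := by
    intro i hi
    by_cases h4 : i < 4
    · exact Subgroup.subset_closure ⟨i, h4, rfl⟩
    · have hx : ev t (auxw i) ∈ T4 :=
        ev_mem_of_letters t T4 4 (fun j hj => Subgroup.subset_closure ⟨j, hj, rfl⟩) (auxw i)
          (auxw_letters i hi)
      have hσx : σ' (ev t (auxw i)) = g i := by
        rw [ev_map_hom, hfun]
        exact aux_eq i (by omega) hi
      have hxo : ev t (auxw i) ^ ord i = 1 :=
        hinj4 _ (T4.pow_mem hx _) (by rw [map_pow, hσx, g_pow])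
      have hxy : σ' (ev t (auxw i)) = σ' (t i) := by rw [hσx, hσt]
      have := good_unique σ' p hcen hpk hxy hxo (ht i) (ord_coprime p hp i) (ord_coprime p hp i)
      rw [← this]
      exact hx
  -- arbitrary relations of `M23` hold for the lifts
  have harb : ∀ r ∈ L4.arels, ev t r = 1 := by
    intro r hr
    apply hinj4 _ (ev_mem_of_letters t T4 8 haux r (arels_letters r hr))
    rw [ev_map_hom, hfun]
    exact valid_arels r hr
  have hr4 : ∀ r ∈ L4.cert.rels, ev t r = 1 := by
    show ∀ r ∈ L4.rels, ev t r = 1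
    rw [L4.rels_eq]
    intro r hr
    rw [List.mem_append] at hr
    rcases hr with hr | hr
    · exact rels_valid t _ _ (fun q hq => by rw [pw4 q hq]; exact ht _)
        (fun r hr => hsafe r (List.mem_append_right _ hr)) r hr
    · exact harb r hr
  have hc8 : Nat.card (Subgroup.closure {y | ∃ i < L4.cert.j0, y = t i}) ≤ 10200960 := by
    refine le_trans (Subgroup.card_le_of_le ?_) hc4
    rw [Subgroup.closure_le]
    rintro y ⟨i, hi, rfl⟩
    exact haux i hi
  have c4 := cert_step t L4.cert L4.cert_ok hr4 _ hc8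
  refine ker_eq_bot_of_card σ' ⟨hsurj, hcen, hcomm⟩ 9 g t hσt closure_g ?_
  rw [card_M24']
  exact c4

theorem multiplier_M24 : Cfsg.HasCyclicSchurMultiplier ↥M24 1 := by
  apply hasCyclic_one_of_primes
  intro p hp hpd
  rw [card_M24'] at hpd
  have hfac : (244823040 : ℕ) = 2 ^ 10 * 3 ^ 3 * 5 * 7 * 11 * 23 := by norm_num
  rw [hfac] at hpd
  have hcase : p = 2 ∨ p = 3 ∨ p = 5 ∨ p = 7 ∨ p = 11 ∨ p = 23 := by
    rcases (Nat.Prime.dvd_mul hp).1 hpd with h | h
    · rcases (Nat.Prime.dvd_mul hp).1 h with h | h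
      · rcases (Nat.Prime.dvd_mul hp).1 h with h | h
        · rcases (Nat.Prime.dvd_mul hp).1 h with h | h
          · rcases (Nat.Prime.dvd_mul hp).1 h with h | h
            · left
              exact (Nat.prime_dvd_prime_iff_eq hp (by norm_num)).1 (hp.dvd_of_dvd_pow h)
            · right; left
              exact (Nat.prime_dvd_prime_iff_eq hp (by norm_num)).1 (hp.dvd_of_dvd_pow h)
          · right; right; left
            exact (Nat.prime_dvd_prime_iff_eq hp (by norm_num)).1 h
        · right; right; right; left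
          exact (Nat.prime_dvd_prime_iff_eq hp (by norm_num)).1 h
      · right; right; right; right; left
        exact (Nat.prime_dvd_prime_iff_eq hp (by norm_num)).1 h
    · right; right; right; right; right
      exact (Nat.prime_dvd_prime_iff_eq hp (by norm_num)).1 h
  rcases hcase with rfl | rfl | rfl | rfl | rfl | rfl
  · right
    exact fun Γ' _ _ σ' hσ hpk => ker_bot_of_pgroup 2 (Or.inl rfl) Γ' σ' hσ hpk
  · right
    exact fun Γ' _ _ σ' hσ hpk => ker_bot_of_pgroup 3 (Or.inr rfl) Γ' σ' hσ hpk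
  · left
    refine ⟨g 1, 1, 48964608, ?_, ?_, by norm_num⟩
    · rw [pow_one]; exact orderOf_g 1 (by norm_num) (by norm_num [ord])
    · rw [card_M24']; norm_num
  · left
    refine ⟨ev g w7, 1, 34974720, ?_, ?_, by norm_num⟩
    · rw [pow_one]; exact orderOf_w7
    · rw [card_M24']; norm_num
  · left
    refine ⟨g 0, 1, 22256640, ?_, ?_, by norm_num⟩
    · rw [pow_one]; exact orderOf_g 0 (by norm_num) (by norm_num [ord])
    · rw [card_M24']; norm_num
  · left
    refine ⟨g 3, 1, 10644480, ?_, ?_, by norm_num⟩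
    · rw [pow_one]; exact orderOf_g 3 (by norm_num) (by norm_num [ord])
    · rw [card_M24']; norm_num

end Cfsg.Agent.Lib.Helper89.Mult.M24G
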