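import Cfsg.Agent.Lib.Helper89.Mult.O8G
import Cfsg.Agent.Lib.Helper37.POmegaCard
import Cfsg.Agent.Lib.Helper43.OrthCardForms

/-!
# The order of `Ω⁺(8, 2)`, its centre, and generation by `a, b, c, d`
-/

set_option autoImplicit false
set_option maxRecDepth 100000

namespace Cfsg.Agent.Lib.Helper89.Mult.O8G

open Cfsg Matrix Cfsg.Agent.Lib.Helper89.TableChain2
open Cfsg.Agent.Lib.Helper8 Cfsg.Agent.Lib.Helper37 Cfsg.Agent.Lib.Helper43

theorem two_eq_zero : (2 : ZMod 2) = 0 := by decide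

theorem card_O8 : Nat.card O8 = 348364800 := by
  have h := card_isometryGroup_plus (F := ZMod 2) 3
  rw [ZMod.card] at h
  show Nat.card ↥(Cfsg.isometryGroup (ZMod 2) (Cfsg.quadFormPlus (3 + 1) (ZMod 2))) = _
  rw [h]
  norm_num [Finset.prod_range_succ]

theorem index_Omega : (Cfsg.Omega (ZMod 2) Qf).index = 2 := by
  have hex : ∃ v, (plusForm 4 (ZMod 2)) v ≠ 0 := by
    refine ⟨fun j => if j = Sum.inl 0 ∨ j = Sum.inr 0 then 1 else 0, ?_⟩
    show (⇑(plusForm 4 (ZMod 2))) _ ≠ 0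
    rw [← plusForm_coe]
    decide
  have h := commutator_index_two_char2 two_eq_zero (plusForm 4 (ZMod 2))
    (plusForm_nondegenerate 4 (ZMod 2))
    (Or.inr (by rw [Module.finrank_fintype_fun_eq_card]; simp)) hex
  rw [← plusForm_coe] at h
  exact h

theorem card_G0 : Nat.card G0 = 174182400 := by
  have h := Subgroup.card_mul_index (Cfsg.Omega (ZMod 2) Qf)
  rw [index_Omega, card_O8] at h
  show Nat.card ↥(Cfsg.Omega (ZMod 2) Qf) = _
  omega

theorem center_G0 : Subgroup.center G0 = ⊥ := by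
  apply Subgroup.eq_bot_of_card_eq
  have h := card_center_omega_one (plusForm 4 (ZMod 2)) (plusForm_nondegenerate 4 (ZMod 2))
    (let h := plus_family 4 (ZMod 2); ⟨h.qe, h.qf, h.ee, h.ff, h.ef⟩) (by norm_num) (Or.inl two_eq_zero)
  rw [← plusForm_coe] at h
  exact h

theorem closure_g : Subgroup.closure {y | ∃ i < 4, y = g i} = ⊤ := by
  apply Subgroup.eq_top_of_card_eq
  apply le_antisymm (Subgroup.card_le_card_group _)
  rw [card_G0]
  exact le_trans card_H (Subgroup.card_le_of_le H_le)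

end Cfsg.Agent.Lib.Helper89.Mult.O8G
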