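import Mathlib
import Cfsg.Prelude.Def_KGroupFacts
import Cfsg.Prelude.Def_Classical
import Cfsg.Agent.Lib.Helper89.OrbitLB
import Cfsg.Agent.Lib.Helper89.SafePres
import Cfsg.Agent.Lib.Helper89.Mult.O8M

/-!
# Explicit generators `a, b, c, d` (all of order 7) of `Ω⁺(8, 2)`, table-driven
-/

set_option autoImplicit false
set_option maxRecDepth 100000
set_option maxHeartbeats 0

namespace Cfsg.Agent.Lib.Helper89.Mult.O8G

open Cfsg Matrix Cfsg.Agent.Lib.Helper89.TableChain2 Cfsg.Agent.Lib.Helper89.OrbitLB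
open Cfsg.Agent.Lib.Helper89.CosetCert Cfsg.Agent.Lib.Helper89.SafePres
open scoped commutatorElement

theorem linv_lt (l : ℕ) (h : l < 16) : linv l < 16 := by
  unfold linv
  split_ifs <;> omega

/-- the letters as invertible matrices -/
def U (l : ℕ) : GL I8 (ZMod 2) :=
  if h : l < 16 then ⟨Mx l, Mx (linv l), Mx_inv l h, Mx_inv2 l h⟩ else 1

theorem U_coe (l : ℕ) (h : l < 16) : ((U l : GL I8 (ZMod 2)) : Mat) = Mx l := by
  rw [U, dif_pos h]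

theorem U_mem (l : ℕ) : U l ∈ Cfsg.isometryGroup (ZMod 2) Qf := by
  by_cases h : l < 16
  · intro u _
    show Qf (((U l : GL I8 (ZMod 2)) : Mat) *ᵥ u) = Qf u
    rw [U_coe l h]
    exact Mx_iso l h u
  · rw [U, dif_neg h]
    exact Subgroup.one_mem _

/-- the letters as isometries -/
def UO (l : ℕ) : O8 := ⟨U l, U_mem l⟩

theorem UO_coe (l : ℕ) (h : l < 16) : (((UO l : O8) : GL I8 (ZMod 2)) : Mat) = Mx l :=
  U_coe l h

theorem O8_ext (x y : O8) (h : ((x : GL I8 (ZMod 2)) : Mat) = ((y : GL I8 (ZMod 2)) : Mat)) :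
    x = y :=
  Subtype.ext (Units.ext h)

theorem UO_inv (l : ℕ) (h : l < 16) : (UO l)⁻¹ = UO (linv l) := by
  apply inv_eq_of_mul_eq_one_right
  apply O8_ext
  show (((UO l : O8) : GL I8 (ZMod 2)) : Mat) * (((UO (linv l) : O8) : GL I8 (ZMod 2)) : Mat) = 1
  rw [UO_coe l h, UO_coe _ (linv_lt l h)]
  exact Mx_inv l h

theorem UO_comm (i : ℕ) (h : i < 4) : ⁅UO (8 + 2 * i), UO (2 * i)⁆ = UO (2 * i) := by
  rw [commutatorElement_def, UO_inv _ (by omega), UO_inv _ (by omega)]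
  have e1 : linv (8 + 2 * i) = 8 + 2 * i + 1 := by
    unfold linv
    rw [if_pos (by omega)]
  have e2 : linv (2 * i) = 2 * i + 1 := by
    unfold linv
    rw [if_pos (by omega)]
  rw [e1, e2]
  apply O8_ext
  show (((UO (8 + 2 * i) : O8) : GL I8 (ZMod 2)) : Mat) * (((UO (2 * i) : O8) : GL I8 (ZMod 2)) : Mat) *
    (((UO (8 + 2 * i + 1) : O8) : GL I8 (ZMod 2)) : Mat) *
    (((UO (2 * i + 1) : O8) : GL I8 (ZMod 2)) : Mat) = _
  rw [UO_coe _ (by omega), UO_coe _ (by omega), UO_coe _ (by omega), UO_coe _ (by omega)]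
  exact Mx_comm i h

theorem UO_mem (i : ℕ) (h : i < 4) : UO (2 * i) ∈ Cfsg.Omega (ZMod 2) Qf := by
  rw [← UO_comm i h]
  show _ ∈ commutator O8
  rw [commutator_def]
  exact Subgroup.commutator_mem_commutator (Subgroup.mem_top _) (Subgroup.mem_top _)

/-- the generators -/
def g (i : ℕ) : G0 := if h : i < 4 then ⟨UO (2 * i), UO_mem i h⟩ else 1

theorem g_coe (i : ℕ) (h : i < 4) : ((g i : G0) : O8) = UO (2 * i) := by
  rw [g, dif_pos h]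

/-- the matrix of an element of `Ω` -/
def toMat (x : G0) : Mat := (((x : O8) : GL I8 (ZMod 2)) : Mat)

theorem toMat_mul (x y : G0) : toMat (x * y) = toMat x * toMat y := rfl

theorem toMat_one : toMat 1 = 1 := rfl

/-- the natural action -/
instance (priority := 100000) instSMulG0 : SMul G0 V := ⟨fun x v => toMat x *ᵥ v⟩

theorem smul_def (x : G0) (v : V) : x • v = toMat x *ᵥ v := rfl

instance (priority := 100000) instMulActionG0 : MulAction G0 V where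
  one_smul v := by
    rw [smul_def, toMat_one, Matrix.one_mulVec]
  mul_smul x y v := by
    rw [smul_def, smul_def, smul_def, toMat_mul, Matrix.mulVec_mulVec]

theorem lv_coe (l : ℕ) (hl : l < 8) : ((lv g l : G0) : O8) = UO l := by
  unfold lv
  by_cases he : l % 2 = 0
  · rw [if_pos he, g_coe _ (by omega), show 2 * (l / 2) = l by omega]
  · rw [if_neg he, Subgroup.coe_inv, g_coe _ (by omega), UO_inv _ (by omega)]
    congr 1
    unfold linv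
    rw [if_pos (by omega)]
    omega

theorem lv_smul : ∀ l < 8, ∀ x < 256, lv g l • pt x = pt (tab l x) := by
  intro l hl x hx
  rw [smul_def]
  show (((( lv g l : G0) : O8) : GL I8 (ZMod 2)) : Mat) *ᵥ pt x = _
  rw [lv_coe l hl, UO_coe l (by omega)]
  exact Mx_mulVec l hl x hx

/-- the table-driven action data on the eight letters -/
def D : Data G0 V where
  m := 8
  N := 256
  gen := lv g
  pt := pt
  tab := tab
  chk := [1, 2, 4, 8, 16, 32, 64, 128]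
  gen_smul := lv_smul
  tab_lt := tab_lt
  chk_lt := by decide
  faithful := by
    intro x y h
    apply Subtype.ext
    apply O8_ext
    ext r c
    have hc : 2 ^ cidx c ∈ [1, 2, 4, 8, 16, 32, 64, 128] := by
      rcases c with c | c <;> fin_cases c <;> decide
    have h1 := h _ hc
    rw [pt_basis c, smul_def, smul_def] at h1
    have h2 := congrFun h1 r
    rw [Matrix.mulVec_single_one, Matrix.mulVec_single_one] at h2
    exact h2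
  pt_inj := pt_inj

theorem D_ev (w : List ℕ) : D.ev w = ev g w := rfl

/-- `Bool` test that all words of a list act trivially -/
def relsOK (rs : List Word) : Bool :=
  rs.all (fun r => r.all (fun c => decide (c < 8)) &&
    [1, 2, 4, 8, 16, 32, 64, 128].all (fun x => act tab r x == x))

theorem relsOK_valid (rs : List Word) (h : relsOK rs = true) : ∀ r ∈ rs, ev g r = 1 := by
  intro r hr
  unfold relsOK at h
  rw [List.all_eq_true] at h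
  have h1 := h r hr
  rw [Bool.and_eq_true, List.all_eq_true, List.all_eq_true] at h1
  rw [← D_ev, ← D.ev_nil]
  apply D.ev_eq_of_act (fun c hc => of_decide_eq_true (h1.1 c hc)) (fun c hc => by simp at hc)
  intro x hx
  rw [act_nil]
  exact beq_iff_eq.1 (h1.2 x hx)

theorem ev_ne_one (w : List ℕ) (hw : ∀ c ∈ w, c < 8) (x : ℕ) (hx : x < 256)
    (h : act tab w x ≠ x) : ev g w ≠ 1 := by
  intro h1
  have h2 := D.ev_smul w hw x hx
  rw [D_ev, h1, one_smul] at h2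
  exact h (D.pt_inj _ (D.act_lt w hw x hx) _ hx h2.symm)

/-! ### generation: a lower bound for the order of the group generated -/

def W0 : List (List ℕ) := [
  [],
  [0, 2, 7, 7],
  [5, 7, 3],
  [3, 1],
  [1, 7, 0],
  [0, 2],
  [1, 1, 4, 7],
  [5, 0, 7],
  [1, 1],
  [0, 7, 0],
  [2, 0],
  [1, 7, 3],
  [0, 4, 7, 7],
  [1, 5],
  [4, 1, 7],
  [0, 0, 7, 7],
  [1, 7],
  [0, 2, 5],
  [1, 6, 6],
  [1, 7, 7],
  [6, 0, 6],
  [1],
  [0, 3, 0],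
  [6, 0, 0],
  [2, 6, 3],
  [2],
  [2, 4, 7],
  [4, 7, 5],
  [7, 4, 7],
  [0, 2, 1],
  [5, 6, 0],
  [0, 0, 7],
  [6, 1, 6],
  [0, 2, 0],
  [6, 0],
  [0, 6, 3, 1],
  [6, 6, 2],
  [0, 6, 6],
  [0, 6, 2],
  [6, 6],
  [7, 5],
  [2, 5],
  [3, 7],
  [7, 1],
  [0, 7, 5],
  [0, 6, 3],
  [1, 5, 0, 7],
  [3, 7, 1],
  [1, 2, 6, 6],
  [0, 7, 1],
  [1, 1, 1],
  [0, 0, 6],
  [0, 6, 6, 2],
  [1, 7, 1],
  [0, 5, 1],
  [1, 1, 6],
  [0, 3, 7],
  [2, 7],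
  [2, 2],
  [4, 0],
  [6, 5, 1],
  [5, 1, 7],
  [1, 1, 5],
  [0, 3, 1, 6],
  [0, 2, 4, 7],
  [0],
  [3, 6, 0],
  [4, 2, 0],
  [1, 2, 7],
  [2, 1, 6],
  [0, 7, 2, 7],
  [5, 7],
  [6],
  [7, 7],
  [0, 3, 1],
  [3, 1, 6],
  [0, 6, 0, 0],
  [0, 6],
  [7, 2, 1],
  [3, 1, 7],
  [0, 7],
  [0, 3],
  [6, 1, 2],
  [1, 3, 1],
  [2, 1],
  [0, 0, 6, 0],
  [7, 1, 2],
  [6, 2, 7],
  [2, 0, 6],
  [0, 0],
  [1, 5, 7],
  [1, 6, 0],
  [0, 0, 2],
  [1, 3, 0],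
  [2, 1, 7],
  [0, 6, 0],
  [0, 6, 1, 2],
  [3, 0],
  [1, 3, 7],
  [1, 6],
  [3, 7, 5],
  [2, 7, 7],
  [5, 1],
  [6, 3, 7],
  [6, 5, 7],
  [5],
  [7],
  [4, 0, 7],
  [5, 6, 3],
  [4, 7, 7],
  [2, 7, 1],
  [1, 2],
  [7, 0, 3],
  [0, 2, 1, 2],
  [4, 6, 3],
  [6, 3, 1],
  [0, 7, 7],
  [6, 2, 0],
  [1, 4, 7],
  [6, 3],
  [6, 2],
  [4, 7],
  [3],
  [7, 3],
  [7, 2, 7],
  [2, 6, 0],
  [2, 1, 2],
  [0, 2, 6, 3],
  [0, 5, 7],
  [0, 0, 0],
  [7, 0],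
  [3, 7, 7],
  [1, 6, 3],
  [0, 0, 5, 7],
  [2, 6, 6]]

theorem lb0 : lbCheck tab 8 [] 1 W0 = true := by decide +kernel

def W1 : List (List ℕ) := [
  [],
  [6, 1, 2, 7, 0],
  [7, 2, 2, 5, 2],
  [4, 4, 3, 4],
  [7, 4, 4, 3],
  [3, 4, 3, 6],
  [2, 4],
  [6, 4, 6, 5],
  [5, 3],
  [7, 4, 0, 0],
  [1, 3, 0, 7, 4],
  [1, 1, 3, 1, 4],
  [4, 6, 4, 3, 0, 7],
  [4, 6, 4, 7, 0],
  [0, 0, 5, 0],
  [4, 3, 1, 1, 7, 2],
  [7, 4, 3, 5],
  [1, 1, 3, 5],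
  [3, 5, 2, 5],
  [6, 6, 3, 5, 7, 0],
  [2, 2, 7, 7, 5],
  [2, 0, 5],
  [1, 6, 5, 7, 5],
  [0, 0, 4, 1],
  [7, 3, 4, 4, 3],
  [0, 6, 4, 7, 3],
  [6, 3, 1, 1, 7],
  [3, 3, 0, 2, 2],
  [6, 0, 0, 2, 7],
  [7, 3, 6],
  [2, 4, 7, 2, 6],
  [4, 3, 4, 2],
  [7, 5, 2],
  [7, 3, 6, 2, 4],
  [4, 3, 7, 7, 5],
  [4, 2, 5, 6],
  [4, 2, 4, 3],
  [7, 7, 1, 3, 6, 4],
  [7, 1, 4, 4, 0],
  [1, 5, 7, 4, 6],
  [1, 1, 5, 6],
  [7, 0, 4, 7, 4, 1],
  [7, 2, 6],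
  [3, 6, 4, 0],
  [6, 1, 6, 1],
  [3, 0, 0, 4, 0],
  [4, 0, 5, 0, 2],
  [1, 6, 1, 1, 7, 5],
  [0, 5, 2, 7, 4],
  [0, 6, 4, 7, 4],
  [4, 3, 3, 4],
  [5, 3, 7, 2, 6],
  [6, 5, 0, 7, 1, 7],
  [2, 2, 4, 2],
  [5, 2, 7, 7, 5],
  [5, 0, 5],
  [2, 6, 3, 4, 1],
  [0, 3, 0, 0, 4],
  [0, 2, 2, 0, 2],
  [3, 0, 0, 7, 2],
  [0, 3, 0, 0, 3],
  [1, 5, 7, 2],
  [1, 4, 6, 2, 1],
  [3, 5, 5, 5],
  [7, 3, 5, 2],
  [6, 3, 3, 6, 5],
  [5, 6, 3, 1, 1],
  [4, 3, 5, 5],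
  [4, 1, 3],
  [6, 4, 2, 2, 7]]

theorem lb1 : lbCheck tab 8 [1] 2 W1 = true := by decide +kernel

def W2 : List (List ℕ) := [
  [],
  [2, 4, 4, 6, 6, 4, 2],
  [2, 6, 0, 7, 0, 6],
  [2, 7, 3, 7, 1, 6],
  [6, 6, 1, 3, 6, 2],
  [2, 0, 0, 2, 0, 3],
  [2, 0, 0, 6, 6, 1, 2],
  [3, 7, 3, 1, 7, 0],
  [2, 0, 2, 0, 0],
  [2, 6, 0, 6, 0, 3],
  [1, 6, 0, 2, 6, 2],
  [1, 6, 1, 2, 0, 7],
  [4, 1, 3, 4, 3, 3, 3],
  [4, 4, 6, 4, 2, 7, 2],
  [5, 5, 3, 1, 3],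
  [4, 7, 3, 5, 5, 6, 5],
  [5, 2, 5, 7, 5, 7],
  [7, 1, 7, 4, 0, 6, 0],
  [7, 1, 4, 2, 5, 5, 1],
  [4, 1, 7, 4, 6, 5, 2, 1],
  [5, 0, 6, 6, 4, 2],
  [7, 4, 3, 3, 3, 0, 5],
  [2, 7, 3, 6, 4, 2, 2],
  [1, 1, 4, 4],
  [3, 5, 2, 4, 2, 5],
  [7, 5, 5, 3, 4],
  [6, 5, 1, 6, 5, 2, 5],
  [5, 2, 4, 4, 6],
  [6, 4, 6, 4, 3, 4],
  [6, 1, 5, 1, 4, 3, 7],
  [2, 0, 2, 4, 4],
  [7, 5, 2, 4, 1, 3],
  [7, 0, 0, 5, 0, 3, 4],
  [7, 4, 3, 6, 6, 2, 5],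
  [2, 0, 5, 3, 4, 6],
  [1, 5, 7, 4, 3, 3, 6]]

theorem lb2 : lbCheck tab 8 [2, 1] 4 W2 = true := by decide +kernel

def W3 : List (List ℕ) := [
  [],
  [4, 4, 2, 6, 4, 6, 0, 5, 6],
  [1, 6, 1, 7, 3, 6, 6],
  [2, 5, 5, 6, 6, 5, 5, 3, 7],
  [7, 5, 5, 0, 3, 7, 0, 4],
  [7, 2, 6, 6, 2, 6, 6, 6],
  [7, 2, 6, 3, 3, 4, 3, 0, 0],
  [5, 5, 0, 0, 2, 4, 4, 1, 4]]

theorem lb3 : lbCheck tab 8 [4, 2, 1] 8 W3 = true := by decide +kernel

def W4 : List (List ℕ) := [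
  [],
  [1, 5, 5, 0, 2, 4, 0, 0],
  [3, 5, 7, 7, 5, 3, 3, 5, 0, 3, 5, 6],
  [2, 1, 7, 1, 7, 4, 3, 6, 4, 1, 3, 5],
  [5, 2, 4, 4, 6, 3, 5, 7, 7, 1, 4],
  [5, 0, 5, 5, 3, 1, 1, 4, 2, 4, 4, 4, 0, 5, 0, 0, 3, 4],
  [5, 0, 5, 5, 3, 4, 3, 4, 7, 0, 4, 7],
  [5, 1, 6, 2, 1, 4, 4, 6, 1, 1, 3, 5, 6, 4, 2, 5, 5, 7]]

theorem lb4 : lbCheck tab 8 [8, 4, 2, 1] 16 W4 = true := by decide +kernel

def W5 : List (List ℕ) := [
  [],
  [1, 1, 5, 3, 1, 4, 4, 0, 7, 7, 2, 6, 0, 7, 0, 7, 7, 2, 6, 0, 7, 0],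
  [5, 1, 6, 2, 1, 4, 4, 6, 6, 3, 1, 2, 6, 2, 2, 1],
  [5, 0, 6, 6, 4, 2, 7, 5, 5, 3, 1, 6, 2, 1, 5, 0, 0, 5, 0, 5, 6]]

theorem lb5 : lbCheck tab 8 [16, 8, 4, 2, 1] 32 W5 = true := by decide +kernel

def W6 : List (List ℕ) := [
  [],
  [0, 3, 3, 7, 3, 0, 2, 7, 7, 5, 5, 0, 3, 7, 0, 4, 1, 1, 5, 3, 1, 4, 4, 0, 5, 5, 0, 0, 2, 0, 5, 1, 4, 1, 1]]

theorem lb6 : lbCheck tab 8 [32, 16, 8, 4, 2, 1] 64 W6 = true := by decide +kernel


theorem card_H : 174182400 ≤ Nat.card (D.H D.m) := by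
  have h0 := fixH_level D [] 1 (by decide) (by simp) W0 lb0
  have h1 := fixH_level D [1] 2 (by decide) (by decide) W1 lb1
  have h2 := fixH_level D [2, 1] 4 (by decide) (by decide) W2 lb2
  have h3 := fixH_level D [4, 2, 1] 8 (by decide) (by decide) W3 lb3
  have h4 := fixH_level D [8, 4, 2, 1] 16 (by decide) (by decide) W4 lb4
  have h5 := fixH_level D [16, 8, 4, 2, 1] 32 (by decide) (by decide) W5 lb5
  have h6 := fixH_level D [32, 16, 8, 4, 2, 1] 64 (by decide) (by decide) W6 lb6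
  have h7 : 1 ≤ Nat.card (fixH D [64, 32, 16, 8, 4, 2, 1]) := Nat.card_pos
  rw [fixH_nil] at h0
  have e0 : W0.length = 135 := by decide
  have e1 : W1.length = 70 := by decide
  have e2 : W2.length = 36 := by decide
  have e3 : W3.length = 8 := by decide
  have e4 : W4.length = 8 := by decide
  have e5 : W5.length = 4 := by decide
  have e6 : W6.length = 2 := by decide
  rw [e0] at h0; rw [e1] at h1; rw [e2] at h2; rw [e3] at h3; rw [e4] at h4; rw [e5] at h5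
  rw [e6] at h6
  have c6 := le_trans (Nat.mul_le_mul_left 2 h7) h6
  have c5 := le_trans (Nat.mul_le_mul_left 4 c6) h5
  have c4 := le_trans (Nat.mul_le_mul_left 8 c5) h4
  have c3 := le_trans (Nat.mul_le_mul_left 8 c4) h3
  have c2 := le_trans (Nat.mul_le_mul_left 36 c3) h2
  have c1 := le_trans (Nat.mul_le_mul_left 70 c2) h1
  have c0 := le_trans (Nat.mul_le_mul_left 135 c1) h0
  exact le_trans (by norm_num) c0

theorem H_le : D.H D.m ≤ Subgroup.closure {y | ∃ i < 4, y = g i} := by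
  show Subgroup.closure (D.S 8) ≤ _
  rw [Subgroup.closure_le]
  rintro x ⟨l, hl, rfl⟩
  show lv g l ∈ _
  unfold lv
  split_ifs
  · exact Subgroup.subset_closure ⟨l / 2, by omega, rfl⟩
  · exact Subgroup.inv_mem _ (Subgroup.subset_closure ⟨l / 2, by omega, rfl⟩)

/-! ### orders -/

def ord (i : ℕ) : ℕ := ([7, 7, 7, 7]).getD i 1

def powRels : List Word := [powWord 7 0, powWord 7 1, powWord 7 2, powWord 7 3]

theorem powRels_ok : relsOK powRels = true := by decide +kernel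

theorem g_pow (i : ℕ) : g i ^ ord i = 1 := by
  by_cases h : i < 4
  · have hv := relsOK_valid powRels powRels_ok
    interval_cases i
    · have := hv (powWord 7 0) (by simp [powRels])
      rwa [ev_powWord] at this
    · have := hv (powWord 7 1) (by simp [powRels])
      rwa [ev_powWord] at this
    · have := hv (powWord 7 2) (by simp [powRels])
      rwa [ev_powWord] at this
    · have := hv (powWord 7 3) (by simp [powRels])
      rwa [ev_powWord] at this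
  · rw [g, dif_neg h, one_pow]

theorem ord_coprime (E : ℕ) (hE : E.Coprime 7) (i : ℕ) : (ord i).Coprime E := by
  unfold ord
  by_cases h : i < 4
  · interval_cases i <;> exact hE.symm
  · rw [List.getD_eq_default _ _ (by simp; omega)]
    exact Nat.coprime_one_left E

theorem orderOf_g (i : ℕ) (hi : i < 4) : orderOf (g i) = 7 := by
  have : Fact (Nat.Prime 7) := ⟨by norm_num⟩
  have hp := g_pow i
  have e : ord i = 7 := by interval_cases i <;> rfl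
  rw [e] at hp
  apply orderOf_eq_prime hp
  have h := ev_ne_one [2 * i] (by intro c hc; rw [List.mem_singleton] at hc; omega) ([1, 1, 1, 1].getD i 0)
    (by interval_cases i <;> decide)
    (by interval_cases i <;> decide +kernel)
  rwa [ev_cons, ev_nil, mul_one, lv_two_mul] at h

end Cfsg.Agent.Lib.Helper89.Mult.O8G
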