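import Cfsg.Agent.Lib.Helper89.Mult.O8Mod
import Cfsg.Agent.Lib.Helper89.Mult.O3Rels

/-! # Relators hold in the model (slice checks) -/

set_option autoImplicit false
set_option maxRecDepth 100000
set_option maxHeartbeats 0
set_option Elab.async false

namespace Cfsg.Agent.Lib.Helper89.Mult.O8Mod

open Cfsg.Agent.Lib.Helper89.CosetCert Cfsg.Agent.Lib.Helper89.SafePres Cfsg.Agent.Lib.Helper89.PermTab

theorem vO3_0_1 : T.relsOK (((O3.srels0.drop (24 * 1)).take 24).map SRel.word) = true := by
  decide +kernel

theorem vO3_0_2 : T.relsOK (((O3.srels0.drop (24 * 2)).take 24).map SRel.word) = true := by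
  decide +kernel

end Cfsg.Agent.Lib.Helper89.Mult.O8Mod
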