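import Cfsg.Agent.Lib.Helper89.Mult.O8MV_0
import Cfsg.Agent.Lib.Helper89.Mult.O8MV_1
import Cfsg.Agent.Lib.Helper89.Mult.O8MV_2
import Cfsg.Agent.Lib.Helper89.Mult.O8MV_3
import Cfsg.Agent.Lib.Helper89.StemModel

/-! # Relators hold in the model -/

set_option autoImplicit false
set_option maxRecDepth 100000
set_option maxHeartbeats 0
set_option Elab.async false

namespace Cfsg.Agent.Lib.Helper89.Mult.O8Mod

open Cfsg.Agent.Lib.Helper89.CosetCert Cfsg.Agent.Lib.Helper89.SafePres Cfsg.Agent.Lib.Helper89.PermTab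
open Cfsg.Agent.Lib.Helper89.StemModel

theorem hvalidO1 : ∀ r ∈ O1.srels, ev T.gm r.word = 1 := by
  intro r hr
  have h := O1.mem_srels hr
  obtain ⟨i, hi, hri⟩ := mem_slices O1.srels0 24 1 (by norm_num) (by decide) r h
  interval_cases i
  · exact T.relsOK_valid _ vO1_0_0 _ (List.mem_map_of_mem hri)

theorem hvalidO2 : ∀ r ∈ O2.srels, ev T.gm r.word = 1 := by
  intro r hr
  have h := O2.mem_srels hr
  obtain ⟨i, hi, hri⟩ := mem_slices O2.srels0 24 2 (by norm_num) (by decide) r h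
  interval_cases i
  · exact T.relsOK_valid _ vO2_0_0 _ (List.mem_map_of_mem hri)
  · exact T.relsOK_valid _ vO2_0_1 _ (List.mem_map_of_mem hri)

theorem hvalidO3 : ∀ r ∈ O3.srels, ev T.gm r.word = 1 := by
  intro r hr
  have h := O3.mem_srels hr
  obtain ⟨i, hi, hri⟩ := mem_slices O3.srels0 24 4 (by norm_num) (by decide) r h
  interval_cases i
  · exact T.relsOK_valid _ vO3_0_0 _ (List.mem_map_of_mem hri)
  · exact T.relsOK_valid _ vO3_0_1 _ (List.mem_map_of_mem hri)
  · exact T.relsOK_valid _ vO3_0_2 _ (List.mem_map_of_mem hri)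
  · exact T.relsOK_valid _ vO3_0_3 _ (List.mem_map_of_mem hri)

end Cfsg.Agent.Lib.Helper89.Mult.O8Mod
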