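import Cfsg.Agent.Lib.Helper89.Mult.O8Valid
import Cfsg.Agent.Lib.Helper89.Mult.O8MV_All
import Cfsg.Agent.Lib.Helper89.Mult.O8Card
import Cfsg.Agent.Lib.Helper89.Mult.O0Cert
import Cfsg.Agent.Lib.Helper89.Mult.O1Cert
import Cfsg.Agent.Lib.Helper89.Mult.O2Cert
import Cfsg.Agent.Lib.Helper89.Mult.O3Cert
import Cfsg.Agent.Lib.Helper89.StemModel
import Cfsg.Agent.Lib.Helper89.StemCrit

/-! # The Schur multiplier of `Ω⁺(8, 2)` is `Z/2 × Z/2` -/

set_option autoImplicit false
set_option maxRecDepth 100000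

namespace Cfsg.Agent.Lib.Helper89.Mult.O8Main

open Cfsg Cfsg.Agent.Lib.Helper89.CosetCert Cfsg.Agent.Lib.Helper89.SafePres
open Cfsg.Agent.Lib.Helper89.StemSafe Cfsg.Agent.Lib.Helper89.SafePres2
open Cfsg.Agent.Lib.Helper89.StemModel Cfsg.Agent.Lib.Helper89.PermTab
open Cfsg.Agent.Lib.Helper89.Mult.O8G
open scoped commutatorElement

/-- all conjugation relators -/
def srelsAll : List SRel := O1.srels ++ O2.srels ++ O3.srels

theorem hvalid : ∀ r ∈ srelsAll, ev g r.word = 1 := by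
  intro r hr
  unfold srelsAll at hr
  rw [List.mem_append, List.mem_append] at hr
  rcases hr with (hr | hr) | hr
  · exact hvalidO1 r hr
  · exact hvalidO2 r hr
  · exact hvalidO3 r hr

theorem hvalidM : ∀ r ∈ srelsAll, ev O8Mod.T.gm r.word = 1 := by
  intro r hr
  unfold srelsAll at hr
  rw [List.mem_append, List.mem_append] at hr
  rcases hr with (hr | hr) | hr
  · exact O8Mod.hvalidO1 r hr
  · exact O8Mod.hvalidO2 r hr
  · exact O8Mod.hvalidO3 r hr

theorem pw0 : ∀ q ∈ O0.pw, q.1 = ord q.2 ∧ q.2 < 4 := by decide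
theorem pw1 : ∀ q ∈ O1.pw, q.1 = ord q.2 ∧ q.2 < 4 := by decide
theorem pw2 : ∀ q ∈ O2.pw, q.1 = ord q.2 ∧ q.2 < 4 := by decide
theorem pw3 : ∀ q ∈ O3.pw, q.1 = ord q.2 ∧ q.2 < 4 := by decide

theorem closure_empty {L : Type*} [Group L] (t : ℕ → L) :
    Nat.card (Subgroup.closure {y | ∃ i < 0, y = t i}) ≤ 1 := by
  have : {y | ∃ i < 0, y = t i} = (∅ : Set L) := by
    ext y
    simp
  rw [this, Subgroup.closure_empty, Subgroup.card_bot]

/-- the chain of coset enumerations bounds the order of any group satisfying the relators -/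
theorem hbound (L : Type) [Group L] [Finite L] (t : ℕ → L) (ht : ∀ i, t i ^ ord i = 1)
    (hs : ∀ r ∈ srelsAll, ev t r.word = 1) :
    Nat.card (Subgroup.closure {y | ∃ i < 4, y = t i}) ≤ 4 * 174182400 := by
  have hs1 : ∀ r ∈ O1.srels, ev t r.word = 1 := fun r hr =>
    hs r (List.mem_append_left _ (List.mem_append_left _ hr))
  have hs2 : ∀ r ∈ O2.srels, ev t r.word = 1 := fun r hr =>
    hs r (List.mem_append_left _ (List.mem_append_right _ hr))
  have hs3 : ∀ r ∈ O3.srels, ev t r.word = 1 := fun r hr => hs r (List.mem_append_right _ hr)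
  have hr0 : ∀ r ∈ O0.cert.rels, ev t r = 1 := by
    show ∀ r ∈ O0.rels, ev t r = 1
    rw [O0.rels_eq]
    exact rels_valid t _ _ (fun q hq => by rw [(pw0 q hq).1]; exact ht _)
      (fun _ hr => (O0.mem_srels hr).elim)
  have hr1 : ∀ r ∈ O1.cert.rels, ev t r = 1 := by
    show ∀ r ∈ O1.rels, ev t r = 1
    rw [O1.rels_eq]
    exact rels_valid t _ _ (fun q hq => by rw [(pw1 q hq).1]; exact ht _) hs1
  have hr2 : ∀ r ∈ O2.cert.rels, ev t r = 1 := by
    show ∀ r ∈ O2.rels, ev t r = 1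
    rw [O2.rels_eq]
    exact rels_valid t _ _ (fun q hq => by rw [(pw2 q hq).1]; exact ht _) hs2
  have hr3 : ∀ r ∈ O3.cert.rels, ev t r = 1 := by
    show ∀ r ∈ O3.rels, ev t r = 1
    rw [O3.rels_eq]
    exact rels_valid t _ _ (fun q hq => by rw [(pw3 q hq).1]; exact ht _) hs3
  have c0 := cert_step t O0.cert O0.cert_ok hr0 1 (closure_empty t)
  have c1 := cert_step t O1.cert O1.cert_ok hr1 _ c0
  have c2 := cert_step t O2.cert O2.cert_ok hr2 _ c1
  have c3 := cert_step t O3.cert O3.cert_ok hr3 _ c2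
  exact c3

/-! ### the model `2².Ω⁺(8, 2)` -/

/-- the ambient group of the model -/
abbrev LL : Type := Equiv.Perm (Fin O8Mod.T.N) × G0

/-- the generators of the cover -/
def mm (i : ℕ) : LL := (O8Mod.T.gm i, g i)

theorem ev_mm (w : Word) : ev mm w = (ev O8Mod.T.gm w, ev g w) := ev_prod _ _ w

theorem ord_eq (i : ℕ) : ord i = ([7, 7, 7, 7]).getD i 1 := rfl

theorem mm_pow (i : ℕ) : mm i ^ ord i = 1 := by
  apply Prod.ext
  · rw [Prod.pow_fst]
    exact O8Mod.gm_pow i
  · rw [Prod.pow_snd]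
    exact g_pow i

theorem mm_rel : ∀ r ∈ srelsAll, ev mm r.word = 1 := by
  intro r hr
  rw [ev_mm, hvalid r hr, hvalidM r hr]
  rfl

theorem g_eq_one (i : ℕ) (hi : ¬ i < 4) : g i = 1 := by
  rw [g, dif_neg hi]

theorem mm_eq_one (i : ℕ) (hi : ¬ i < 4) : mm i = 1 := by
  unfold mm
  rw [O8Mod.T.gm_one i hi, g_eq_one i hi]
  rfl

/-- the cover -/
abbrev Gam : Subgroup LL := cov 4 mm

theorem mm_mem (i : ℕ) : mm i ∈ Gam := by
  by_cases hi : i < 4
  · exact Subgroup.subset_closure ⟨i, hi, rfl⟩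
  · rw [mm_eq_one i hi]
    exact Gam.one_mem

/-- the generators as elements of the cover -/
def tau' (i : ℕ) : Gam := ⟨mm i, mm_mem i⟩

theorem ev_tau' (w : Word) : ((ev tau' w : Gam) : LL) = (ev O8Mod.T.gm w, ev g w) := by
  have h1 := ev_map_hom Gam.subtype tau' w
  have h2 : (fun i => Gam.subtype (tau' i)) = mm := rfl
  rw [h2, ev_mm] at h1
  exact h1

theorem ev_tau'_eq_one (w : Word) (h1 : ev O8Mod.T.gm w = 1) (h2 : ev g w = 1) :
    ev tau' w = 1 := by
  apply Subtype.ext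
  rw [ev_tau', h1, h2]
  rfl

/-- the projection of the model onto `Ω⁺(8, 2)` -/
abbrev τ : LL →* G0 := MonoidHom.snd (Equiv.Perm (Fin O8Mod.T.N)) G0

/-- the projection of the cover onto `Ω⁺(8, 2)` -/
abbrev sig : Gam →* G0 := covHom τ 4 mm

theorem sig_tau' (i : ℕ) : sig (tau' i) = g i := rfl

theorem tau'_pow (i : ℕ) : tau' i ^ ord i = 1 := by
  apply Subtype.ext
  show mm i ^ ord i = 1
  exact mm_pow i

theorem tau'_rel : ∀ r ∈ srelsAll, ev tau' r.word = 1 := fun r hr =>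
  ev_tau'_eq_one _ (hvalidM r hr) (hvalid r hr)

theorem tau'_gen : Subgroup.closure {y | ∃ i < 4, y = tau' i} = ⊤ := by
  have h := Subgroup.closure_closure_coe_preimage (k := {y | ∃ i < 4, y = mm i})
  have e : {y : Gam | ∃ i < 4, y = tau' i} =
      ((↑) ⁻¹' {y | ∃ i < 4, y = mm i} : Set Gam) := by
    ext y
    constructor
    · rintro ⟨i, hi, rfl⟩
      exact ⟨i, hi, rfl⟩
    · rintro ⟨i, hi, h⟩
      exact ⟨i, hi, Subtype.ext h⟩
  rw [e]
  exact h

theorem tau'_perf : ∀ i < 4, tau' i ∈ commutator Gam := by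
  intro i hi
  have hrel : perfWord (O8Mod.perfW i) i (O8Mod.perfN i) = O8Mod.perfRel i := rfl
  have h1 : ev O8Mod.T.gm (O8Mod.perfRel i) = 1 :=
    O8Mod.T.relsOK_valid _ O8Mod.perfRels_ok _ (by interval_cases i <;> simp)
  have h2 : ev g (O8Mod.perfRel i) = 1 :=
    relsOK_valid _ perf_ok _ (by interval_cases i <;> simp)
  have h := eq_of_perfWord tau' (O8Mod.perfW i) i (O8Mod.perfN i)
    (by rw [hrel]; exact ev_tau'_eq_one _ h1 h2)
  rw [h]
  apply Subgroup.pow_mem
  rw [commutator_def]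
  exact Subgroup.commutator_mem_commutator (Subgroup.mem_top _) (Subgroup.mem_top _)

/-! ### the kernel of the cover -/

/-- the central involutions -/
def zz1 : Gam := ev tau' O8Mod.wz1
def zz2 : Gam := ev tau' O8Mod.wz2

theorem zz1_coe : ((zz1 : Gam) : LL) = (ev O8Mod.T.gm O8Mod.wz1, 1) := by
  show ((ev tau' O8Mod.wz1 : Gam) : LL) = _
  rw [ev_tau', ev_wz1]

theorem zz2_coe : ((zz2 : Gam) : LL) = (ev O8Mod.T.gm O8Mod.wz2, 1) := by
  show ((ev tau' O8Mod.wz2 : Gam) : LL) = _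
  rw [ev_tau', ev_wz2]

theorem sqRels_ok : O8Mod.T.relsOK [O8Mod.wz1 ++ O8Mod.wz1, O8Mod.wz2 ++ O8Mod.wz2] = true := by
  decide +kernel

theorem wz1_sq : ev O8Mod.T.gm O8Mod.wz1 * ev O8Mod.T.gm O8Mod.wz1 = 1 := by
  rw [← ev_append]
  exact O8Mod.T.relsOK_valid _ sqRels_ok _ (by simp)

theorem wz2_sq : ev O8Mod.T.gm O8Mod.wz2 * ev O8Mod.T.gm O8Mod.wz2 = 1 := by
  rw [← ev_append]
  exact O8Mod.T.relsOK_valid _ sqRels_ok _ (by simp)

theorem zz1_sq : zz1 * zz1 = 1 := by
  apply Subtype.ext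
  rw [Subgroup.coe_mul, zz1_coe, Prod.mk_mul_mk, wz1_sq, mul_one]
  rfl

theorem zz2_sq : zz2 * zz2 = 1 := by
  apply Subtype.ext
  rw [Subgroup.coe_mul, zz2_coe, Prod.mk_mul_mk, wz2_sq, mul_one]
  rfl

theorem zz1_ne : zz1 ≠ 1 := by
  intro h
  have h2 := congrArg (fun y : Gam => (y : LL).1) h
  simp only [zz1_coe] at h2
  exact O8Mod.wz1_ne h2

theorem zz2_ne : zz2 ≠ 1 := by
  intro h
  have h2 := congrArg (fun y : Gam => (y : LL).1) h
  simp only [zz2_coe] at h2
  exact O8Mod.wz2_ne h2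

theorem zz12_ne : zz1 ≠ zz2 := by
  intro h
  have h2 := congrArg (fun y : Gam => (y : LL).1) h
  simp only [zz1_coe, zz2_coe] at h2
  apply O8Mod.wz12_ne
  rw [ev_append, ev_winv, h2, mul_inv_cancel]

theorem zz1_ker : sig zz1 = 1 := by
  show ((zz1 : Gam) : LL).2 = 1
  rw [zz1_coe]

theorem zz2_ker : sig zz2 = 1 := by
  show ((zz2 : Gam) : LL).2 = 1
  rw [zz2_coe]

theorem zz1_cen : ∀ i < 4, tau' i * zz1 = zz1 * tau' i := by
  intro i hi
  apply Subtype.ext
  rw [Subgroup.coe_mul, Subgroup.coe_mul, zz1_coe]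
  show (O8Mod.T.gm i, g i) * (ev O8Mod.T.gm O8Mod.wz1, 1) =
    (ev O8Mod.T.gm O8Mod.wz1, 1) * (O8Mod.T.gm i, g i)
  rw [Prod.mk_mul_mk, Prod.mk_mul_mk, O8Mod.wz1_comm i hi, mul_one, one_mul]

theorem zz2_cen : ∀ i < 4, tau' i * zz2 = zz2 * tau' i := by
  intro i hi
  apply Subtype.ext
  rw [Subgroup.coe_mul, Subgroup.coe_mul, zz2_coe]
  show (O8Mod.T.gm i, g i) * (ev O8Mod.T.gm O8Mod.wz2, 1) =
    (ev O8Mod.T.gm O8Mod.wz2, 1) * (O8Mod.T.gm i, g i)
  rw [Prod.mk_mul_mk, Prod.mk_mul_mk, O8Mod.wz2_comm i hi, mul_one, one_mul]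

/-- an element commuting with the generators is central -/
theorem mem_center_of_comm (z : Gam) (hz : ∀ i < 4, tau' i * z = z * tau' i) :
    z ∈ Subgroup.center Gam := by
  rw [Subgroup.mem_center_iff]
  intro x
  have hx : x ∈ Subgroup.closure {y | ∃ i < 4, y = tau' i} := by rw [tau'_gen]; trivial
  induction hx using Subgroup.closure_induction with
  | mem y hy =>
    obtain ⟨i, hi, rfl⟩ := hy
    exact hz i hi
  | one => rw [one_mul, mul_one]
  | mul a b _ _ ha hb => rw [mul_assoc, hb, ← mul_assoc, ha, mul_assoc]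
  | inv a _ ha =>
    have := congrArg (fun w => a⁻¹ * w * a⁻¹) ha
    simpa [mul_assoc] using this.symm

theorem sig_surjective : Function.Surjective sig := by
  have hmap : (⊤ : Subgroup Gam).map sig = ⊤ := by
    rw [← tau'_gen, map_closure_eq sig 4 tau' g sig_tau', closure_g]
  intro y
  have : y ∈ (⊤ : Subgroup Gam).map sig := by rw [hmap]; trivial
  obtain ⟨x, -, rfl⟩ := this
  exact ⟨x, rfl⟩

theorem card_Gam_le : Nat.card Gam ≤ 4 * 174182400 := by
  have h := hbound Gam tau' tau'_pow tau'_rel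
  rwa [tau'_gen, Subgroup.card_top] at h

theorem card_ker_le : Nat.card sig.ker ≤ 4 := by
  have h1 := Subgroup.card_mul_index sig.ker
  rw [Subgroup.index_ker, MonoidHom.range_eq_top.mpr sig_surjective, Subgroup.card_top,
    card_G0] at h1
  have h2 := card_Gam_le
  rw [← h1] at h2
  exact Nat.le_of_mul_le_mul_right h2 (by norm_num)

/-- the four elements of the kernel -/
theorem ker_cases (x : Gam) (hx : x ∈ sig.ker) :
    x = 1 ∨ x = zz1 ∨ x = zz2 ∨ x = zz1 * zz2 := by
  classical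
  by_contra hcon
  push Not at hcon
  obtain ⟨h1, h2, h3, h4⟩ := hcon
  have hz2inv : (zz2)⁻¹ = zz2 := inv_eq_of_mul_eq_one_right zz2_sq
  let S : Finset Gam := {x, 1, zz1, zz2, zz1 * zz2}
  have hS : S.card = 5 := by
    have e1 : zz1 * zz2 ≠ zz2 := fun h => zz1_ne (mul_eq_right.mp h)
    have e2 : zz1 * zz2 ≠ zz1 := fun h => zz2_ne (mul_eq_left.mp h)
    have e3 : zz1 * zz2 ≠ 1 := fun h => zz12_ne (by
      rw [← hz2inv]; exact eq_inv_of_mul_eq_one_left h)
    have e4 : (1 : Gam) ≠ zz1 := fun h => zz1_ne h.symm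
    have e5 : (1 : Gam) ≠ zz2 := fun h => zz2_ne h.symm
    rw [Finset.card_insert_of_notMem, Finset.card_insert_of_notMem, Finset.card_insert_of_notMem,
      Finset.card_insert_of_notMem, Finset.card_singleton]
    · simp only [Finset.mem_singleton]; exact e1.symm
    · simp only [Finset.mem_insert, Finset.mem_singleton, not_or]
      exact ⟨zz12_ne, e2.symm⟩
    · simp only [Finset.mem_insert, Finset.mem_singleton, not_or]
      exact ⟨e4, e5, e3.symm⟩
    · simp only [Finset.mem_insert, Finset.mem_singleton, not_or]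
      exact ⟨h1, h2, h3, h4⟩
  have hsub : (S : Set Gam) ⊆ (sig.ker : Set Gam) := by
    intro y hy
    have hy' : y ∈ S := hy
    simp only [S, Finset.mem_insert, Finset.mem_singleton] at hy'
    rcases hy' with rfl | rfl | rfl | rfl | rfl
    · exact hx
    · exact sig.ker.one_mem
    · exact zz1_ker
    · exact zz2_ker
    · exact sig.ker.mul_mem zz1_ker zz2_ker
  have h5 : 5 ≤ Nat.card sig.ker := by
    have := Set.ncard_le_ncard hsub (Set.toFinite _)
    rw [Set.ncard_coe_finset, hS] at this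
    rwa [← Nat.card_coe_set_eq] at this
  have := card_ker_le
  omega

theorem card_ker_ge : 4 ≤ Nat.card sig.ker := by
  classical
  have hz2inv : (zz2)⁻¹ = zz2 := inv_eq_of_mul_eq_one_right zz2_sq
  let S : Finset Gam := {1, zz1, zz2, zz1 * zz2}
  have hS : S.card = 4 := by
    have e1 : zz1 * zz2 ≠ zz2 := fun h => zz1_ne (mul_eq_right.mp h)
    have e2 : zz1 * zz2 ≠ zz1 := fun h => zz2_ne (mul_eq_left.mp h)
    have e3 : zz1 * zz2 ≠ 1 := fun h => zz12_ne (by
      rw [← hz2inv]; exact eq_inv_of_mul_eq_one_left h)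
    have e4 : (1 : Gam) ≠ zz1 := fun h => zz1_ne h.symm
    have e5 : (1 : Gam) ≠ zz2 := fun h => zz2_ne h.symm
    rw [Finset.card_insert_of_notMem, Finset.card_insert_of_notMem,
      Finset.card_insert_of_notMem, Finset.card_singleton]
    · simp only [Finset.mem_singleton]; exact e1.symm
    · simp only [Finset.mem_insert, Finset.mem_singleton, not_or]
      exact ⟨zz12_ne, e2.symm⟩
    · simp only [Finset.mem_insert, Finset.mem_singleton, not_or]
      exact ⟨e4, e5, e3.symm⟩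
  have hsub : (S : Set Gam) ⊆ (sig.ker : Set Gam) := by
    intro y hy
    have hy' : y ∈ S := hy
    simp only [S, Finset.mem_insert, Finset.mem_singleton] at hy'
    rcases hy' with rfl | rfl | rfl | rfl
    · exact sig.ker.one_mem
    · exact zz1_ker
    · exact zz2_ker
    · exact sig.ker.mul_mem zz1_ker zz2_ker
  have := Set.ncard_le_ncard hsub (Set.toFinite _)
  rw [Set.ncard_coe_finset, hS] at this
  rwa [← Nat.card_coe_set_eq] at this

theorem ker_le_center : sig.ker ≤ Subgroup.center Gam := by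
  intro x hx
  have c1 := mem_center_of_comm zz1 zz1_cen
  have c2 := mem_center_of_comm zz2 zz2_cen
  rcases ker_cases x hx with rfl | rfl | rfl | rfl
  · exact (Subgroup.center _).one_mem
  · exact c1
  · exact c2
  · exact (Subgroup.center _).mul_mem c1 c2

theorem ker_sq (x : sig.ker) : x * x = 1 := by
  have c1 := mem_center_of_comm zz1 zz1_cen
  have hcomm : zz2 * zz1 = zz1 * zz2 := (Subgroup.mem_center_iff.mp c1 zz2)
  apply Subtype.ext
  show (x : Gam) * (x : Gam) = 1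
  rcases ker_cases x.1 x.2 with h | h | h | h <;> rw [h]
  · exact one_mul 1
  · exact zz1_sq
  · exact zz2_sq
  · calc zz1 * zz2 * (zz1 * zz2)
        = zz1 * (zz2 * zz1) * zz2 := by group
      _ = zz1 * (zz1 * zz2) * zz2 := by rw [hcomm]
      _ = (zz1 * zz1) * (zz2 * zz2) := by group
      _ = 1 := by rw [zz1_sq, zz2_sq, one_mul]

instance ker_klein : IsKleinFour sig.ker where
  card_four := le_antisymm card_ker_le card_ker_ge
  exponent_two := by
    have hd : Monoid.exponent sig.ker ∣ 2 :=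
      Monoid.exponent_dvd_of_forall_pow_eq_one (fun x => by rw [pow_two]; exact ker_sq x)
    rcases (Nat.dvd_prime Nat.prime_two).mp hd with h | h
    · exfalso
      have hsub : Subsingleton sig.ker := Monoid.exp_eq_one_iff.mp h
      have : (⟨zz1, zz1_ker⟩ : sig.ker) = 1 := Subsingleton.elim _ _
      exact zz1_ne (congrArg Subtype.val this)
    · exact h

/-! ### the exponent of the kernel of a stem extension -/

theorem hexp (Γ : Type) [Group Γ] [Finite Γ] (σ : Γ →* G0) (hσ : Cfsg.IsStemExtension σ) :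
    ∀ z ∈ σ.ker, z ^ 24883200 = 1 := by
  intro z hz
  have h7 : ¬ 7 ∣ orderOf z :=
    not_dvd_of_cyclic_sylow σ hσ 7 (by norm_num) (g 0) 1 24883200
      (by rw [pow_one]; exact orderOf_g 0 (by norm_num))
      (by rw [card_G0]; norm_num) (by norm_num) hz
  have hc := pow_card_eq_one σ hσ hz
  rw [card_G0] at hc
  have hd := orderOf_dvd_of_pow_eq_one hc
  have hcop : (orderOf z).Coprime 7 :=
    (Nat.Coprime.symm ((Nat.Prime.coprime_iff_not_dvd (by norm_num)).2 h7))
  have e : (174182400 : ℕ) = 24883200 * 7 := by norm_num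
  rw [e] at hd
  exact orderOf_dvd_iff_pow_eq_one.1 ((Nat.Coprime.dvd_mul_right hcop).1 hd)

/-- **The Schur multiplier of `Ω⁺(8, 2)` is `Z/2 × Z/2`.** -/
theorem multiplier_O8 : Cfsg.HasSchurMultiplier G0 (Multiplicative (ZMod 2 × ZMod 2)) := by
  have e : sig.ker ≃* Multiplicative (ZMod 2 × ZMod 2) :=
    (IsKleinFour.nonempty_mulEquiv (G₁ := sig.ker)
      (G₂ := Multiplicative (ZMod 2 × ZMod 2))).some
  refine Cfsg.Agent.Lib.Helper89.StemCrit.hasMult_of_model 24883200 4 (by norm_num) hexp 4 g ord g_pow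
    (ord_coprime 24883200 (by norm_num))
    closure_g srelsAll hvalid ?_ Gam sig tau' sig_tau'
    tau'_pow tau'_rel tau'_gen card_ker_ge e ker_le_center tau'_perf
  intro L _ _ t ht hs
  rw [card_G0]
  exact hbound L t ht hs

end Cfsg.Agent.Lib.Helper89.Mult.O8Main
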