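import Cfsg.Agent.Lib.Helper89.Mult.O8G
import Cfsg.Agent.Lib.Helper89.Mult.O8Mod
import Cfsg.Agent.Lib.Helper89.Mult.O1Rels
import Cfsg.Agent.Lib.Helper89.Mult.O2Rels
import Cfsg.Agent.Lib.Helper89.Mult.O3Rels

/-! # The conjugation relators of the presentation hold in `Ω⁺(8, 2)` -/

set_option autoImplicit false
set_option maxRecDepth 100000
set_option maxHeartbeats 0
set_option Elab.async false

namespace Cfsg.Agent.Lib.Helper89.Mult.O8G

open Cfsg.Agent.Lib.Helper89.CosetCert Cfsg.Agent.Lib.Helper89.SafePres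

theorem validO1_0 : relsOK (O1.srels0.map SRel.word) = true := by decide +kernel

theorem hvalidO1 : ∀ r ∈ O1.srels, ev g r.word = 1 := by
  intro r hr
  have h := O1.mem_srels hr
  exact relsOK_valid _ validO1_0 _ (List.mem_map_of_mem h)

theorem validO2_0 : relsOK (O2.srels0.map SRel.word) = true := by decide +kernel

theorem hvalidO2 : ∀ r ∈ O2.srels, ev g r.word = 1 := by
  intro r hr
  have h := O2.mem_srels hr
  exact relsOK_valid _ validO2_0 _ (List.mem_map_of_mem h)

theorem validO3_0 : relsOK (O3.srels0.map SRel.word) = true := by decide +kernel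

theorem hvalidO3 : ∀ r ∈ O3.srels, ev g r.word = 1 := by
  intro r hr
  have h := O3.mem_srels hr
  exact relsOK_valid _ validO3_0 _ (List.mem_map_of_mem h)

/-- the central words of the model are trivial in `Ω⁺(8, 2)` -/
theorem wz_ok : relsOK [O8Mod.wz1, O8Mod.wz2] = true := by decide +kernel

theorem ev_wz1 : ev g O8Mod.wz1 = 1 := relsOK_valid _ wz_ok _ (by simp)

theorem ev_wz2 : ev g O8Mod.wz2 = 1 := relsOK_valid _ wz_ok _ (by simp)

theorem perf_ok : relsOK [O8Mod.perfRel 0, O8Mod.perfRel 1, O8Mod.perfRel 2, O8Mod.perfRel 3] = true := by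
  decide +kernel

end Cfsg.Agent.Lib.Helper89.Mult.O8G
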