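import Cfsg.Agent.Lib.Helper89.SafePres

set_option autoImplicit false
set_option maxRecDepth 1000000
set_option maxHeartbeats 0
set_option Elab.async false

namespace Cfsg.Agent.Lib.Helper89.Mult.Q0

open Cfsg.Agent.Lib.Helper89.CosetCert Cfsg.Agent.Lib.Helper89.SafePres

def factB : ℕ := 0x501000600040000060003010005000600000500060100040002000004000101000300050000030004010002000000000200000100010003000001000201000000010000000006000005000601000400050000030004010002000300000100020100000001000000

def finB : ℕ := 0x50004000300060006000200010005000400000000000300020001

def pw : List (ℕ × ℕ) := [(7, 0)]

def srels : List SRel := [].flatten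

def rels : List Word := [
  [0, 0, 0, 0, 0, 0, 0]]

def steps0 : List ℕ := [
  289910453217846266957748747897644295485652995,
  252201648390144000,
  288230582848061441,
  324259517305978880,
  360287970727559169,
  396316905185476608,
  432346045801824257,
  468374980259741696,
  504403433681321985,
  540432368139239424,
  576461508755587073,
  612490443213504512,
  648518896635084801,
  684547831093002240,
  720576765550919681]

def steps : List ℕ := [steps0].flatten

def roots : List ℕ := [0, 1, 2, 3, 4, 5, 6]

def cert : Cert := ⟨1, 0, 7, factBig factB, rels, steps, 7, roots, numBig finB⟩

end Cfsg.Agent.Lib.Helper89.Mult.Q0
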