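import Mathlib
import Cfsg.Prelude.Def_KGroupFacts
import Cfsg.Agent.Lib.Helper5.SympCard
import Cfsg.Agent.Lib.Helper89.OrbitLB
import Cfsg.Agent.Lib.Helper89.SafePres

/-!
# Explicit generators `a, b, c` (orders 7, 7, 5) of `Sp(6, 2)`, table-driven
-/

set_option autoImplicit false
set_option maxRecDepth 100000
set_option maxHeartbeats 0

namespace Cfsg.Agent.Lib.Helper89.Mult.Sp6G

open Cfsg Matrix Cfsg.Agent.Lib.Helper89.TableChain2 Cfsg.Agent.Lib.Helper89.OrbitLB
open Cfsg.Agent.Lib.Helper89.CosetCert Cfsg.Agent.Lib.Helper89.SafePres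

/-- the natural module -/
abbrev V : Type := Fin 3 ⊕ Fin 3 → ZMod 2

/-- the group `Sp(6, 2)` -/
abbrev G0 : Type := ↥(Matrix.symplecticGroup (Fin 3) (ZMod 2))

/-- the ambient matrices -/
abbrev Mat : Type := Matrix (Fin 3 ⊕ Fin 3) (Fin 3 ⊕ Fin 3) (ZMod 2)

/-- position of a coordinate -/
def cidx : Fin 3 ⊕ Fin 3 → ℕ
  | .inl i => i.val
  | .inr i => 3 + i.val

/-- the vector with bit pattern `n` -/
def pt (n : ℕ) : V := fun j => if n.testBit (cidx j) then 1 else 0

/-- row masks of the matrices of the six letters -/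
def rowC : List (List ℕ) := [[7, 29, 44, 16, 52, 25], [52, 23, 34, 28, 8, 58], [10, 32, 51, 18, 12, 59], [14, 37, 52, 36, 45, 2], [61, 50, 46, 41, 43, 39], [43, 24, 63, 15, 54, 44]]

/-- the matrices of the six letters -/
def Mx (l : ℕ) : Mat :=
  Matrix.of fun r c => if ((rowC.getD l []).getD (cidx r) 0).testBit (cidx c) then 1 else 0

/-- packed tables of the six letters (6 bits per vector) -/
def tabC : List ℕ := [37852718823625512917978188124929539566286997767289427295123030451852620856625942798007390434888169265436259827325120, 15660751946747105799227631064932350160224412990695142620539584251009539500449079564445869606234436851802721085448320, 20992391010258505019186425807292942361568550487306321058607178161156086980784946585071322734433138876753278247819520, 24521388828622661354307312473432586015380528383258551118571300912626217640712086367767729363844544801310699808494720, 7262381141793145422433526851299312661737687044922551686224560141344554932092793342124101578743524267142032373280320,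 20143168944586655491645743937017630560566167016386190799139370044422736829698005106677931511810538542778008001958720]

def tab (l x : ℕ) : ℕ := Nat.land (Nat.shiftRight (tabC.getD l 0) (6 * x)) 63

theorem Mx_mem : ∀ l < 6, Mx l * Matrix.J (Fin 3) (ZMod 2) * (Mx l)ᵀ = Matrix.J (Fin 3) (ZMod 2) := by
  decide +kernel

theorem Mx_inv : ∀ i < 3, Mx (2 * i) * Mx (2 * i + 1) = 1 := by decide +kernel

theorem Mx_mulVec : ∀ l < 6, ∀ x < 64, Mx l *ᵥ pt x = pt (tab l x) := by decide +kernel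

theorem tab_lt : ∀ l < 6, ∀ x < 64, tab l x < 64 := by decide +kernel

theorem pt_inj : ∀ x < 64, ∀ y < 64, pt x = pt y → x = y := by decide +kernel

theorem pt_basis : ∀ c : Fin 3 ⊕ Fin 3, pt (2 ^ cidx c) = Pi.single c 1 := by decide

/-- the letters as elements of the group -/
def P (l : ℕ) : G0 :=
  if h : l < 6 then ⟨Mx l, SymplecticGroup.mem_iff.2 (Mx_mem l h)⟩ else 1

theorem P_coe (l : ℕ) (h : l < 6) : ((P l : G0) : Mat) = Mx l := by
  rw [P, dif_pos h]

/-- the generators -/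
def g (i : ℕ) : G0 := if i < 3 then P (2 * i) else 1

theorem g_eq (i : ℕ) (h : i < 3) : g i = P (2 * i) := by
  rw [g, if_pos h]

theorem g_inv (i : ℕ) (h : i < 3) : (g i)⁻¹ = P (2 * i + 1) := by
  apply inv_eq_of_mul_eq_one_right
  apply Subtype.ext
  rw [g_eq i h]
  show ((P (2 * i) : G0) : Mat) * ((P (2 * i + 1) : G0) : Mat) = 1
  rw [P_coe _ (by omega), P_coe _ (by omega)]
  exact Mx_inv i h

theorem lv_eq (l : ℕ) (hl : l < 6) : lv g l = P l := by
  unfold lv
  by_cases he : l % 2 = 0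
  · rw [if_pos he, g_eq _ (by omega), show 2 * (l / 2) = l by omega]
  · rw [if_neg he, g_inv _ (by omega), show 2 * (l / 2) + 1 = l by omega]

theorem lv_smul : ∀ l < 6, ∀ x < 64, lv g l • pt x = pt (tab l x) := by
  intro l hl x hx
  rw [lv_eq l hl]
  show ((P l : G0) : Mat) *ᵥ pt x = _
  rw [P_coe l hl]
  exact Mx_mulVec l hl x hx

/-- the table-driven action data on the six letters -/
def D : Data G0 V where
  m := 6
  N := 64
  gen := lv g
  pt := pt
  tab := tab
  chk := [1, 2, 4, 8, 16, 32]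
  gen_smul := lv_smul
  tab_lt := tab_lt
  chk_lt := by decide
  faithful := by
    intro x y h
    apply Subtype.ext
    ext r c
    have hc : 2 ^ cidx c ∈ [1, 2, 4, 8, 16, 32] := by
      rcases c with c | c <;> fin_cases c <;> decide
    have h1 := h _ hc
    rw [pt_basis c] at h1
    have h2 := congrFun h1 r
    show (x : Mat) r c = (y : Mat) r c
    have e1 : (x • (Pi.single c 1 : V)) r = (x : Mat) r c := by
      show ((x : Mat) *ᵥ Pi.single c 1) r = _
      rw [Matrix.mulVec_single_one]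
      rfl
    have e2 : (y • (Pi.single c 1 : V)) r = (y : Mat) r c := by
      show ((y : Mat) *ᵥ Pi.single c 1) r = _
      rw [Matrix.mulVec_single_one]
      rfl
    rw [← e1, ← e2]
    exact h2
  pt_inj := pt_inj

theorem D_ev (w : List ℕ) : D.ev w = ev g w := rfl

/-- `Bool` test that all words of a list act trivially -/
def relsOK (rs : List Word) : Bool :=
  rs.all (fun r => r.all (fun c => decide (c < 6)) &&
    [1, 2, 4, 8, 16, 32].all (fun x => act tab r x == x))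

theorem relsOK_valid (rs : List Word) (h : relsOK rs = true) : ∀ r ∈ rs, ev g r = 1 := by
  intro r hr
  unfold relsOK at h
  rw [List.all_eq_true] at h
  have h1 := h r hr
  rw [Bool.and_eq_true, List.all_eq_true, List.all_eq_true] at h1
  rw [← D_ev, ← D.ev_nil]
  apply D.ev_eq_of_act (fun c hc => of_decide_eq_true (h1.1 c hc)) (fun c hc => by simp at hc)
  intro x hx
  rw [act_nil]
  exact beq_iff_eq.1 (h1.2 x hx)

theorem ev_ne_one (w : List ℕ) (hw : ∀ c ∈ w, c < 6) (x : ℕ) (hx : x < 64)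
    (h : act tab w x ≠ x) : ev g w ≠ 1 := by
  intro h1
  have h2 := D.ev_smul w hw x hx
  rw [D_ev, h1, one_smul] at h2
  exact h (D.pt_inj _ (D.act_lt w hw x hx) _ hx h2.symm)

/-! ### generation -/

def W0 : List (List ℕ) := [
  [],
  [1],
  [0, 2],
  [0, 5, 3],
  [2, 5],
  [0, 2, 1],
  [0, 2, 0],
  [1, 1, 1],
  [5, 2],
  [0, 5, 5],
  [5, 3],
  [1, 1, 5],
  [5],
  [1, 4, 0],
  [4, 0, 2],
  [0, 0, 4],
  [1, 3, 4],
  [3],
  [1, 4, 4],
  [1, 2, 1],
  [2, 5, 2],
  [0, 0, 2, 1],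
  [3, 4, 3],
  [4, 4],
  [3, 4],
  [4, 2],
  [2, 1, 1],
  [3, 5],
  [5, 1],
  [5, 5],
  [2, 4],
  [0, 3, 3],
  [3, 1],
  [0, 0, 2],
  [0],
  [2],
  [3, 3],
  [1, 1],
  [1, 3, 1],
  [0, 5, 1],
  [0, 2, 4],
  [0, 0, 3],
  [0, 4],
  [1, 3, 3],
  [2, 1],
  [1, 2],
  [2, 0],
  [4, 0],
  [1, 5],
  [1, 2, 0],
  [3, 0, 2],
  [1, 4],
  [4, 3],
  [0, 0],
  [0, 3, 1],
  [0, 0, 0],
  [4],
  [1, 5, 2],
  [0, 3],
  [1, 2, 4],
  [0, 0, 3, 4],
  [1, 5, 5],
  [0, 3, 4]]

theorem lb0 : lbCheck tab 6 [] 1 W0 = true := by decide +kernel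

def W1 : List (List ℕ) := [
  [],
  [2, 2, 1, 3, 1, 1],
  [3, 3, 4, 1],
  [3, 4, 1, 2, 5],
  [1, 1, 4, 1],
  [1, 5, 1, 1, 2],
  [3, 0, 4, 0, 3],
  [0, 2, 0, 4, 3, 4],
  [0, 4, 0, 4, 2],
  [5, 0, 2, 2, 5],
  [2, 5, 1, 3, 4, 0],
  [4, 1, 3],
  [4, 2, 1, 5, 3],
  [2, 0, 5],
  [0, 3, 3, 0],
  [5, 5, 1, 3, 5],
  [4, 2, 5, 0, 3],
  [3, 5, 2, 0, 2, 5],
  [3, 5, 2, 1, 4],
  [4, 3, 0, 5, 2],
  [5, 0, 4, 2, 4],
  [4, 2, 0, 4, 4],
  [0, 4, 2, 4, 4],
  [4, 4, 2, 0, 4],
  [2, 4, 0, 3, 5],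
  [2, 5, 1, 4, 2],
  [2, 2, 5, 0],
  [4, 3, 1, 1, 4],
  [1, 4, 3, 3],
  [4, 3, 4, 1, 5]]

theorem lb1 : lbCheck tab 6 [1] 2 W1 = true := by decide +kernel

def W2 : List (List ℕ) := [
  [],
  [2, 1, 2, 0, 2, 2],
  [1, 1, 2, 2],
  [1, 1, 1, 3, 0, 3],
  [1, 2, 2, 5, 2, 2],
  [4, 1, 2, 1, 4, 4, 3],
  [1, 2, 2, 5, 0, 0],
  [0, 5, 2, 0, 0, 4, 0],
  [3, 5, 0, 5, 3, 1, 1],
  [4, 4, 3, 0, 3, 3],
  [2, 2, 1, 2, 5, 5],
  [1, 1, 4, 3, 3, 0]]

theorem lb2 : lbCheck tab 6 [2, 1] 4 W2 = true := by decide +kernel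

def W3 : List (List ℕ) := [
  [],
  [5, 3, 3, 5, 3, 3],
  [3, 3, 0, 0, 3, 3, 0, 0],
  [0, 5, 2, 0, 4, 4, 3, 1, 3],
  [2, 5, 5, 0, 3, 5, 0, 0, 2, 0],
  [1, 4, 3, 3, 5, 0, 0, 2, 5],
  [2, 1, 2, 0, 0, 0, 0, 3, 5, 1, 5, 1, 3],
  [3, 3, 0, 2, 2, 1, 5, 5, 0, 3, 5, 0]]

theorem lb3 : lbCheck tab 6 [4, 2, 1] 8 W3 = true := by decide +kernel

def W4 : List (List ℕ) := [
  [],
  [4, 4, 3, 0, 3, 1, 2, 0, 4, 3, 3, 0],
  [4, 4, 3, 0, 3, 3, 1, 2, 0, 0, 2, 5, 5],
  [1, 1, 2, 2, 1, 1, 1, 3, 0, 3, 1, 4, 0, 2, 0, 0, 4]]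

theorem lb4 : lbCheck tab 6 [8, 4, 2, 1] 16 W4 = true := by decide +kernel

def W5 : List (List ℕ) := [
  [],
  [2, 2, 4, 2, 2, 4, 3, 4, 1, 2, 0, 0, 5, 2, 5, 3]]

theorem lb5 : lbCheck tab 6 [16, 8, 4, 2, 1] 32 W5 = true := by decide +kernel


theorem card_G0 : Nat.card G0 = 1451520 := by
  rw [Cfsg.Agent.Lib.Helper5.card_symplecticGroup_fin]
  simp [Finset.prod_range_succ, ZMod.card]

theorem card_H : 1451520 ≤ Nat.card (D.H D.m) := by
  have h0 := fixH_level D [] 1 (by decide) (by simp) W0 lb0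
  have h1 := fixH_level D [1] 2 (by decide) (by decide) W1 lb1
  have h2 := fixH_level D [2, 1] 4 (by decide) (by decide) W2 lb2
  have h3 := fixH_level D [4, 2, 1] 8 (by decide) (by decide) W3 lb3
  have h4 := fixH_level D [8, 4, 2, 1] 16 (by decide) (by decide) W4 lb4
  have h5 := fixH_level D [16, 8, 4, 2, 1] 32 (by decide) (by decide) W5 lb5
  have h6 : 1 ≤ Nat.card (fixH D [32, 16, 8, 4, 2, 1]) := Nat.card_pos
  rw [fixH_nil] at h0
  have e0 : W0.length = 63 := by decide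
  have e1 : W1.length = 30 := by decide
  have e2 : W2.length = 12 := by decide
  have e3 : W3.length = 8 := by decide
  have e4 : W4.length = 4 := by decide
  have e5 : W5.length = 2 := by decide
  rw [e0] at h0; rw [e1] at h1; rw [e2] at h2; rw [e3] at h3; rw [e4] at h4; rw [e5] at h5
  have c5 := le_trans (Nat.mul_le_mul_left 2 h6) h5
  have c4 := le_trans (Nat.mul_le_mul_left 4 c5) h4
  have c3 := le_trans (Nat.mul_le_mul_left 8 c4) h3
  have c2 := le_trans (Nat.mul_le_mul_left 12 c3) h2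
  have c1 := le_trans (Nat.mul_le_mul_left 30 c2) h1
  have c0 := le_trans (Nat.mul_le_mul_left 63 c1) h0
  exact le_trans (by norm_num) c0

theorem closure_g : Subgroup.closure {y | ∃ i < 3, y = g i} = ⊤ := by
  have hle : D.H D.m ≤ Subgroup.closure {y | ∃ i < 3, y = g i} := by
    show Subgroup.closure (D.S 6) ≤ _
    rw [Subgroup.closure_le]
    rintro x ⟨l, hl, rfl⟩
    show lv g l ∈ _
    unfold lv
    split_ifs
    · exact Subgroup.subset_closure ⟨l / 2, by omega, rfl⟩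
    · exact Subgroup.inv_mem _ (Subgroup.subset_closure ⟨l / 2, by omega, rfl⟩)
  apply Subgroup.eq_top_of_card_eq
  apply le_antisymm (Subgroup.card_le_card_group _)
  rw [card_G0]
  exact le_trans card_H (Subgroup.card_le_of_le hle)

/-! ### orders -/

def ord (i : ℕ) : ℕ := ([7, 7, 5]).getD i 1

def powRels : List Word := [powWord 7 0, powWord 7 1, powWord 5 2]

theorem powRels_ok : relsOK powRels = true := by decide +kernel

theorem g_pow (i : ℕ) : g i ^ ord i = 1 := by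
  by_cases h : i < 3
  · have hv := relsOK_valid powRels powRels_ok
    interval_cases i
    · have := hv (powWord 7 0) (by simp [powRels])
      rwa [ev_powWord] at this
    · have := hv (powWord 7 1) (by simp [powRels])
      rwa [ev_powWord] at this
    · have := hv (powWord 5 2) (by simp [powRels])
      rwa [ev_powWord] at this
  · rw [g, if_neg h, one_pow]

theorem ord_coprime (p : ℕ) (hp : p = 2 ∨ p = 3) (i : ℕ) : (ord i).Coprime p := by
  unfold ord
  by_cases h : i < 3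
  · rcases hp with rfl | rfl <;> interval_cases i <;> decide
  · rw [List.getD_eq_default _ _ (by simp; omega)]
    exact Nat.coprime_one_left p

theorem orderOf_g (i : ℕ) (hi : i < 3) : orderOf (g i) = ord i := by
  have hp : (ord i).Prime := by interval_cases i <;> norm_num [ord]
  have : Fact (ord i).Prime := ⟨hp⟩
  apply orderOf_eq_prime (g_pow i)
  have h := ev_ne_one [2 * i] (by intro c hc; rw [List.mem_singleton] at hc; omega) ([1, 1, 1].getD i 0)
    (by interval_cases i <;> decide)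
    (by interval_cases i <;> decide +kernel)
  rwa [ev_cons, ev_nil, mul_one, lv_two_mul] at h

end Cfsg.Agent.Lib.Helper89.Mult.Sp6G
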