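import Cfsg.Agent.Lib.Helper89.Mult.Sp6Valid
import Cfsg.Agent.Lib.Helper89.Mult.Sp6MV_All
import Cfsg.Agent.Lib.Helper89.Mult.Q0Cert
import Cfsg.Agent.Lib.Helper89.Mult.Q1Cert
import Cfsg.Agent.Lib.Helper89.Mult.Q2Cert
import Cfsg.Agent.Lib.Helper89.StemModel

/-! # The Schur multiplier of `Sp(6, 2)` is cyclic of order two -/

set_option autoImplicit false
set_option maxRecDepth 100000

namespace Cfsg.Agent.Lib.Helper89.Mult.Sp6Main

open Cfsg Cfsg.Agent.Lib.Helper89.CosetCert Cfsg.Agent.Lib.Helper89.SafePres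
open Cfsg.Agent.Lib.Helper89.StemSafe Cfsg.Agent.Lib.Helper89.SafePres2
open Cfsg.Agent.Lib.Helper89.StemModel Cfsg.Agent.Lib.Helper89.PermTab
open Cfsg.Agent.Lib.Helper89.Mult.Sp6G
open scoped commutatorElement

/-- all conjugation relators -/
def srelsAll : List SRel := Q1.srels ++ Q2.srels

theorem hvalid : ∀ r ∈ srelsAll, ev g r.word = 1 := by
  intro r hr
  unfold srelsAll at hr
  rw [List.mem_append] at hr
  rcases hr with hr | hr
  · exact hvalidQ1 r hr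
  · exact hvalidQ2 r hr

theorem hvalidM : ∀ r ∈ srelsAll, ev Sp6Mod.T.gm r.word = 1 := by
  intro r hr
  unfold srelsAll at hr
  rw [List.mem_append] at hr
  rcases hr with hr | hr
  · exact Sp6Mod.hvalidQ1 r hr
  · exact Sp6Mod.hvalidQ2 r hr

theorem pw0 : ∀ q ∈ Q0.pw, q.1 = ord q.2 ∧ q.2 < 3 := by decide
theorem pw1 : ∀ q ∈ Q1.pw, q.1 = ord q.2 ∧ q.2 < 3 := by decide
theorem pw2 : ∀ q ∈ Q2.pw, q.1 = ord q.2 ∧ q.2 < 3 := by decide

theorem closure_empty {L : Type*} [Group L] (t : ℕ → L) :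
    Nat.card (Subgroup.closure {y | ∃ i < 0, y = t i}) ≤ 1 := by
  have : {y | ∃ i < 0, y = t i} = (∅ : Set L) := by
    ext y
    simp
  rw [this, Subgroup.closure_empty, Subgroup.card_bot]

/-- the chain of coset enumerations bounds the order of any group satisfying the relators -/
theorem hbound (L : Type) [Group L] [Finite L] (t : ℕ → L) (ht : ∀ i < 3, t i ^ ord i = 1)
    (hs : ∀ r ∈ srelsAll, ev t r.word = 1) :
    Nat.card (Subgroup.closure {y | ∃ i < 3, y = t i}) ≤ 2903040 := by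
  have hs1 : ∀ r ∈ Q1.srels, ev t r.word = 1 := fun r hr => hs r (List.mem_append_left _ hr)
  have hs2 : ∀ r ∈ Q2.srels, ev t r.word = 1 := fun r hr => hs r (List.mem_append_right _ hr)
  have hr0 : ∀ r ∈ Q0.cert.rels, ev t r = 1 := by
    show ∀ r ∈ Q0.rels, ev t r = 1
    rw [Q0.rels_eq]
    exact rels_valid t _ _ (fun q hq => by rw [(pw0 q hq).1]; exact ht _ (pw0 q hq).2)
      (fun r hr => absurd hr (List.not_mem_nil))
  have hr1 : ∀ r ∈ Q1.cert.rels, ev t r = 1 := by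
    show ∀ r ∈ Q1.rels, ev t r = 1
    rw [Q1.rels_eq]
    exact rels_valid t _ _ (fun q hq => by rw [(pw1 q hq).1]; exact ht _ (pw1 q hq).2) hs1
  have hr2 : ∀ r ∈ Q2.cert.rels, ev t r = 1 := by
    show ∀ r ∈ Q2.rels, ev t r = 1
    rw [Q2.rels_eq]
    exact rels_valid t _ _ (fun q hq => by rw [(pw2 q hq).1]; exact ht _ (pw2 q hq).2) hs2
  have c0 := cert_step t Q0.cert Q0.cert_ok hr0 1 (closure_empty t)
  have c1 := cert_step t Q1.cert Q1.cert_ok hr1 _ c0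
  have c2 := cert_step t Q2.cert Q2.cert_ok hr2 _ c1
  exact c2

/-! ### the model `2.Sp(6, 2)` -/

/-- the ambient group of the model -/
abbrev LL : Type := Equiv.Perm (Fin Sp6Mod.T.N) × G0

/-- the generators of the cover -/
def mm (i : ℕ) : LL := (Sp6Mod.T.gm i, g i)

theorem ev_mm (w : Word) : ev mm w = (ev Sp6Mod.T.gm w, ev g w) := ev_prod _ _ w

theorem mm_pow (i : ℕ) : mm i ^ ord i = 1 := by
  apply Prod.ext
  · rw [Prod.pow_fst]
    exact Sp6Mod.gm_pow i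
  · rw [Prod.pow_snd]
    exact g_pow i

theorem mm_rel : ∀ r ∈ srelsAll, ev mm r.word = 1 := by
  intro r hr
  rw [ev_mm, hvalid r hr, hvalidM r hr]
  rfl

theorem card_cov_le : Nat.card (cov 3 mm) ≤ 2 * Nat.card G0 := by
  rw [card_G0]
  exact hbound LL mm (fun i _ => mm_pow i) mm_rel

theorem ev_mm_wz : ev mm Sp6Mod.wz = (ev Sp6Mod.T.gm Sp6Mod.wz, 1) := by
  rw [ev_mm, ev_wz]

theorem hzord : orderOf (ev mm Sp6Mod.wz) = 2 := by
  have : Fact (Nat.Prime 2) := ⟨Nat.prime_two⟩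
  apply orderOf_eq_prime
  · rw [ev_mm_wz]
    apply Prod.ext
    · rw [Prod.pow_fst, ← ev_flatten_replicate]
      exact Sp6Mod.T.relsOK_valid _ Sp6Mod.wz_pow_ok _ (List.mem_singleton.2 rfl)
    · rw [Prod.pow_snd, one_pow]
      rfl
  · intro h
    rw [ev_mm_wz] at h
    exact Sp6Mod.wz_ne (congrArg Prod.fst h)

theorem hzcomm (i : ℕ) (hi : i < 3) : mm i * ev mm Sp6Mod.wz = ev mm Sp6Mod.wz * mm i := by
  rw [ev_mm_wz]
  apply Prod.ext
  · exact Sp6Mod.wz_comm i hi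
  · show g i * 1 = 1 * g i
    rw [mul_one, one_mul]

theorem hperf (i : ℕ) (hi : i < 3) :
    ∃ (W : Word) (n : ℕ), (∀ l ∈ W, l < 2 * 3) ∧ mm i = ⁅ev mm W, mm i⁆ ^ n := by
  refine ⟨Sp6Mod.perfW i, Sp6Mod.perfN i, Sp6Mod.perfW_letters i hi, ?_⟩
  apply eq_of_perfWord
  have hrel : perfWord (Sp6Mod.perfW i) i (Sp6Mod.perfN i) = Sp6Mod.perfRel i := rfl
  rw [hrel, ev_mm]
  have h1 : ev Sp6Mod.T.gm (Sp6Mod.perfRel i) = 1 :=
    Sp6Mod.T.relsOK_valid _ Sp6Mod.perfRels_ok _ (by interval_cases i <;> simp)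
  have h2 : ev g (Sp6Mod.perfRel i) = 1 :=
    relsOK_valid _ perf_ok _ (by interval_cases i <;> simp)
  rw [h1, h2]
  rfl

/-- the projection of the model onto `Sp(6, 2)` -/
abbrev τ : LL →* G0 := MonoidHom.snd (Equiv.Perm (Fin Sp6Mod.T.N)) G0

/-- the facts about the explicit cover `2.Sp(6, 2)` -/
theorem model : Cfsg.IsStemExtension (covHom τ 3 mm) ∧ Nat.card (covHom τ 3 mm).ker = 2 ∧
      IsCyclic (covHom τ 3 mm).ker ∧
      (∀ x ∈ cov 3 mm, τ x = 1 → x ∈ Subgroup.zpowers (ev mm Sp6Mod.wz)) ∧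
      Nat.card (cov 3 mm) = 2 * Nat.card G0 :=
  model_stem τ 3 mm g (fun _ => rfl)
    closure_g 2 card_cov_le Sp6Mod.wz Sp6Mod.wz_letters
    (by rw [ev_mm_wz]; rfl) hzord hzcomm hperf

/-! ### the `p`-part of the kernel of a stem extension, `p = 2, 3` -/

theorem localp (p : ℕ) [hp : Fact p.Prime] (hp23 : p = 2 ∨ p = 3)
    (Γ' : Type) [Group Γ'] [Finite Γ'] (σ' : Γ' →* G0)
    (hσ : Cfsg.IsStemExtension σ') (hpk : ∀ z ∈ σ'.ker, ∃ n : ℕ, z ^ (p ^ n) = 1) :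
    IsCyclic σ'.ker ∧ Nat.card σ'.ker ∣ 2 := by
  obtain ⟨t, hσt, ht, hrel⟩ :=
    exists_lifts p g ord g_pow (ord_coprime p hp23) srelsAll hvalid σ' hσ hpk
  have hD : Nat.card (Subgroup.closure {y | ∃ i < 3, y = ((t i, mm i) : Γ' × LL)}) ≤
      Nat.card (Subgroup.closure {y | ∃ i < 3, y = mm i}) := by
    have h1 := hbound (Γ' × LL) (fun i => (t i, mm i))
      (fun i _ => by
        apply Prod.ext
        · rw [Prod.pow_fst]; exact ht i
        · rw [Prod.pow_snd]; exact mm_pow i)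
      (fun r hr => by
        rw [ev_prod, hrel r hr, mm_rel r hr]
        rfl)
    have h2 : Nat.card (cov 3 mm) = 2 * Nat.card G0 := model.2.2.2.2
    rw [card_G0] at h2
    show _ ≤ Nat.card (cov 3 mm)
    rw [h2]
    exact h1
  have hze : ev mm Sp6Mod.wz ^ 2 = 1 := by
    have h := pow_orderOf_eq_one (ev mm Sp6Mod.wz)
    rwa [hzord] at h
  obtain ⟨hz2, hker⟩ := diag_ker σ' τ 3 t mm
    (fun i => by rw [hσt]; rfl) hD Sp6Mod.wz Sp6Mod.wz_letters 2 hze model.2.2.2.1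
  have hKT := ker_le_closure σ' hσ 3 g t hσt closure_g
  have hζk : ev t Sp6Mod.wz ∈ σ'.ker := by
    rw [MonoidHom.mem_ker, ev_map_hom, funext hσt]
    exact ev_wz
  have hall : ∀ x : σ'.ker, x ∈ Subgroup.zpowers (⟨ev t Sp6Mod.wz, hζk⟩ : σ'.ker) := by
    intro x
    obtain ⟨j, hj⟩ := Subgroup.mem_zpowers_iff.1 (hker x.1 (hKT x.2) (MonoidHom.mem_ker.1 x.2))
    rw [Subgroup.mem_zpowers_iff]
    refine ⟨j, Subtype.ext ?_⟩
    rw [Subgroup.coe_zpow]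
    exact hj
  refine ⟨⟨⟨⟨ev t Sp6Mod.wz, hζk⟩, hall⟩⟩, ?_⟩
  rw [← orderOf_eq_card_of_forall_mem_zpowers hall, Subgroup.orderOf_mk]
  exact orderOf_dvd_of_pow_eq_one hz2

theorem local2 (Γ' : Type) [Group Γ'] [Finite Γ'] (σ' : Γ' →* G0)
    (hσ : Cfsg.IsStemExtension σ') (hpk : ∀ z ∈ σ'.ker, ∃ n : ℕ, z ^ (2 ^ n) = 1) :
    IsCyclic σ'.ker ∧ Nat.card σ'.ker ∣ 2 ^ 1 := by
  have : Fact (Nat.Prime 2) := ⟨Nat.prime_two⟩
  have h := localp 2 (Or.inl rfl) Γ' σ' hσ hpk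
  rwa [pow_one]

theorem local3 (Γ' : Type) [Group Γ'] [Finite Γ'] (σ' : Γ' →* G0)
    (hσ : Cfsg.IsStemExtension σ') (hpk : ∀ z ∈ σ'.ker, ∃ n : ℕ, z ^ (3 ^ n) = 1) :
    IsCyclic σ'.ker ∧ Nat.card σ'.ker ∣ 3 ^ 0 := by
  have : Fact (Nat.Prime 3) := ⟨by norm_num⟩
  obtain ⟨hc, hd⟩ := localp 3 (Or.inr rfl) Γ' σ' hσ hpk
  refine ⟨hc, ?_⟩
  rw [pow_zero, Nat.dvd_one]
  -- the kernel is a `3`-group of order dividing two
  have htriv : ∀ z : σ'.ker, z = 1 := by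
    intro z
    have h := pow_card_eq_one' (G := σ'.ker) (x := z)
    obtain ⟨n, hn⟩ := hpk z.1 z.2
    have hn' : z ^ (3 ^ n) = 1 := by
      apply Subtype.ext
      rw [Subgroup.coe_pow]
      exact hn
    have hd1 : orderOf z ∣ 2 := dvd_trans (orderOf_dvd_of_pow_eq_one h) hd
    have hd2 := orderOf_dvd_of_pow_eq_one hn'
    have hcop : Nat.Coprime 2 (3 ^ n) := Nat.Coprime.pow_right n (by norm_num)
    exact orderOf_eq_one_iff.1 (Nat.eq_one_of_dvd_coprimes hcop hd1 hd2)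
  have : Subsingleton σ'.ker := ⟨fun x y => by rw [htriv x, htriv y]⟩
  exact Nat.card_eq_one_iff_unique.2 ⟨this, ⟨1⟩⟩

/-! ### the theorem -/

theorem part1 : ∃ (Γ : Type) (_ : Group Γ) (_ : Finite Γ) (σ : Γ →* G0),
    Cfsg.IsStemExtension σ ∧ Nonempty (σ.ker ≃* Multiplicative (ZMod 2)) := by
  obtain ⟨hs, hc, hcyc, -, -⟩ := model
  refine ⟨↥(cov 3 mm), inferInstance, inferInstance, covHom τ 3 mm, hs, ?_⟩
  have hcard : Nat.card (covHom τ 3 mm).ker = Nat.card (Multiplicative (ZMod 2)) := by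
    rw [hc, Nat.card_eq_fintype_card, Fintype.card_multiplicative, ZMod.card]
  exact ⟨mulEquivOfCyclicCardEq hcard⟩

theorem part2 (Γ : Type) [Group Γ] [Finite Γ] (σ : Γ →* G0)
    (hσ : Cfsg.IsStemExtension σ) :
    ∃ π : Multiplicative (ZMod 2) →* σ.ker, Function.Surjective π := by
  have h2 : Fact (Nat.Prime 2) := ⟨Nat.prime_two⟩
  have h3 : Fact (Nat.Prime 3) := ⟨by norm_num⟩
  have hother : ∀ z ∈ σ.ker, ∃ i j : ℕ, z ^ (2 ^ i * 3 ^ j) = 1 := by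
    intro z hz
    have h5 : ¬ 5 ∣ orderOf z :=
      not_dvd_of_cyclic_sylow σ hσ 5 (by norm_num) (g 2) 1 290304
        (by rw [pow_one]; exact orderOf_g 2 (by norm_num))
        (by rw [card_G0]; norm_num) (by norm_num) hz
    have h7 : ¬ 7 ∣ orderOf z :=
      not_dvd_of_cyclic_sylow σ hσ 7 (by norm_num) (g 0) 1 207360
        (by rw [pow_one]; exact orderOf_g 0 (by norm_num))
        (by rw [card_G0]; norm_num) (by norm_num) hz
    have hc := pow_card_eq_one σ hσ hz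
    rw [card_G0] at hc
    have hd := orderOf_dvd_of_pow_eq_one hc
    have hcop : (orderOf z).Coprime 35 := by
      have e : (35 : ℕ) = 5 * 7 := by norm_num
      rw [e]
      refine Nat.Coprime.mul_right ?_ ?_
      · exact (Nat.Coprime.symm ((Nat.Prime.coprime_iff_not_dvd (by norm_num)).2 h5))
      · exact (Nat.Coprime.symm ((Nat.Prime.coprime_iff_not_dvd (by norm_num)).2 h7))
    have hd2 : orderOf z ∣ 2 ^ 9 * 3 ^ 4 := by
      have e : (1451520 : ℕ) = 2 ^ 9 * 3 ^ 4 * 35 := by norm_num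
      rw [e] at hd
      exact (Nat.Coprime.dvd_mul_right hcop).1 hd
    exact ⟨9, 4, orderOf_dvd_iff_pow_eq_one.1 hd2⟩
  have h := exists_surj_of_local σ hσ 2 3 (by norm_num) 1 0 hother
    (fun Γ' _ _ σ' hσ' hpk => local2 Γ' σ' hσ' hpk)
    (fun Γ' _ _ σ' hσ' hpk => local3 Γ' σ' hσ' hpk)
  simpa using h

theorem multiplier_Sp6 : Cfsg.HasCyclicSchurMultiplier G0 2 :=
  ⟨part1, fun Γ _ _ σ hσ => part2 Γ σ hσ⟩

end Cfsg.Agent.Lib.Helper89.Mult.Sp6Main
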