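import Cfsg.Agent.Lib.Helper89.Mult.Sp6G
import Cfsg.Agent.Lib.Helper89.Mult.Sp6Mod
import Cfsg.Agent.Lib.Helper89.Mult.Q1Rels
import Cfsg.Agent.Lib.Helper89.Mult.Q2Rels

/-! # The conjugation relators of the presentation hold in `Sp(6, 2)` -/

set_option autoImplicit false
set_option maxRecDepth 100000
set_option maxHeartbeats 0
set_option Elab.async false

namespace Cfsg.Agent.Lib.Helper89.Mult.Sp6G

open Cfsg.Agent.Lib.Helper89.CosetCert Cfsg.Agent.Lib.Helper89.SafePres

theorem validQ1_0 : relsOK (Q1.srels0.map SRel.word) = true := by decide +kernel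

theorem hvalidQ1 : ∀ r ∈ Q1.srels, ev g r.word = 1 := by
  intro r hr
  have h := Q1.mem_srels hr
  exact relsOK_valid _ validQ1_0 _ (List.mem_map_of_mem h)

theorem validQ2_0 : relsOK (Q2.srels0.map SRel.word) = true := by decide +kernel

theorem hvalidQ2 : ∀ r ∈ Q2.srels, ev g r.word = 1 := by
  intro r hr
  have h := Q2.mem_srels hr
  exact relsOK_valid _ validQ2_0 _ (List.mem_map_of_mem h)

/-- the central word of the model is trivial in `Sp(6, 2)` -/
theorem wz_ok : relsOK [Sp6Mod.wz] = true := by decide +kernel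

theorem ev_wz : ev g Sp6Mod.wz = 1 := relsOK_valid _ wz_ok _ (List.mem_singleton.2 rfl)

theorem perf_ok : relsOK [Sp6Mod.perfRel 0, Sp6Mod.perfRel 1, Sp6Mod.perfRel 2] = true := by
  decide +kernel

end Cfsg.Agent.Lib.Helper89.Mult.Sp6G
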